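import Groth.Agent.Lib.Branch14.Count
import Groth.Agent.Lib.Hens.Reduced
import Groth.Prelude.Def_CAlgX
import Mathlib.FieldTheory.PurelyInseparable.Basic

/-!
# Branches, unibranch local rings and henselizations
-/

open scoped TensorProduct

set_option backward.isDefEq.respectTransparency.types false
set_option maxSynthPendingDepth 3

namespace Groth.Agent.Branch14

open IsLocalRing

universe u

variable (A : Type u) [CommRing A] [IsLocalRing A]

theorem numBranches_of_finite (h : (minimalPrimes A).Finite) :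
    Brnch.numBranches A = ENat.card (MaximalSpectrum (CAlg2.normRed A)) :=
  if_pos h

theorem numGeomBranches_of_finite (h : (minimalPrimes A).Finite) :
    Brnch.numGeomBranches A =
      ENat.card (Σ m' : MaximalSpectrum (CAlg2.normRed A), Brnch.Emb A m') :=
  if_pos h

theorem card_minimalPrimes_henselization (S : Type u) [CommRing S] [IsLocalRing S] [Algebra A S]
    [IsLocalHom (algebraMap A S)] [Hensel.IsHenselization A S] :
    ENat.card (minimalPrimes S) = Brnch.numBranches A := by
  have hg := good_henselization A S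
  by_cases h : (minimalPrimes A).Finite
  · obtain ⟨e⟩ := hg.nonempty_equiv h
    obtain ⟨e'⟩ := nonempty_maximalSpectrum_equiv A S
    rw [numBranches_of_finite A h]
    exact ENat.card_congr (e.trans e'.symm)
  · rw [hg.card_eq_top h]
    exact (if_neg h).symm

theorem card_minimalPrimes_strictHenselization (S : Type u) [CommRing S] [IsLocalRing S] [Algebra A S]
    [IsLocalHom (algebraMap A S)] [Hensel.IsStrictHenselization A S] :
    ENat.card (minimalPrimes S) = Brnch.numGeomBranches A := by
  have hg := good_strictHenselization A S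
  by_cases h : (minimalPrimes A).Finite
  · obtain ⟨e⟩ := hg.nonempty_equiv h
    obtain ⟨e'⟩ := nonempty_maximalSpectrum_equiv_emb A S
    rw [numGeomBranches_of_finite A h]
    exact ENat.card_congr (e.trans e'.symm)
  · rw [hg.card_eq_top h]
    exact (if_neg h).symm

theorem isLocalRing_iff_card_maximalSpectrum (R : Type u) [CommRing R] :
    IsLocalRing R ↔ ENat.card (MaximalSpectrum R) = 1 := by
  rw [ENat.card_eq_one_iff_unique, unique_iff_subsingleton_and_nonempty]
  constructor
  · intro _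
    exact ⟨⟨fun m m' => MaximalSpectrum.ext
      ((eq_maximalIdeal m.isMaximal).trans (eq_maximalIdeal m'.isMaximal).symm)⟩,
      ⟨⟨maximalIdeal R, maximalIdeal.isMaximal R⟩⟩⟩
  · rintro ⟨hs, ⟨m⟩⟩
    exact IsLocalRing.of_unique_max_ideal ⟨m.asIdeal, m.isMaximal, fun I hI =>
      congrArg MaximalSpectrum.asIdeal (hs.elim ⟨I, hI⟩ m)⟩

theorem numBranches_eq_one_iff : Brnch.numBranches A = 1 ↔ CAlg2.IsUnibranch A := by
  constructor
  · intro h
    have hfin : (minimalPrimes A).Finite := by
      by_contra hn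
      rw [Brnch.numBranches, if_neg hn] at h
      exact ENat.top_ne_one h
    rw [numBranches_of_finite A hfin, ← isLocalRing_iff_card_maximalSpectrum] at h
    refine ⟨?_, h⟩
    let m := maximalIdeal (CAlg2.normRed A)
    have := (normRed_localization_normal A hfin m).1
    have hinj : Function.Injective (algebraMap (CAlg2.normRed A) (Localization.AtPrime m)) :=
      IsLocalization.injective (M := m.primeCompl) _ fun x hx =>
        IsUnit.mem_nonZeroDivisors (IsLocalRing.notMem_maximalIdeal.1 hx)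
    have : IsDomain (CAlg2.normRed A) := hinj.isDomain (algebraMap _ (Localization.AtPrime m))
    have hinj' : Function.Injective (algebraMap (CAlg2.red A) (CAlg2.normRed A)) := fun x y hxy =>
      IsFractionRing.injective (CAlg2.red A) (FractionRing (CAlg2.red A)) (congrArg Subtype.val hxy)
    exact hinj'.isDomain (algebraMap (CAlg2.red A) (CAlg2.normRed A))
  · rintro ⟨hd, hl⟩
    have hprime : (nilradical A).IsPrime := (Ideal.Quotient.isDomain_iff_prime _).1 hd
    have hfin : (minimalPrimes A).Finite := (Set.finite_singleton (nilradical A)).subset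
      fun p hp => by
        have := hp.1.1
        exact le_antisymm (hp.2 ⟨hprime, bot_le⟩ (nilradical_le_of_prime A p))
          (nilradical_le_of_prime A p)
    rw [numBranches_of_finite A hfin, ← isLocalRing_iff_card_maximalSpectrum]
    exact hl

theorem emb_core {L : Type u} [Field L] (r : A →+* L) (hr : ∀ a ∈ maximalIdeal A, r a = 0)
    (hint : r.IsIntegral) :
    Nonempty {σ : L →+* AlgebraicClosure (ResidueField A) // σ.comp r = Brnch.toClosure A} ∧
      (Subsingleton {σ : L →+* AlgebraicClosure (ResidueField A) // σ.comp r = Brnch.toClosure A} ↔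
        ∀ x : L, ∃ n : ℕ, x ^ (ringExpChar L) ^ n ∈ r.range) := by
  let κ := ResidueField A
  let Ω := AlgebraicClosure κ
  let _ : Algebra κ L := (Ideal.Quotient.lift _ r hr).toAlgebra
  have : Algebra.IsIntegral κ L := ⟨fun z => by
    obtain ⟨P, hP, hPz⟩ := hint z
    refine ⟨P.map (residue A), hP.map _, ?_⟩
    rw [Polynomial.eval₂_map, show (algebraMap κ L).comp (residue A) = r from rfl, hPz]⟩
  have : Algebra.IsAlgebraic κ L := inferInstance
  have hto : ∀ (σ : {σ : L →+* Ω // σ.comp r = Brnch.toClosure A}) (x : κ), σ.1 (algebraMap κ L x) = algebraMap κ Ω x := fun σ x => by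
    obtain ⟨a, rfl⟩ := residue_surjective x
    exact congr($(σ.2) a)
  let eE : {σ : L →+* Ω // σ.comp r = Brnch.toClosure A} ≃ (L →ₐ[κ] Ω) :=
    { toFun := fun σ => { σ.1 with commutes' := hto σ }
      invFun := fun σ => ⟨σ.toRingHom, RingHom.ext fun a => σ.commutes (residue A a)⟩
      left_inv := fun σ => rfl
      right_inv := fun σ => rfl }
  refine ⟨⟨eE.symm IsAlgClosed.lift⟩, ?_⟩
  have hdeg : Subsingleton ({σ : L →+* Ω // σ.comp r = Brnch.toClosure A}) ↔ IsPurelyInseparable κ L := by
    rw [isPurelyInseparable_iff_finSepDegree_eq_one, Field.finSepDegree,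
      Nat.card_eq_one_iff_unique, eE.subsingleton_congr,
      (Field.embEquivOfIsAlgClosed κ L Ω).subsingleton_congr]
    exact (and_iff_left ⟨IsAlgClosed.lift⟩).symm
  rw [hdeg]
  obtain ⟨q, hq⟩ : ∃ q, ExpChar κ q := ExpChar.exists κ
  have : ExpChar L q := expChar_of_injective_ringHom (algebraMap κ L).injective q
  rw [isPurelyInseparable_iff_pow_mem κ q, show ringExpChar L = q from ringExpChar.eq L q]
  refine forall_congr' fun x => exists_congr fun n => ?_
  constructor
  · rintro ⟨l, hl⟩
    obtain ⟨a, rfl⟩ := residue_surjective l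
    exact ⟨a, hl⟩
  · rintro ⟨a, ha⟩
    exact ⟨residue A a, ha⟩

theorem emb_iff (m : MaximalSpectrum (CAlg2.normRed A)) :
    Nonempty (Brnch.Emb A m) ∧
      (Subsingleton (Brnch.Emb A m) ↔ ∀ x : CAlg2.normRed A ⧸ m.asIdeal,
        ∃ n : ℕ, x ^ (ringExpChar (CAlg2.normRed A ⧸ m.asIdeal)) ^ n ∈
          (Brnch.toResidue A m).range) := by
  have := m.isMaximal
  let _ := Ideal.Quotient.field m.asIdeal
  have hc : m.asIdeal.comap (algebraMap A (CAlg2.normRed A)) = maximalIdeal A :=
    eq_maximalIdeal (Ideal.isMaximal_comap_of_isIntegral_of_isMaximal (R := A) m.asIdeal)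
  refine emb_core A (Brnch.toResidue A m) (fun a ha => Ideal.Quotient.eq_zero_iff_mem.2 (hc.ge ha))
    fun z => ?_
  obtain ⟨z, rfl⟩ := Ideal.Quotient.mk_surjective z
  obtain ⟨P, hP, hPz⟩ := Algebra.IsIntegral.isIntegral (R := A) z
  refine ⟨P, hP, ?_⟩
  rw [show Brnch.toResidue A m = (Ideal.Quotient.mk m.asIdeal).comp
    (algebraMap A (CAlg2.normRed A)) from rfl, ← Polynomial.hom_eval₂, hPz, map_zero]

theorem card_sigma_eq_one_iff {ι : Type u} {F : ι → Type u} (hne : ∀ i, Nonempty (F i)) :
    ENat.card (Σ i, F i) = 1 ↔ ENat.card ι = 1 ∧ ∀ i, Subsingleton (F i) := by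
  rw [ENat.card_eq_one_iff_unique, ENat.card_eq_one_iff_unique,
    unique_iff_subsingleton_and_nonempty, unique_iff_subsingleton_and_nonempty]
  constructor
  · rintro ⟨hs, ⟨p⟩⟩
    refine ⟨⟨⟨fun i j => ?_⟩, ⟨p.1⟩⟩, fun i => ⟨fun a b => ?_⟩⟩
    · obtain ⟨a⟩ := hne i
      obtain ⟨b⟩ := hne j
      exact congrArg Sigma.fst (hs.elim ⟨i, a⟩ ⟨j, b⟩)
    · exact eq_of_heq (Sigma.mk.inj (hs.elim ⟨i, a⟩ ⟨i, b⟩)).2
  · rintro ⟨⟨hι, ⟨i⟩⟩, hF⟩
    obtain ⟨a⟩ := hne i
    refine ⟨⟨fun x y => ?_⟩, ⟨⟨i, a⟩⟩⟩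
    obtain ⟨xi, xa⟩ := x
    obtain ⟨yi, ya⟩ := y
    obtain rfl := hι.elim xi yi
    rw [(hF xi).elim xa ya]

theorem numGeomBranches_eq_one_iff :
    Brnch.numGeomBranches A = 1 ↔ CAlg2.IsGeomUnibranch A := by
  constructor
  · intro h
    have hfin : (minimalPrimes A).Finite := by
      by_contra hn
      rw [Brnch.numGeomBranches, if_neg hn] at h
      exact ENat.top_ne_one h
    rw [numGeomBranches_of_finite A hfin,
      card_sigma_eq_one_iff fun m => (emb_iff A m).1] at h
    refine ⟨(numBranches_eq_one_iff A).1 (by rw [numBranches_of_finite A hfin]; exact h.1), ?_⟩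
    intro m' hm'
    exact (emb_iff A ⟨m', hm'⟩).2.1 (h.2 ⟨m', hm'⟩)
  · rintro ⟨hu, hp⟩
    have hb := (numBranches_eq_one_iff A).2 hu
    have hfin : (minimalPrimes A).Finite := by
      by_contra hn
      rw [Brnch.numBranches, if_neg hn] at hb
      exact ENat.top_ne_one hb
    rw [numBranches_of_finite A hfin] at hb
    rw [numGeomBranches_of_finite A hfin, card_sigma_eq_one_iff fun m => (emb_iff A m).1]
    exact ⟨hb, fun m => (emb_iff A m).2.2 (@hp m.asIdeal m.isMaximal)⟩

theorem card_minimalPrimes_eq_one_iff (S : Type u) [CommRing S] :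
    ENat.card (minimalPrimes S) = 1 ↔ CAlgX.HasUniqueMinimalPrime S := by
  rw [ENat.card_eq_one_iff_unique, unique_iff_subsingleton_and_nonempty]
  constructor
  · rintro ⟨hs, ⟨p⟩⟩
    exact ⟨p.1, p.2, fun q hq => congrArg Subtype.val (hs.elim ⟨q, hq⟩ p)⟩
  · rintro ⟨p, hp, hu⟩
    exact ⟨⟨fun a b => Subtype.ext ((hu a.1 a.2).trans (hu b.1 b.2).symm)⟩, ⟨⟨p, hp⟩⟩⟩

theorem isGeomUnibranch_iff (S : Type u) [CommRing S] [IsLocalRing S] [Algebra A S]
    [IsLocalHom (algebraMap A S)] [Hensel.IsStrictHenselization A S] :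
    CAlg2.IsGeomUnibranch A ↔ CAlgX.HasUniqueMinimalPrime S := by
  rw [← card_minimalPrimes_eq_one_iff, card_minimalPrimes_strictHenselization A S,
    numGeomBranches_eq_one_iff]

theorem isReduced_and_isGeomUnibranch_iff (S : Type u) [CommRing S] [IsLocalRing S] [Algebra A S]
    [IsLocalHom (algebraMap A S)] [Hensel.IsStrictHenselization A S] :
    (_root_.IsReduced A ∧ CAlg2.IsGeomUnibranch A) ↔ IsDomain S := by
  rw [← Hens.strictHenselization_isReduced_iff A S, isGeomUnibranch_iff A S]
  constructor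
  · rintro ⟨hred, p, hp, hu⟩
    have hp0 : p = ⊥ := by
      refine eq_bot_iff.2 fun x hx => ?_
      have hn : x ∈ nilradical S := by
        rw [nilradical, Ideal.zero_eq_bot, ← Ideal.sInf_minimalPrimes, Ideal.mem_sInf]
        exact fun {q} hq => hu q hq ▸ hx
      rwa [nilradical_eq_zero] at hn
    have := hp.1.1
    subst hp0
    exact IsDomain.of_bot_isPrime S
  · intro hd
    exact ⟨inferInstance, ⊥, ⟨⟨Ideal.isPrime_bot, le_rfl⟩, fun q hq _ => bot_le⟩,
      fun q hq => eq_bot_iff.2 (hq.2 ⟨Ideal.isPrime_bot, le_rfl⟩ bot_le)⟩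

end Groth.Agent.Branch14
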