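import Groth.Agent.Lib.Branch14.Fibre
import Mathlib.Data.Set.Card.Arithmetic
import Groth.Prelude.Def_EGA4b

/-!
# Branches: irreducible decomposition and etale invariance
-/

universe u

set_option backward.isDefEq.respectTransparency.types false
set_option maxSynthPendingDepth 3
set_option linter.style.haveILetI false

open AlgebraicGeometry CategoryTheory IsLocalRing

namespace Groth.Agent.Branch14

open Groth.Agent.Hens

section Local

variable (A : Type u) [CommRing A] [IsLocalRing A]

theorem isReduced_and_isUnibranch_iff (S : Type u) [CommRing S] [IsLocalRing S] [Algebra A S]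
    [IsLocalHom (algebraMap A S)] [Hensel.IsHenselization A S] :
    (_root_.IsReduced A ∧ CAlg2.IsUnibranch A) ↔ IsDomain S := by
  rw [Hens.henselization_isReduced_iff A S, ← numBranches_eq_one_iff,
    ← card_minimalPrimes_henselization A S, card_minimalPrimes_eq_one_iff]
  constructor
  · rintro ⟨hred, p, hp, hu⟩
    have hp0 : p = ⊥ := by
      refine eq_bot_iff.2 fun x hx => ?_
      have hn : x ∈ nilradical S := by
        rw [nilradical, Ideal.zero_eq_bot, ← Ideal.sInf_minimalPrimes, Ideal.mem_sInf]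
        exact fun {q} hq => hu q hq ▸ hx
      rwa [nilradical_eq_zero] at hn
    have := hp.1.1
    subst hp0
    exact IsDomain.of_bot_isPrime S
  · intro hd
    exact ⟨inferInstance, ⊥, ⟨⟨Ideal.isPrime_bot, le_rfl⟩, fun q hq _ => bot_le⟩,
      fun q hq => eq_bot_iff.2 (hq.2 ⟨Ideal.isPrime_bot, le_rfl⟩ bot_le)⟩

theorem encard_minimalPrimes_eq_finsum (S : Type u) [CommRing S] [Algebra A S] [Module.Flat A S]
    (h : (minimalPrimes A).Finite) :
    (minimalPrimes S).encard =
      ∑ᶠ p : minimalPrimes A, (p.1.map (algebraMap A S)).minimalPrimes.encard := by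
  haveI : Finite (minimalPrimes A) := h.to_subtype
  have hset : ∀ p : minimalPrimes A, (p.1.map (algebraMap A S)).minimalPrimes =
      {P | P ∈ minimalPrimes S ∧ P.comap (algebraMap A S) = p.1} := by
    intro p
    ext P
    constructor
    · intro hP
      have := hP.1.1
      obtain ⟨P', hP', hle⟩ := Ideal.exists_minimalPrimes_le (I := (⊥ : Ideal S)) (J := P) bot_le
      have := hP'.1.1
      have hcP : P.comap (algebraMap A S) = p.1 := by
        have hp := p.2.1.1
        have : P.LiesOver (P.comap (algebraMap A S)) := ⟨rfl⟩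
        obtain ⟨Q, hQle, hQ, hQp⟩ := Ideal.exists_ideal_le_liesOver_of_le P (p := p.1)
          (Ideal.map_le_iff_le_comap.1 hP.1.2)
        have hQP : P ≤ Q := hP.2 ⟨hQ, Ideal.map_le_iff_le_comap.2 hQp.over.le⟩ hQle
        rw [le_antisymm hQP hQle]
        exact hQp.over.symm
      have h1 : P'.comap (algebraMap A S) ≤ p.1 := (Ideal.comap_mono hle).trans hcP.le
      have h2 : p.1 ≤ P'.comap (algebraMap A S) := p.2.2 ⟨inferInstance, bot_le⟩ h1
      have h3 : P ≤ P' := hP.2 ⟨inferInstance, Ideal.map_le_iff_le_comap.2 h2⟩ hle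
      exact ⟨le_antisymm h3 hle ▸ hP', hcP⟩
    · rintro ⟨hP, hPp⟩
      exact ⟨⟨hP.1.1, Ideal.map_le_iff_le_comap.2 hPp.ge⟩, fun Q hQ hle => hP.2 ⟨hQ.1, bot_le⟩ hle⟩
  simp only [hset]
  rw [← Set.encard_iUnion_of_finite fun p q hpq => Set.disjoint_left.2 fun P hP hQ =>
    hpq (Subtype.ext (hP.2.symm.trans hQ.2))]
  congr 1
  ext P
  simp only [Set.mem_iUnion, Set.mem_setOf_eq]
  exact ⟨fun hP => ⟨⟨_, comap_mem_minimalPrimes_of_flat (R := A) (T := S) P hP⟩, hP, rfl⟩,
    fun ⟨_, hP, _⟩ => hP⟩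

theorem numBranches_eq_finsum (h : (minimalPrimes A).Finite) :
    Brnch.numBranches A =
      ∑ᶠ p : minimalPrimes A,
        haveI : p.1.IsPrime := p.2.1.1
        Brnch.numBranches (A ⧸ p.1) := by
  have := Hens.henselization_flat A (Hh A)
  rw [← card_minimalPrimes_henselization A (Hh A)]
  refine (encard_minimalPrimes_eq_finsum A (Hh A) h).trans (finsum_congr fun p => ?_)
  haveI : p.1.IsPrime := p.2.1.1
  exact (numBranches_quotient (S := Hh A) p.1).symm

theorem numGeomBranches_eq_finsum (h : (minimalPrimes A).Finite) :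
    Brnch.numGeomBranches A =
      ∑ᶠ p : minimalPrimes A,
        haveI : p.1.IsPrime := p.2.1.1
        Brnch.numGeomBranches (A ⧸ p.1) := by
  have := Hens.strictHenselization_flat A (Hsh A)
  rw [← card_minimalPrimes_strictHenselization A (Hsh A)]
  refine (encard_minimalPrimes_eq_finsum A (Hsh A) h).trans (finsum_congr fun p => ?_)
  haveI : p.1.IsPrime := p.2.1.1
  exact (numGeomBranches_quotient (S := Hsh A) p.1).symm

theorem isGeomUnibranch_of_isIntegrallyClosed [IsDomain A] [IsIntegrallyClosed A] :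
    CAlg2.IsGeomUnibranch A := by
  let φ : A ≃+* CAlg2.red A :=
    RingEquiv.ofBijective (Ideal.Quotient.mk (nilradical A))
      ⟨RingHom.injective_iff_ker_eq_bot _ |>.2 (by rw [Ideal.mk_ker, nilradical_eq_zero]; rfl),
        Ideal.Quotient.mk_surjective⟩
  have hd : IsDomain (CAlg2.red A) := φ.symm.injective.isDomain φ.symm.toRingHom
  have hic : IsIntegrallyClosed (CAlg2.red A) := IsIntegrallyClosed.of_equiv φ
  have hbij : Function.Bijective (algebraMap (CAlg2.red A) (CAlg2.normRed A)) :=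
    ⟨fun x y hxy => IsFractionRing.injective (CAlg2.red A) (FractionRing (CAlg2.red A))
      (congrArg Subtype.val hxy), fun z => by
      obtain ⟨y, hy⟩ := IsIntegrallyClosed.isIntegral_iff.1 z.2
      exact ⟨y, Subtype.ext hy⟩⟩
  have hl : IsLocalRing (CAlg2.normRed A) :=
    (φ.trans (RingEquiv.ofBijective _ hbij)).isLocalRing
  refine ⟨⟨hd, hl⟩, fun m' _ x => ⟨0, ?_⟩⟩
  obtain ⟨z, rfl⟩ := Ideal.Quotient.mk_surjective x
  obtain ⟨y, rfl⟩ := hbij.2 z
  obtain ⟨a, rfl⟩ := Ideal.Quotient.mk_surjective y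
  exact ⟨a, by simp⟩

end Local

theorem isDomain_and_isGeomUnibranch_of_etale {X Y : Scheme.{u}} (g : X ⟶ Y) [Etale g] (u : X)
    (hY : IsDomain (Y.presheaf.stalk (g u))) (hY' : CAlg2.IsGeomUnibranch (Y.presheaf.stalk (g u))) :
    IsDomain (X.presheaf.stalk u) ∧ CAlg2.IsGeomUnibranch (X.presheaf.stalk u) := by
  refine ⟨?_, (numGeomBranches_eq_one_iff _).1 ((numGeomBranchesAt_of_etale g u).trans
    ((numGeomBranches_eq_one_iff _).2 hY'))⟩
  obtain ⟨W, hW, hx, -⟩ := exists_isAffineOpen_mem_and_subset (x := g u) (U := ⊤) trivial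
  obtain ⟨V, hV, huV, hVW⟩ := exists_isAffineOpen_mem_and_subset (x := u) (U := g ⁻¹ᵁ W) hx
  let K := SeparableClosure (Y.residueField (g u))
  let _ : Algebra Γ(Y, W) K :=
    ((algebraMap (Y.residueField (g u)) K).comp (Y.evaluation W (g u) hx).hom).toAlgebra
  have hK : ∀ r, algebraMap Γ(Y, W) K r = 0 ↔ Y.evaluation W (g u) hx r = 0 := fun r =>
    map_eq_zero_iff _ (algebraMap (Y.residueField (g u)) K).injective
  let _ := TopCat.Presheaf.algebra_section_stalk Y.presheaf (⟨g u, hx⟩ : W)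
  have := hW.isLocalization_stalk ⟨g u, hx⟩
  obtain ⟨_, _, _, _⟩ := HensPt14.exists_isStrictHenselization (K := K)
    (hW.primeIdealOf ⟨g u, hx⟩).asIdeal
    (fun r => (hK r).trans (evaluation_eq_zero_iff hW hx r)) (Y.presheaf.stalk (g u))
  have hd : IsDomain (Hs Γ(Y, W) K) :=
    (isReduced_and_isGeomUnibranch_iff (Y.presheaf.stalk (g u)) (Hs Γ(Y, W) K)).1
      ⟨inferInstance, hY'⟩
  let _ : Algebra (Y.residueField (g u)) (X.residueField u) := (g.residueFieldMap u).hom.toAlgebra
  have : Algebra.IsSeparable (Y.residueField (g u)) (X.residueField u) :=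
    Weight.isSeparable_residueFieldMap g u
  let τ : X.residueField u →ₐ[Y.residueField (g u)] K := IsSepClosed.lift
  obtain ⟨i, e, -⟩ := exists_nbhd g u hx hV huV hW hVW (K := K) τ.toRingHom fun r => by
    show τ _ = _
    rw [← WeilH13.residueFieldMap_evaluation g hVW u huV r]
    exact τ.commutes _
  let _ : Algebra i.G (Hs Γ(Y, W) K) := (Hs.of i).toRingHom.toAlgebra
  have : IsScalarTower Γ(Y, W) i.G (Hs Γ(Y, W) K) :=
    IsScalarTower.of_algebraMap_eq fun r => ((Hs.of i).commutes r).symm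
  have : Module.Flat i.G (Hs Γ(Y, W) K) := Algebra.FormallyUnramified.flat_of_restrictScalars Γ(Y, W) i.G _
  have : IsLocalHom (algebraMap i.G (Hs Γ(Y, W) K)) := ⟨fun y hy => by
    rw [Hs.isUnit_iff] at hy
    by_contra hn
    exact hy ((Hs.res_of i y).trans ((i.res_eq_zero_iff y).2 hn))⟩
  have := Module.FaithfullyFlat.of_flat_of_isLocalHom (A := i.G) (B := Hs Γ(Y, W) K)
  exact ((FaithfulSMul.algebraMap_injective i.G (Hs Γ(Y, W) K)).comp e.injective).isDomain
    ((algebraMap i.G (Hs Γ(Y, W) K)).comp e.toRingHom)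

end Groth.Agent.Branch14
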