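import Groth.Agent.Lib.Branch14.Elementary
import Groth.Agent.Lib.Hens15.Quotient
import Groth.Agent.Lib.Hens.BaseChange
import Mathlib.RingTheory.Ideal.MinimalPrime.Localization

/-!
# Branches of a quotient of a local ring
-/

universe u

set_option backward.isDefEq.respectTransparency.types false
set_option maxSynthPendingDepth 3
set_option linter.style.haveILetI false

open IsLocalRing

namespace Groth.Agent.Branch14

open Groth.Agent.Hens

theorem numGeomBranches_of_ringEquiv {A A' : Type u} [CommRing A] [IsLocalRing A] [CommRing A']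
    [IsLocalRing A'] (e : A ≃+* A') : Brnch.numGeomBranches A = Brnch.numGeomBranches A' := by
  let _ : Algebra A (Hsh A') := ((algebraMap A' (Hsh A')).comp e.toRingHom).toAlgebra
  have hl : IsLocalHom (algebraMap A (Hsh A')) := ⟨fun a ha => by
    have h' : IsUnit (e a) := (IsLocalHom.map_nonunit (f := algebraMap A' (Hsh A')) (e a) ha)
    simpa using h'.map e.symm⟩
  have hle : IsLocalHom e.toRingHom := ⟨fun a ha => by simpa using ha.map e.symm⟩
  have hle' : IsLocalHom e.symm.toRingHom := ⟨fun a ha => by simpa using ha.map e⟩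
  let eR : ResidueField A ≃+* ResidueField A' := ResidueField.mapEquiv e
  have hsq : ∀ x, ResidueField.map (algebraMap A (Hsh A')) x =
      ResidueField.map (algebraMap A' (Hsh A')) (eR x) := fun x => by
    obtain ⟨a, rfl⟩ := residue_surjective x
    rfl
  have hsep := Hensel.IsStrictHenselization.isSepClosure (R := A') (S := Hsh A')
  have hH : Hensel.IsStrictHenselization A (Hsh A') := by
    refine ⟨Hensel.IsStrictHenselization.henselian (R := A'), ⟨hsep.1, ?_⟩, fun T _ _ f hf τ hτ => ?_⟩
    · haveI := hsep.2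
      refine Algebra.IsSeparable.of_equiv_equiv eR.symm (RingEquiv.refl _) (RingHom.ext fun x => ?_)
      show ResidueField.map (algebraMap A (Hsh A')) (eR.symm x) = _
      rw [hsq, eR.apply_symm_apply]
      rfl
    obtain ⟨g, ⟨hg, hgτ⟩, hu⟩ := Hensel.IsStrictHenselization.universal (R := A') (S := Hsh A') T
      (f.comp e.symm.toRingHom) τ (RingHom.ext fun y => by
        obtain ⟨a, rfl⟩ := residue_surjective y
        have h := congr($hτ (residue A (e.symm a)))
        rw [RingHom.comp_apply, hsq] at h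
        refine Eq.trans ?_ h
        show τ _ = τ (ResidueField.map (algebraMap A' (Hsh A')) (residue A' (e (e.symm a))))
        rw [e.apply_symm_apply])
    refine ⟨g, ⟨RingHom.ext fun a => ?_, hgτ⟩, fun g' hg' =>
      hu g' ⟨RingHom.ext fun a => ?_, hg'.2⟩⟩
    · have := congr($hg (e a))
      simp only [RingHom.comp_apply] at this ⊢
      refine Eq.trans ?_ (this.trans (by simp))
      rfl
    · have := congr($(hg'.1) (e.symm a))
      simp only [RingHom.comp_apply] at this ⊢
      refine Eq.trans ?_ this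
      show g' (algebraMap A' (Hsh A') a) = g' (algebraMap A' (Hsh A') (e (e.symm a)))
      rw [e.apply_symm_apply]
  rw [← card_minimalPrimes_strictHenselization A (Hsh A'),
    ← card_minimalPrimes_strictHenselization A' (Hsh A')]

theorem encard_minimalPrimes_quotient {R : Type*} [CommRing R] (J : Ideal R) :
    (minimalPrimes (R ⧸ J)).encard = J.minimalPrimes.encard := by
  rw [Ideal.minimalPrimes_eq_comap,
    Set.InjOn.encard_image ((Ideal.comap_injective_of_surjective _ Ideal.Quotient.mk_surjective).injOn)]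

theorem encard_minimalPrimes_map_of_ringEquiv {R : Type*} {R' : Type*} [CommRing R] [CommRing R']
    (e : R ≃+* R') (J : Ideal R) :
    (J.map e.toRingHom).minimalPrimes.encard = J.minimalPrimes.encard := by
  refine ((encard_minimalPrimes_quotient (J.map e.toRingHom)).symm.trans ?_).trans (encard_minimalPrimes_quotient J)
  exact StalkHens14.encard_minimalPrimes_of_ringEquiv (Ideal.quotientEquiv J _ e rfl).symm

section Quotient

variable {A S : Type u} [CommRing A] [IsLocalRing A] [CommRing S] [IsLocalRing S] [Algebra A S]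
  [IsLocalHom (algebraMap A S)] (J : Ideal A) [IsLocalRing (A ⧸ J)]

theorem numGeomBranches_quotient [Hensel.IsStrictHenselization A S] :
    Brnch.numGeomBranches (A ⧸ J) = (J.map (algebraMap A S)).minimalPrimes.encard := by
  have hJ : J ≠ ⊤ := Ideal.Quotient.nontrivial_iff.1 inferInstance
  have hle : J.map (algebraMap A S) ≤ maximalIdeal S :=
    (Ideal.map_mono (IsLocalRing.le_maximalIdeal hJ)).trans
      (((local_hom_TFAE (algebraMap A S)).out 0 2).mp ‹_›)
  haveI : Nontrivial (S ⧸ J.map (algebraMap A S)) :=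
    Ideal.Quotient.nontrivial_iff.2 (ne_top_of_le_ne_top (maximalIdeal.isMaximal S).ne_top hle)
  haveI : IsLocalRing (S ⧸ J.map (algebraMap A S)) :=
    .of_surjective' (Ideal.Quotient.mk _) Ideal.Quotient.mk_surjective
  haveI : IsLocalHom (algebraMap (A ⧸ J) (S ⧸ J.map (algebraMap A S))) := ⟨fun x hx => by
    obtain ⟨a, rfl⟩ := Ideal.Quotient.mk_surjective x
    haveI : IsLocalHom (Ideal.Quotient.mk (J.map (algebraMap A S))) :=
      IsLocalHom.of_surjective _ Ideal.Quotient.mk_surjective
    exact ((isUnit_map_iff (algebraMap A S) a).1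
      (isUnit_of_map_unit (Ideal.Quotient.mk (J.map (algebraMap A S))) _ hx)).map _⟩
  haveI := Hens15.isStrictHenselization_quotient (A := A) (S := S) J
  rw [← card_minimalPrimes_strictHenselization (A ⧸ J) (S ⧸ J.map (algebraMap A S)),
    ← encard_minimalPrimes_quotient]
  rfl

theorem numBranches_quotient [Hensel.IsHenselization A S] :
    Brnch.numBranches (A ⧸ J) = (J.map (algebraMap A S)).minimalPrimes.encard := by
  have hJ : J ≠ ⊤ := Ideal.Quotient.nontrivial_iff.1 inferInstance
  have hle : J.map (algebraMap A S) ≤ maximalIdeal S :=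
    (Ideal.map_mono (IsLocalRing.le_maximalIdeal hJ)).trans
      (((local_hom_TFAE (algebraMap A S)).out 0 2).mp ‹_›)
  haveI : Nontrivial (S ⧸ J.map (algebraMap A S)) :=
    Ideal.Quotient.nontrivial_iff.2 (ne_top_of_le_ne_top (maximalIdeal.isMaximal S).ne_top hle)
  haveI : IsLocalRing (S ⧸ J.map (algebraMap A S)) :=
    .of_surjective' (Ideal.Quotient.mk _) Ideal.Quotient.mk_surjective
  haveI : IsLocalHom (algebraMap (A ⧸ J) (S ⧸ J.map (algebraMap A S))) := ⟨fun x hx => by
    obtain ⟨a, rfl⟩ := Ideal.Quotient.mk_surjective x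
    haveI : IsLocalHom (Ideal.Quotient.mk (J.map (algebraMap A S))) :=
      IsLocalHom.of_surjective _ Ideal.Quotient.mk_surjective
    exact ((isUnit_map_iff (algebraMap A S) a).1
      (isUnit_of_map_unit (Ideal.Quotient.mk (J.map (algebraMap A S))) _ hx)).map _⟩
  haveI := Hens.isHenselization_quotient (A := A) (S := S) J
  rw [← card_minimalPrimes_henselization (A ⧸ J) (S ⧸ J.map (algebraMap A S)),
    ← encard_minimalPrimes_quotient]
  rfl

end Quotient

theorem encard_map_minimalPrimes_le_of_flat (R H : Type u) [CommRing R] [IsLocalRing R] [CommRing H]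
    [IsLocalRing H] [Algebra R H] [IsLocalHom (algebraMap R H)] [Module.Flat R H] (J : Ideal R) :
    J.minimalPrimes.encard ≤ (J.map (algebraMap R H)).minimalPrimes.encard := by
  have := Module.FaithfullyFlat.of_flat_of_isLocalHom (A := R) (B := H)
  refine le_trans (Set.encard_le_encard fun p hp => ?_)
    (Set.encard_image_le (Ideal.comap (algebraMap R H)) _)
  obtain ⟨P, hP⟩ := PrimeSpectrum.comap_surjective_of_faithfullyFlat (A := R) (B := H) ⟨p, hp.1.1⟩
  have h1 : P.asIdeal.comap (algebraMap R H) = p := congrArg PrimeSpectrum.asIdeal hP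
  obtain ⟨P', hP', hle⟩ := Ideal.exists_minimalPrimes_le (I := J.map (algebraMap R H)) (J := P.asIdeal)
    (Ideal.map_le_iff_le_comap.2 (hp.1.2.trans h1.ge))
  have := hP'.1.1
  exact ⟨P', hP', le_antisymm ((Ideal.comap_mono hle).trans h1.le)
    (hp.2 ⟨inferInstance, Ideal.map_le_iff_le_comap.1 hP'.1.2⟩ ((Ideal.comap_mono hle).trans h1.le))⟩

variable {R K : Type u} [CommRing R] [Field K] [Algebra R K] (I : Ideal R)

theorem encard_nbhd_map_le (i : Nbhd R K) :
    (I.map (algebraMap R i.G)).minimalPrimes.encard ≤ (I.map (algebraMap R (Hs R K))).minimalPrimes.encard := by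
  let _ : Algebra i.G (Hs R K) := (Hs.of i).toRingHom.toAlgebra
  have : IsScalarTower R i.G (Hs R K) :=
    IsScalarTower.of_algebraMap_eq fun r => ((Hs.of i).commutes r).symm
  have : Module.Flat i.G (Hs R K) := Algebra.FormallyUnramified.flat_of_restrictScalars R i.G _
  have : IsLocalHom (algebraMap i.G (Hs R K)) := ⟨fun y hy => by
    rw [Hs.isUnit_iff] at hy
    by_contra hn
    exact hy ((Hs.res_of i y).trans ((i.res_eq_zero_iff y).2 hn))⟩
  refine (encard_map_minimalPrimes_le_of_flat i.G (Hs R K) _).trans (le_of_eq ?_)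
  rw [Ideal.map_map, ← IsScalarTower.algebraMap_eq]

theorem exists_nbhd_encard_map_ge (n : ℕ)
    (h : (n : ℕ∞) ≤ (I.map (algebraMap R (Hs R K))).minimalPrimes.encard) :
    ∃ i : Nbhd R K, (n : ℕ∞) ≤ (I.map (algebraMap R i.G)).minimalPrimes.encard := by
  classical
  obtain ⟨t, hts, htn⟩ := Set.exists_subset_encard_eq h
  have htf : t.Finite := Set.finite_of_encard_eq_coe htn
  let pairs := (htf.toFinset ×ˢ htf.toFinset).filter fun q => q.1 ≠ q.2
  have hsep : ∀ q : Ideal (Hs R K) × Ideal (Hs R K),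
      ∃ x, q.1 ≠ q.2 → ¬(x ∈ q.1 ↔ x ∈ q.2) := fun q => by
    by_cases hq : q.1 = q.2
    · exact ⟨0, fun h => absurd hq h⟩
    · have := mt SetLike.ext hq
      push Not at this
      obtain ⟨x, hx⟩ := this
      exact ⟨x, fun _ hh => by rcases hx with ⟨a, b⟩ | ⟨a, b⟩ <;> simp_all⟩
  choose x hx using hsep
  obtain ⟨i, hi⟩ := Hs.exists_of_finset pairs x
  refine ⟨i, ?_⟩
  rw [← htn]
  let φ : i.G →+* Hs R K := (Hs.of i).toRingHom
  have hinj : Set.InjOn (fun P : Ideal (Hs R K) => P.comap φ) t := fun P hP Q hQ hPQ => by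
    by_contra hne
    obtain ⟨y, hy⟩ := hi (P, Q) (Finset.mem_filter.2
      ⟨Finset.mem_product.2 ⟨htf.mem_toFinset.2 hP, htf.mem_toFinset.2 hQ⟩, hne⟩)
    refine hx (P, Q) hne ?_
    rw [← hy]
    exact SetLike.ext_iff.1 hPQ y
  rw [← hinj.encard_image]
  refine Set.encard_le_encard ?_
  rintro _ ⟨P, hP, rfl⟩
  have := (hts hP).1.1
  have hφ : φ.comp (algebraMap R i.G) = algebraMap R (Hs R K) := (Hs.of i).comp_algebraMap
  have hc : (P.comap φ).comap (algebraMap R i.G) = P.comap (algebraMap R (Hs R K)) := by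
    rw [Ideal.comap_comap, hφ]
  refine ⟨⟨Ideal.comap_isPrime _ _, Ideal.map_le_iff_le_comap.2 ?_⟩, fun Q hQ hle => ?_⟩
  · exact (Ideal.map_le_iff_le_comap.1 (hts hP).1.2).trans hc.ge
  have := hQ.1
  have hmin : ∀ q : Ideal R, q.IsPrime → I ≤ q → q ≤ P.comap (algebraMap R (Hs R K)) →
      P.comap (algebraMap R (Hs R K)) ≤ q := fun q hq hIq hle' => by
    have : P.LiesOver (P.comap (algebraMap R (Hs R K))) := ⟨rfl⟩
    obtain ⟨Q', hQ'le, hQ', hQ'q⟩ := Ideal.exists_ideal_le_liesOver_of_le P hle'
    rw [hQ'q.over]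
    exact Ideal.comap_mono ((hts hP).2
      ⟨hQ', Ideal.map_le_iff_le_comap.2 (hIq.trans hQ'q.over.le)⟩ hQ'le)
  have h1 : Q.comap (algebraMap R i.G) ≤ P.comap (algebraMap R (Hs R K)) :=
    (Ideal.comap_mono hle).trans hc.le
  have h2 : Q.comap (algebraMap R i.G) = (P.comap φ).comap (algebraMap R i.G) :=
    (le_antisymm h1 (hmin _ inferInstance (Ideal.map_le_iff_le_comap.1 hQ.2) h1)).trans hc.symm
  exact (@Algebra.QuasiFinite.eq_of_le_of_under_eq R i.G _ _ _ inferInstance Q (P.comap φ) _ _ hle h2).ge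

end Groth.Agent.Branch14
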