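import Groth.Prelude.Def_CAlg2
import Groth.Agent.Lib.Branch14.FibreRing
import Mathlib.RingTheory.RingHom.PurelyInseparable

/-!
# Geometrically unibranch local rings and integral birational extensions (EGA IV 6.15.5)
-/

set_option backward.isDefEq.respectTransparency.types false

set_option linter.style.haveILetI false
set_option linter.unusedVariables false
set_option linter.unusedSectionVars false

universe u

open IsLocalRing

namespace Groth.Agent.Branch14.Bir

/-- every element has a `p^n`-th power in the range (`p` the characteristic exponent) -/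
def PI {A L : Type*} [CommRing A] [CommRing L] (φ : A →+* L) : Prop :=
  ∀ x : L, ∃ n : ℕ, x ^ (ringExpChar L) ^ n ∈ φ.range

theorem pi_of_surjective {A L : Type*} [CommRing A] [CommRing L] (φ : A →+* L)
    (h : Function.Surjective φ) : PI φ :=
  fun x => ⟨0, h _⟩

theorem pi_comp_iff {A L₀ L : Type*} [CommRing A] [Field L₀] [Field L] (φ₀ : A →+* L₀)
    (χ : L₀ →+* L) : PI (χ.comp φ₀) ↔ PI φ₀ ∧ PI χ := by
  obtain ⟨q, hq⟩ := ExpChar.exists L₀
  haveI : ExpChar L q := expChar_of_injective_ringHom χ.injective q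
  unfold PI
  rw [ringExpChar.eq L₀ q, ringExpChar.eq L q]
  constructor
  · intro h
    refine ⟨fun x => ?_, fun x => ?_⟩
    · obtain ⟨n, a, ha⟩ := h (χ x)
      exact ⟨n, a, χ.injective (by rw [map_pow]; exact ha)⟩
    · obtain ⟨n, a, ha⟩ := h x
      exact ⟨n, φ₀ a, ha⟩
  · rintro ⟨h₀, h₁⟩ x
    obtain ⟨n, y, hy⟩ := h₁ x
    obtain ⟨m, a, ha⟩ := h₀ y
    refine ⟨n + m, a, ?_⟩
    rw [RingHom.comp_apply, ha, map_pow, hy, ← pow_mul, ← pow_add]

theorem pi_iff_isPurelyInseparable {F L : Type*} [Field F] [Field L] (φ : F →+* L) :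
    φ.IsPurelyInseparable ↔ PI φ := by
  obtain ⟨q, hq⟩ := ExpChar.exists F
  haveI : ExpChar L q := expChar_of_injective_ringHom φ.injective q
  letI := φ.toAlgebra
  rw [RingHom.IsPurelyInseparable, isPurelyInseparable_iff_pow_mem F q, PI, ringExpChar.eq L q]
  rfl

/-- A field `K` with an algebra structure over the local ring `A` which is the fraction field of
the reduction of `A`. -/
structure Model (A : Type u) [CommRing A] (K : Type u) [Field K] [Algebra A K] : Prop where
  ker_eq : RingHom.ker (algebraMap A K) = nilradical A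
  exists_frac : ∀ z : K, ∃ a b, algebraMap A K b ≠ 0 ∧ z * algebraMap A K b = algebraMap A K a

section Model

variable {A : Type u} [CommRing A] {K : Type u} [Field K] [Algebra A K]

theorem Model.exists_equiv (h : Model A K) :
    IsDomain (CAlg2.red A) ∧ ∃ e : CAlg2.normRed A ≃+* integralClosure A K,
      ∀ a, e (algebraMap A (CAlg2.normRed A) a) = algebraMap A (integralClosure A K) a := by
  have hp : (nilradical A).IsPrime := h.ker_eq ▸ RingHom.ker_isPrime _
  haveI hd : IsDomain (CAlg2.red A) := (Ideal.Quotient.isDomain_iff_prime _).2 hp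
  refine ⟨hd, ?_⟩
  let ρ : CAlg2.red A →+* K := Ideal.Quotient.lift _ (algebraMap A K) fun a ha => by
    rw [← RingHom.mem_ker, h.ker_eq]; exact ha
  letI := ρ.toAlgebra
  haveI : IsScalarTower A (CAlg2.red A) K := IsScalarTower.of_algebraMap_eq fun a => rfl
  haveI : FaithfulSMul (CAlg2.red A) K :=
    (faithfulSMul_iff_algebraMap_injective _ _).2 (RingHom.lift_injective_of_ker_le_ideal _ _ h.ker_eq.le)
  haveI : IsFractionRing (CAlg2.red A) K := IsFractionRing.of_field _ _ fun z => by
    obtain ⟨a, b, hb, hab⟩ := h.exists_frac z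
    refine ⟨Ideal.Quotient.mk _ a, Ideal.Quotient.mk _ b, ?_⟩
    show z = algebraMap A K a / algebraMap A K b
    rw [eq_div_iff hb, hab]
  let eK : FractionRing (CAlg2.red A) ≃ₐ[CAlg2.red A] K :=
    IsLocalization.algEquiv (nonZeroDivisors (CAlg2.red A)) _ _
  haveI : Algebra.IsIntegral A (CAlg2.red A) :=
    Algebra.IsIntegral.of_surjective (Algebra.ofId A (CAlg2.red A)) Ideal.Quotient.mk_surjective
  have hi : ∀ x : CAlg2.normRed A, IsIntegral A (eK x.1) := fun x =>
    isIntegral_trans (R := A) (A := CAlg2.red A) _ (x.2.map eK)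
  have hi' : ∀ z : integralClosure A K, IsIntegral (CAlg2.red A) (eK.symm z.1) := fun z =>
    (IsIntegral.tower_top (A := CAlg2.red A) z.2).map eK.symm
  exact ⟨{ toFun := fun x => ⟨eK x.1, hi x⟩
           invFun := fun z => ⟨eK.symm z.1, hi' z⟩
           left_inv := fun x => Subtype.ext (eK.symm_apply_apply _)
           right_inv := fun z => Subtype.ext (eK.apply_symm_apply _)
           map_mul' := fun x y => Subtype.ext (map_mul eK x.1 y.1)
           map_add' := fun x y => Subtype.ext (map_add eK x.1 y.1) },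
    fun a => Subtype.ext (eK.commutes (Ideal.Quotient.mk _ a))⟩

theorem pi_quotient_of_equiv {N N' : Type u} [CommRing N] [CommRing N'] (e : N ≃+* N') (φ : A →+* N)
    (φ' : A →+* N') (he : ∀ a, e (φ a) = φ' a) (m' : Ideal N') [m'.IsMaximal]
    (h : ∀ (m : Ideal N) [m.IsMaximal], PI ((Ideal.Quotient.mk m).comp φ)) :
    PI ((Ideal.Quotient.mk m').comp φ') := by
  let m := m'.comap e.toRingHom
  haveI : m.IsMaximal := Ideal.comap_isMaximal_of_surjective _ e.surjective
  letI := Ideal.Quotient.field m
  letI := Ideal.Quotient.field m'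
  let E : N ⧸ m ≃+* N' ⧸ m' :=
    Ideal.quotientEquiv m m' e (Ideal.map_comap_of_surjective _ e.surjective m').symm
  rw [show (Ideal.Quotient.mk m').comp φ' = E.toRingHom.comp ((Ideal.Quotient.mk m).comp φ) from
    RingHom.ext fun a => congrArg (Ideal.Quotient.mk m') (he a).symm, pi_comp_iff]
  exact ⟨h m, pi_of_surjective _ E.surjective⟩

variable [IsLocalRing A]

theorem Model.isUnibranch_iff (h : Model A K) :
    CAlg2.IsUnibranch A ↔ IsLocalRing (integralClosure A K) := by
  obtain ⟨hd, e, -⟩ := h.exists_equiv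
  constructor
  · rintro ⟨-, hl⟩
    exact e.isLocalRing
  · intro hl
    exact ⟨hd, e.symm.isLocalRing⟩

theorem Model.isGeomUnibranch_iff (h : Model A K) :
    CAlg2.IsGeomUnibranch A ↔ IsLocalRing (integralClosure A K) ∧
      ∀ (m : Ideal (integralClosure A K)) [m.IsMaximal],
        PI ((Ideal.Quotient.mk m).comp (algebraMap A (integralClosure A K))) := by
  obtain ⟨hd, e, he⟩ := h.exists_equiv
  have key : CAlg2.IsGeomUnibranch A ↔ CAlg2.IsUnibranch A ∧
      ∀ (m' : Ideal (CAlg2.normRed A)) [m'.IsMaximal],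
        PI ((Ideal.Quotient.mk m').comp (algebraMap A (CAlg2.normRed A))) := Iff.rfl
  rw [key, h.isUnibranch_iff]
  refine and_congr_right fun _ => ⟨fun hp m _ => pi_quotient_of_equiv e _ _ he m hp,
    fun hp m _ => pi_quotient_of_equiv e.symm _ _ (fun a => e.injective
      (by rw [e.apply_symm_apply, he])) m hp⟩

end Model

section Core

variable {A B K : Type u} [CommRing A] [CommRing B] [Field K] [Algebra A B] [Algebra.IsIntegral A B]
  [Algebra A K] [Algebra B K] [IsScalarTower A B K]

theorem model_top (hA : Model A K) (hkB : RingHom.ker (algebraMap B K) = nilradical B) :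
    Model B K := by
  refine ⟨hkB, fun z => ?_⟩
  obtain ⟨a, b, hb, hab⟩ := hA.exists_frac z
  exact ⟨algebraMap A B a, algebraMap A B b, by simpa [← IsScalarTower.algebraMap_apply] using hb,
    by simpa [← IsScalarTower.algebraMap_apply] using hab⟩

/-- the two normalisations agree -/
theorem exists_closure_equiv :
    ∃ e : integralClosure A K ≃+* integralClosure B K,
      ∀ a, e (algebraMap A (integralClosure A K) a) =
        algebraMap B (integralClosure B K) (algebraMap A B a) :=
  ⟨{ toFun := fun x => ⟨x.1, IsIntegral.tower_top x.2⟩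
     invFun := fun x => ⟨x.1, isIntegral_trans (R := A) (A := B) _ x.2⟩
     left_inv := fun x => rfl
     right_inv := fun x => rfl
     map_mul' := fun x y => rfl
     map_add' := fun x y => rfl },
   fun a => Subtype.ext (IsScalarTower.algebraMap_apply A B K a)⟩

theorem exists_over_of_ker (hkB : RingHom.ker (algebraMap B K) = nilradical B) (n : Ideal B)
    [n.IsMaximal] :
    ∃ M : Ideal (integralClosure B K), M.IsMaximal ∧
      M.comap (algebraMap B (integralClosure B K)) = n := by
  refine Ideal.exists_ideal_over_maximal_of_isIntegral n ?_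
  intro b hb
  have hb' : b ∈ RingHom.ker (algebraMap B K) :=
    RingHom.mem_ker.2 (congrArg Subtype.val (RingHom.mem_ker.1 hb))
  rw [hkB] at hb'
  exact nilradical_le_prime n hb'

variable [IsLocalRing A]

theorem isLocalRing_of_isUnibranch (hA : Model A K)
    (hkB : RingHom.ker (algebraMap B K) = nilradical B) (h : CAlg2.IsUnibranch A) :
    IsLocalRing B := by
  obtain ⟨e, -⟩ := exists_closure_equiv (A := A) (B := B) (K := K)
  haveI := hA.isUnibranch_iff.1 h
  haveI : IsLocalRing (integralClosure B K) := e.isLocalRing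
  haveI : Nontrivial B := (algebraMap B K).domain_nontrivial
  refine IsLocalRing.of_unique_max_ideal
    ⟨(maximalIdeal (integralClosure B K)).comap (algebraMap B (integralClosure B K)),
      Ideal.isMaximal_comap_of_isIntegral_of_isMaximal _, fun n hn => ?_⟩
  haveI := hn
  obtain ⟨M, hM, rfl⟩ := exists_over_of_ker hkB n
  rw [IsLocalRing.eq_maximalIdeal hM]

theorem isGeomUnibranch_iff_of_integral [IsLocalRing B] (hA : Model A K)
    (hkB : RingHom.ker (algebraMap B K) = nilradical B) :
    CAlg2.IsGeomUnibranch A ↔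
      CAlg2.IsGeomUnibranch B ∧ PI ((residue B).comp (algebraMap A B)) := by
  rw [hA.isGeomUnibranch_iff, (model_top hA hkB).isGeomUnibranch_iff]
  obtain ⟨e, he⟩ := exists_closure_equiv (A := A) (B := B) (K := K)
  have hfac : ∀ (M : Ideal (integralClosure B K)) [M.IsMaximal],
      (PI ((Ideal.Quotient.mk M).comp ((algebraMap B (integralClosure B K)).comp (algebraMap A B))) ↔
        PI ((residue B).comp (algebraMap A B)) ∧
          PI ((Ideal.Quotient.mk M).comp (algebraMap B (integralClosure B K)))) := by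
    intro M hM
    letI := Ideal.Quotient.field M
    have hMc : M.comap (algebraMap B (integralClosure B K)) = maximalIdeal B :=
      IsLocalRing.eq_maximalIdeal (Ideal.isMaximal_comap_of_isIntegral_of_isMaximal (R := B) M)
    let χ : ResidueField B →+* integralClosure B K ⧸ M :=
      Ideal.Quotient.lift _ ((Ideal.Quotient.mk M).comp (algebraMap B (integralClosure B K)))
        fun b hb => Ideal.Quotient.eq_zero_iff_mem.2 (hMc.ge hb)
    have hχ : χ.comp (residue B) = (Ideal.Quotient.mk M).comp (algebraMap B (integralClosure B K)) :=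
      RingHom.ext fun b => rfl
    rw [← RingHom.comp_assoc, ← hχ, RingHom.comp_assoc, pi_comp_iff, pi_comp_iff]
    exact ⟨fun h => ⟨h.1, pi_of_surjective _ residue_surjective, h.2⟩, fun h => ⟨h.1, h.2.2⟩⟩
  constructor
  · rintro ⟨hl, hp⟩
    haveI hlB : IsLocalRing (integralClosure B K) := e.isLocalRing
    have hp' : ∀ (M : Ideal (integralClosure B K)) [M.IsMaximal],
        PI ((Ideal.Quotient.mk M).comp ((algebraMap B (integralClosure B K)).comp (algebraMap A B))) :=
      fun M _ => pi_quotient_of_equiv e _ _ he M hp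
    exact ⟨⟨hlB, fun M _ => ((hfac M).1 (hp' M)).2⟩,
      ((hfac (maximalIdeal _)).1 (hp' _)).1⟩
  · rintro ⟨⟨hl, hp⟩, hres⟩
    haveI : IsLocalRing (integralClosure A K) := e.symm.isLocalRing
    exact ⟨inferInstance, fun M _ => pi_quotient_of_equiv e.symm
      ((algebraMap B (integralClosure B K)).comp (algebraMap A B)) _
      (fun a => e.injective (by rw [e.apply_symm_apply, he]; rfl)) M
      (fun m hm => (hfac m).2 ⟨hres, hp m⟩)⟩

end Core

theorem gu_congr {A A' : Type u} [CommRing A] [IsLocalRing A] [CommRing A'] [IsLocalRing A']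
    (e : A ≃+* A') : CAlg2.IsGeomUnibranch A ↔ CAlg2.IsGeomUnibranch A' := by
  rw [← numGeomBranches_eq_one_iff, ← numGeomBranches_eq_one_iff, numGeomBranches_of_ringEquiv e]

/-- `f` is birational in terms of primes -/
structure IsBir (R S : Type u) [CommRing R] [CommRing S] [Algebra R S] : Prop where
  comap_min : ∀ q ∈ minimalPrimes S, q.comap (algebraMap R S) ∈ minimalPrimes R
  eq_of_comap : ∀ (q q' : Ideal S) [q.IsPrime] [q'.IsPrime],
    q.comap (algebraMap R S) ∈ minimalPrimes R →
    q.comap (algebraMap R S) = q'.comap (algebraMap R S) → q = q'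
  exists_comap : ∀ p ∈ minimalPrimes R, ∃ q : Ideal S, q.IsPrime ∧ q.comap (algebraMap R S) = p
  exists_frac : ∀ (q : Ideal S) [q.IsPrime], q.comap (algebraMap R S) ∈ minimalPrimes R →
    ∀ s : S, ∃ a b : R, algebraMap R S b ∉ q ∧ s * algebraMap R S b - algebraMap R S a ∈ q

section Affine

variable {R S : Type u} [CommRing R] [CommRing S] [Algebra R S] [Algebra.IsIntegral R S]
variable {A : Type u} [CommRing A] [Algebra R A] {p : Ideal R} [p.IsPrime]
  [IsLocalization.AtPrime A p]

/-- the localization of `S` at the complement of `p` -/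
abbrev Sp (p : Ideal R) [p.IsPrime] (S : Type u) [CommRing S] [Algebra R S] : Type u :=
  Localization (Algebra.algebraMapSubmonoid S p.primeCompl)

/-- its algebra structure over the local ring -/
@[instance_reducible]
noncomputable def algSp (A : Type u) [CommRing A] [Algebra R A] (p : Ideal R) [p.IsPrime]
    [IsLocalization.AtPrime A p] (S : Type u) [CommRing S] [Algebra R S] : Algebra A (Sp p S) :=
  (IsLocalization.map (Sp p S) (algebraMap R S)
    (show p.primeCompl ≤ (Algebra.algebraMapSubmonoid S p.primeCompl).comap _ from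
      p.primeCompl.le_comap_map) : A →+* Sp p S).toAlgebra

theorem algSp_algebraMap (r : R) :
    letI := algSp A p S
    algebraMap A (Sp p S) (algebraMap R A r) = algebraMap S (Sp p S) (algebraMap R S r) :=
  IsLocalization.map_eq _ r

theorem isIntegral_algSp :
    letI := algSp A p S
    Algebra.IsIntegral A (Sp p S) :=
  letI := algSp A p S
  ⟨isIntegral_localization (M := p.primeCompl) (Rₘ := A) (Sₘ := Sp p S)⟩

/-- a prime over `p` gives a prime of `Sp` -/
theorem disjoint_of_le (q : Ideal S) (hq : q.comap (algebraMap R S) ≤ p) :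
    Disjoint (Algebra.algebraMapSubmonoid S p.primeCompl : Set S) (q : Set S) := by
  rw [Set.disjoint_left]
  rintro _ ⟨r, hr, rfl⟩ h
  exact hr (hq h)

/-- If only one prime lies over `p`, `Sp` is its local ring. -/
theorem isLocalization_atPrime (q : Ideal S) [q.IsPrime] (hq : q.comap (algebraMap R S) = p)
    (hu : ∀ q' : Ideal S, q'.IsPrime → q'.comap (algebraMap R S) = p → q' = q) :
    IsLocalization.AtPrime (Sp p S) q := by
  refine IsLocalization.isLocalization_of_is_exists_mul_mem (Sp p S)
    (Algebra.algebraMapSubmonoid S p.primeCompl) q.primeCompl ?_ fun x => ?_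
  · rintro _ ⟨r, hr, rfl⟩
    exact fun h => hr (hq.le h)
  · by_cases hdis : Disjoint (Algebra.algebraMapSubmonoid S p.primeCompl : Set S)
        (Ideal.span {(x : S)} : Set S)
    · obtain ⟨Q, hQ, hle, hQd⟩ := Ideal.exists_le_prime_disjoint _ _ hdis.symm
      have hQp : Q.comap (algebraMap R S) ≤ p := fun r hr => by
        by_contra hrp
        exact Set.disjoint_left.1 hQd hr ⟨r, hrp, rfl⟩
      obtain ⟨Q', hQQ', hQ', hQ'p⟩ := Ideal.exists_ideal_over_prime_of_isIntegral p Q hQp
      exact absurd ((hu Q' hQ' hQ'p).le (hQQ' (hle (Ideal.mem_span_singleton_self _)))) x.2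
    · obtain ⟨y, hy, hyx⟩ := Set.not_disjoint_iff.1 hdis
      obtain ⟨m, rfl⟩ := Ideal.mem_span_singleton'.1 hyx
      exact ⟨m, hy⟩

variable (hb : IsBir R S)

include hb in
theorem exists_model {p₀ : Ideal R} (hp₀ : p₀ ∈ minimalPrimes R) (hle : p₀ ≤ p)
    (hu : ∀ p₁ ∈ minimalPrimes R, p₁ ≤ p → p₁ = p₀) :
    letI := algSp A p S
    ∃ (K : Type u) (_ : Field K) (_ : Algebra A K) (_ : Algebra (Sp p S) K),
      IsScalarTower A (Sp p S) K ∧ Model A K ∧
        RingHom.ker (algebraMap (Sp p S) K) = nilradical (Sp p S) := by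
  letI := algSp A p S
  haveI := hp₀.1.1
  obtain ⟨q₀, hq₀, hq₀p⟩ := hb.exists_comap p₀ hp₀
  haveI := hq₀
  have hqmin : q₀.comap (algebraMap R S) ∈ minimalPrimes R := hq₀p ▸ hp₀
  let κ : Type u := q₀.ResidueField
  have hunit : ∀ y : Algebra.algebraMapSubmonoid S p.primeCompl, IsUnit (algebraMap S κ y) := by
    rintro ⟨_, r, hr, rfl⟩
    refine Ne.isUnit fun h => hr (hle ?_)
    rw [← hq₀p]
    exact (Ideal.algebraMap_residueField_eq_zero (I := q₀)).1 h
  let χ : Sp p S →+* κ := IsLocalization.lift hunit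
  have hχ : ∀ s, χ (algebraMap S (Sp p S) s) = algebraMap S κ s := IsLocalization.lift_eq hunit
  letI : Algebra (Sp p S) κ := χ.toAlgebra
  letI : Algebra A κ := (χ.comp (algebraMap A (Sp p S))).toAlgebra
  haveI : IsScalarTower A (Sp p S) κ := IsScalarTower.of_algebraMap_eq fun a => rfl
  have hA : ∀ r, algebraMap A κ (algebraMap R A r) = algebraMap S κ (algebraMap R S r) := fun r => by
    show χ (algebraMap A (Sp p S) (algebraMap R A r)) = _
    rw [algSp_algebraMap, hχ]
  refine ⟨κ, inferInstance, inferInstance, inferInstance, inferInstance, ⟨?_, ?_⟩, ?_⟩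
  · refine le_antisymm ?_ (nilradical_le_prime _ (H := RingHom.ker_isPrime _))
    intro a ha
    rw [nilradical_eq_sInf, Ideal.mem_sInf]
    intro P hP
    have hPp : P.comap (algebraMap R A) ≤ p := fun r hr => by
      by_contra hrp
      exact Ideal.IsPrime.ne_top hP (Ideal.eq_top_of_isUnit_mem _ hr
        (IsLocalization.map_units A (⟨r, hrp⟩ : p.primeCompl)))
    haveI : (P.comap (algebraMap R A)).IsPrime := Ideal.comap_isPrime _ _ (H := hP)
    obtain ⟨p₁, hp₁, hp₁le⟩ := Ideal.exists_minimalPrimes_le (I := (⊥ : Ideal R))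
      (J := P.comap (algebraMap R A)) bot_le
    obtain rfl := hu p₁ hp₁ (hp₁le.trans hPp)
    obtain ⟨⟨r, s⟩, hrs⟩ := IsLocalization.surj p.primeCompl a
    have hr : algebraMap A κ (algebraMap R A r) = 0 := by
      rw [← hrs, map_mul, RingHom.mem_ker.1 ha, zero_mul]
    rw [hA, Ideal.algebraMap_residueField_eq_zero, ← Ideal.mem_comap, hq₀p] at hr
    have := hp₁le hr
    rw [Ideal.mem_comap, ← hrs] at this
    exact (hP.mem_or_mem this).resolve_right fun h =>
      hP.ne_top (Ideal.eq_top_of_isUnit_mem _ h (IsLocalization.map_units A s))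
  · intro z
    obtain ⟨s, t, ht, rfl⟩ := IsFractionRing.div_surjective (A := S ⧸ q₀) z
    obtain ⟨s, rfl⟩ := Ideal.Quotient.mk_surjective s
    obtain ⟨t, rfl⟩ := Ideal.Quotient.mk_surjective t
    obtain ⟨a, b, hb', hs⟩ := hb.exists_frac q₀ hqmin s
    obtain ⟨a', b', hb'', ht'⟩ := hb.exists_frac q₀ hqmin t
    have hz : ∀ {x : S}, x ∉ q₀ → algebraMap S κ x ≠ 0 := fun hx h =>
      hx (Ideal.algebraMap_residueField_eq_zero.1 h)
    have htne : algebraMap S κ t ≠ 0 := by
      refine fun h => nonZeroDivisors.ne_zero ht ?_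
      rw [Ideal.Quotient.eq_zero_iff_mem]
      exact Ideal.algebraMap_residueField_eq_zero.1 h
    have e : algebraMap S κ s * algebraMap S κ (algebraMap R S b) = algebraMap S κ (algebraMap R S a) := by
      rw [← map_mul, ← sub_eq_zero, ← map_sub]
      exact Ideal.algebraMap_residueField_eq_zero.2 hs
    have e' : algebraMap S κ t * algebraMap S κ (algebraMap R S b') = algebraMap S κ (algebraMap R S a') := by
      rw [← map_mul, ← sub_eq_zero, ← map_sub]
      exact Ideal.algebraMap_residueField_eq_zero.2 ht'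
    refine ⟨algebraMap R A (a * b'), algebraMap R A (a' * b), ?_, ?_⟩
    · rw [hA, map_mul, map_mul, ← e']
      exact mul_ne_zero (mul_ne_zero htne (hz hb'')) (hz hb')
    · rw [hA, hA, map_mul, map_mul, map_mul, map_mul, ← e, ← e']
      show algebraMap S κ s / algebraMap S κ t * _ = _
      rw [div_mul_eq_mul_div, div_eq_iff htne]
      ring
  · refine le_antisymm ?_ (nilradical_le_prime _ (H := RingHom.ker_isPrime _))
    intro x hx
    rw [nilradical_eq_sInf, Ideal.mem_sInf]
    intro P hP
    obtain ⟨⟨s, d⟩, hsd⟩ := IsLocalization.surj (Algebra.algebraMapSubmonoid S p.primeCompl) x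
    have hs : s ∈ q₀ := by
      refine Ideal.algebraMap_residueField_eq_zero.1 ?_
      rw [← hχ, ← hsd, map_mul, show χ x = 0 from RingHom.mem_ker.1 hx, zero_mul]
    haveI : (P.comap (algebraMap S (Sp p S))).IsPrime := Ideal.comap_isPrime _ _ (H := hP)
    obtain ⟨q, hq, hqle⟩ := Ideal.exists_minimalPrimes_le (I := (⊥ : Ideal S))
      (J := P.comap (algebraMap S (Sp p S))) bot_le
    haveI := hq.1.1
    have hqp : q.comap (algebraMap R S) = p₀ := hu _ (hb.comap_min q hq) fun r hr => by
      by_contra hrp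
      exact Ideal.IsPrime.ne_top hP (Ideal.eq_top_of_isUnit_mem _ (hqle hr)
        (IsLocalization.map_units (Sp p S)
          (⟨_, r, hrp, rfl⟩ : Algebra.algebraMapSubmonoid S p.primeCompl)))
    obtain rfl := hb.eq_of_comap q₀ q hqmin (hq₀p.trans hqp.symm)
    have := hqle hs
    rw [Ideal.mem_comap, ← hsd] at this
    exact (hP.mem_or_mem this).resolve_right fun h =>
      hP.ne_top (Ideal.eq_top_of_isUnit_mem _ h (IsLocalization.map_units _ d))

variable [IsLocalRing A]

include p in
/-- the unique minimal prime below the point of a unibranch local ring -/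
theorem exists_unique_min (h : CAlg2.IsUnibranch A) :
    ∃ p₀ ∈ minimalPrimes R, p₀ ≤ p ∧ ∀ p₁ ∈ minimalPrimes R, p₁ ≤ p → p₁ = p₀ := by
  have hn : (nilradical A).IsPrime := (Ideal.Quotient.isDomain_iff_prime _).1 h.1
  have key : ∀ p₁ ∈ minimalPrimes R, p₁ ≤ p → p₁ = (nilradical A).comap (algebraMap R A) := by
    intro p₁ hp₁ hle
    haveI := hp₁.1.1
    have hd : Disjoint (p.primeCompl : Set R) (p₁ : Set R) :=
      Set.disjoint_left.2 fun r hr hr' => hr (hle hr')
    have hP := IsLocalization.isPrime_of_isPrime_disjoint p.primeCompl A p₁ ‹_› hd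
    have hc := IsLocalization.under_map_of_isPrime_disjoint p.primeCompl A ‹_› hd
    have h1 : (nilradical A).comap (algebraMap R A) ≤ p₁ := by
      rw [← show (p₁.map (algebraMap R A)).comap (algebraMap R A) = p₁ from hc]
      exact Ideal.comap_mono (nilradical_le_prime _ (H := hP))
    exact le_antisymm (hp₁.2 ⟨Ideal.comap_isPrime _ _, bot_le⟩ h1) h1
  obtain ⟨p₁, hp₁, hle⟩ := Ideal.exists_minimalPrimes_le (I := (⊥ : Ideal R)) (J := p) bot_le
  exact ⟨p₁, hp₁, hle, fun p₂ hp₂ hle₂ => (key p₂ hp₂ hle₂).trans (key p₁ hp₁ hle).symm⟩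

omit [Algebra.IsIntegral R S] in
theorem pi_residue_congr {O : Type u} [CommRing O] [IsLocalRing O] {B : Type u} [CommRing B]
    [IsLocalRing B] (e : B ≃+* O) (φ : A →+* O) (ψ : A →+* B) (h : ∀ a, e (ψ a) = φ a) :
    PI ((residue O).comp φ) ↔ PI ((residue B).comp ψ) := by
  haveI : IsLocalHom e.toRingHom := ⟨fun a ha => by simpa using ha.map e.symm⟩
  have : (residue O).comp φ = (ResidueField.map e.toRingHom).comp ((residue B).comp ψ) :=
    RingHom.ext fun a => (congrArg (residue O) (h a)).symm
  rw [this, pi_comp_iff]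
  refine and_iff_left (pi_of_surjective _ fun z => ?_)
  obtain ⟨z, rfl⟩ := residue_surjective z
  exact ⟨residue B (e.symm z), by rw [ResidueField.map_residue]; simp⟩

theorem transport_stalk (q : Ideal S) [q.IsPrime] (hq : q.comap (algebraMap R S) = p)
    (hu : ∀ q' : Ideal S, q'.IsPrime → q'.comap (algebraMap R S) = p → q' = q)
    {O : Type u} [CommRing O] [IsLocalRing O] [Algebra S O] [IsLocalization.AtPrime O q]
    (φ : A →+* O) (hφ : φ.comp (algebraMap R A) = (algebraMap S O).comp (algebraMap R S)) :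
    letI := algSp A p S
    ∃ _ : IsLocalRing (Sp p S),
      (CAlg2.IsGeomUnibranch O ↔ CAlg2.IsGeomUnibranch (Sp p S)) ∧
      (PI ((residue O).comp φ) ↔ PI ((residue (Sp p S)).comp (algebraMap A (Sp p S)))) := by
  letI := algSp A p S
  haveI := isLocalization_atPrime q hq hu
  haveI hl : IsLocalRing (Sp p S) := IsLocalization.AtPrime.isLocalRing (Sp p S) q
  let e : Sp p S ≃ₐ[S] O := IsLocalization.algEquiv q.primeCompl _ _
  have he : φ = e.toRingHom.comp (algebraMap A (Sp p S)) := by
    refine IsLocalization.ringHom_ext p.primeCompl (hφ.trans (RingHom.ext fun r => ?_))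
    show algebraMap S O (algebraMap R S r) = e (algebraMap A (Sp p S) (algebraMap R A r))
    rw [algSp_algebraMap, e.commutes]
  exact ⟨hl, (gu_congr e.toRingEquiv).symm,
    pi_residue_congr e.toRingEquiv φ _ fun a => (DFunLike.congr_fun he a).symm⟩

include hb in
/-- the forward direction -/
theorem unique_over (h : CAlg2.IsUnibranch A) (q q' : Ideal S) [q.IsPrime] [q'.IsPrime]
    (hq : q.comap (algebraMap R S) = p) (hq' : q'.comap (algebraMap R S) = p) : q = q' := by
  letI := algSp A p S
  haveI := isIntegral_algSp (A := A) (p := p) (S := S)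
  obtain ⟨p₀, hp₀, hle, hu⟩ := exists_unique_min (p := p) h
  obtain ⟨K, _, _, _, _, hM, hk⟩ := exists_model (A := A) hb hp₀ hle hu
  haveI := isLocalRing_of_isUnibranch hM hk h
  have key : ∀ (q : Ideal S) [q.IsPrime], q.comap (algebraMap R S) = p →
      q = (maximalIdeal (Sp p S)).comap (algebraMap S (Sp p S)) := by
    intro q _ hq
    have hd := disjoint_of_le q hq.le
    have hP := IsLocalization.isPrime_of_isPrime_disjoint _ (Sp p S) q ‹_› hd
    have hc := IsLocalization.under_map_of_isPrime_disjoint (Algebra.algebraMapSubmonoid S p.primeCompl)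
      (Sp p S) ‹_› hd
    set P := q.map (algebraMap S (Sp p S))
    haveI := hP
    haveI : P.IsMaximal := by
      refine Ideal.isMaximal_of_isIntegral_of_isMaximal_comap (R := A) P ?_
      have hA : P.comap (algebraMap A (Sp p S)) = maximalIdeal A := by
        refine le_antisymm (IsLocalRing.le_maximalIdeal (Ideal.IsPrime.ne_top inferInstance)) fun a ha => ?_
        obtain ⟨⟨r, s⟩, hrs⟩ := IsLocalization.surj p.primeCompl a
        have hr : r ∈ p := by
          rw [← IsLocalization.AtPrime.to_map_mem_maximal_iff A p, ← hrs]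
          exact Ideal.mul_mem_right _ _ ha
        have h1 : algebraMap A (Sp p S) (algebraMap R A r) ∈ P := by
          rw [algSp_algebraMap]
          refine Ideal.mem_map_of_mem _ ?_
          rw [← Ideal.mem_comap, hq]
          exact hr
        rw [← hrs, map_mul] at h1
        exact (hP.mem_or_mem h1).resolve_right fun h2 =>
          hP.ne_top (Ideal.eq_top_of_isUnit_mem _ h2 ((IsLocalization.map_units A s).map _))
      rw [hA]
      exact maximalIdeal.isMaximal A
    exact hc.symm.trans (congrArg _ (IsLocalRing.eq_maximalIdeal ‹P.IsMaximal›))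
  exact (key q hq).trans (key q' hq').symm

include hb in
/-- EGA IV 6.15.5, affine form at a point -/
theorem isGeomUnibranch_iff (q : Ideal S) [q.IsPrime] (hq : q.comap (algebraMap R S) = p)
    (huq : ∀ q' : Ideal S, q'.IsPrime → q'.comap (algebraMap R S) = p → q' = q)
    {O : Type u} [CommRing O] [IsLocalRing O] [Algebra S O] [IsLocalization.AtPrime O q]
    (φ : A →+* O) (hφ : φ.comp (algebraMap R A) = (algebraMap S O).comp (algebraMap R S)) :
    CAlg2.IsGeomUnibranch A ↔ CAlg2.IsGeomUnibranch O ∧ PI ((residue O).comp φ) := by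
  letI := algSp A p S
  haveI := isIntegral_algSp (A := A) (p := p) (S := S)
  obtain ⟨hl, h1, h2⟩ := transport_stalk q hq huq φ hφ
  rw [h1, h2]
  constructor
  · intro h
    obtain ⟨p₀, hp₀, hle, hu⟩ := exists_unique_min (p := p) h.1
    obtain ⟨K, _, _, _, _, hM, hk⟩ := exists_model (A := A) hb hp₀ hle hu
    exact (isGeomUnibranch_iff_of_integral hM hk).1 h
  · intro h
    -- the minimal prime below `p` is unique
    have hn : (nilradical (Sp p S)).IsPrime := (Ideal.Quotient.isDomain_iff_prime _).1 h.1.1.1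
    haveI := isLocalization_atPrime q hq huq
    have huS : ∀ q₁ ∈ minimalPrimes S, q₁ ≤ q →
        q₁ = (nilradical (Sp p S)).comap (algebraMap S (Sp p S)) := by
      intro q₁ hq₁ hle
      haveI := hq₁.1.1
      have hd : Disjoint (q.primeCompl : Set S) (q₁ : Set S) :=
        Set.disjoint_left.2 fun r hr hr' => hr (hle hr')
      have hP := IsLocalization.isPrime_of_isPrime_disjoint q.primeCompl (Sp p S) q₁ ‹_› hd
      have hc := IsLocalization.under_map_of_isPrime_disjoint q.primeCompl (Sp p S) ‹_› hd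
      have h1 : (nilradical (Sp p S)).comap (algebraMap S (Sp p S)) ≤ q₁ := by
        rw [← show (q₁.map (algebraMap S (Sp p S))).comap (algebraMap S (Sp p S)) = q₁ from hc]
        exact Ideal.comap_mono (nilradical_le_prime _ (H := hP))
      exact le_antisymm (hq₁.2 ⟨Ideal.comap_isPrime _ _, bot_le⟩ h1) h1
    have key : ∀ p₁ ∈ minimalPrimes R, p₁ ≤ p →
        ∃ q₁ ∈ minimalPrimes S, q₁ ≤ q ∧ q₁.comap (algebraMap R S) = p₁ := by
      intro p₁ hp₁ hle
      obtain ⟨q₁, hq₁, hq₁p⟩ := hb.exists_comap p₁ hp₁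
      obtain ⟨q₂, hq₂, hle₂⟩ := Ideal.exists_minimalPrimes_le (I := (⊥ : Ideal S)) (J := q₁) bot_le
      haveI := hq₂.1.1
      have h2 : q₂.comap (algebraMap R S) = p₁ :=
        le_antisymm ((Ideal.comap_mono hle₂).trans hq₁p.le)
          (hp₁.2 ⟨inferInstance, bot_le⟩ ((Ideal.comap_mono hle₂).trans hq₁p.le))
      obtain ⟨Q, hQ, hQp, hQc⟩ := Ideal.exists_ideal_over_prime_of_isIntegral p q₂ (h2.le.trans hle)
      exact ⟨q₂, hq₂, huq Q hQp hQc ▸ hQ, h2⟩
    obtain ⟨p₀, hp₀, hle⟩ := Ideal.exists_minimalPrimes_le (I := (⊥ : Ideal R)) (J := p) bot_le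
    have hu : ∀ p₁ ∈ minimalPrimes R, p₁ ≤ p → p₁ = p₀ := by
      intro p₁ hp₁ hle₁
      obtain ⟨q₁, hq₁, hl₁, rfl⟩ := key p₁ hp₁ hle₁
      obtain ⟨q₀, hq₀, hl₀, rfl⟩ := key p₀ hp₀ hle
      rw [huS q₁ hq₁ hl₁, huS q₀ hq₀ hl₀]
    obtain ⟨K, _, _, _, _, hM, hk⟩ := exists_model (A := A) hb hp₀ hle hu
    exact (isGeomUnibranch_iff_of_integral hM hk).2 h

end Affine

end Groth.Agent.Branch14.Bir
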