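import Groth.Agent.Lib.Branch14.EtaleNbhd
import Groth.Agent.Lib.Hens.AtPrime
import Groth.Agent.Lib.Weight4.NbhdFinite
import Groth.Agent.Lib.WeilH13.Frob
import Groth.Prelude.Def_Hens2

/-!
# Branches of a scheme read on its elementary etale neighbourhoods
-/

universe u

set_option backward.isDefEq.respectTransparency.types false
set_option maxSynthPendingDepth 3

open AlgebraicGeometry CategoryTheory IsLocalRing

namespace Groth.Agent.Branch14

open Groth.Agent.Hens Groth.Agent.StalkHens14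

theorem numBranches_of_ringEquiv {A A' : Type u} [CommRing A] [IsLocalRing A] [CommRing A']
    [IsLocalRing A'] (e : A ≃+* A') : Brnch.numBranches A = Brnch.numBranches A' := by
  let _ : Algebra A (Hh A') := ((algebraMap A' (Hh A')).comp e.toRingHom).toAlgebra
  have hl : IsLocalHom (algebraMap A (Hh A')) := ⟨fun a ha => by
    have h' : IsUnit (e a) := (IsLocalHom.map_nonunit (f := algebraMap A' (Hh A')) (e a) ha)
    simpa using h'.map e.symm⟩
  have hH : Hensel.IsHenselization A (Hh A') := by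
    refine ⟨inferInstance, fun T _ _ f hf => ?_⟩
    have hl' : IsLocalHom (f.comp e.symm.toRingHom) := ⟨fun a ha => by
      have h' := hf.map_nonunit (e.symm a) ha
      simpa using h'.map e⟩
    obtain ⟨g, hg, hu⟩ := Hensel.IsHenselization.universal (R := A') (S := Hh A') T
      (f.comp e.symm.toRingHom) hl'
    refine ⟨g, RingHom.ext fun a => ?_, fun g' hg' => hu g' (RingHom.ext fun a => ?_)⟩
    · have := congr($hg (e a))
      simp only [RingHom.comp_apply] at this ⊢
      refine Eq.trans ?_ (this.trans (by simp))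
      rfl
    · have := congr($hg' (e.symm a))
      simp only [RingHom.comp_apply] at this ⊢
      refine Eq.trans ?_ this
      show g' (algebraMap A' (Hh A') a) = g' (algebraMap A' (Hh A') (e (e.symm a)))
      rw [e.apply_symm_apply]
  rw [← card_minimalPrimes_henselization A (Hh A'), ← card_minimalPrimes_henselization A' (Hh A')]

section Ring

variable {R : Type u} [CommRing R] (p : Ideal R) [p.IsPrime]

theorem numBranches_atPrime :
    Brnch.numBranches (Localization.AtPrime p) = (minimalPrimes (Hs R p.ResidueField)).encard :=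
  (card_minimalPrimes_henselization (Localization.AtPrime p) (Hs R p.ResidueField)).symm

theorem encard_nbhd_le {K : Type u} [Field K] [Algebra R K] (i : Nbhd R K) :
    (minimalPrimes i.G).encard ≤ (minimalPrimes (Hs R K)).encard := by
  let _ : Algebra i.G (Hs R K) := (Hs.of i).toRingHom.toAlgebra
  have : IsScalarTower R i.G (Hs R K) :=
    IsScalarTower.of_algebraMap_eq fun r => ((Hs.of i).commutes r).symm
  have : Module.Flat i.G (Hs R K) := Algebra.FormallyUnramified.flat_of_restrictScalars R i.G _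
  have : IsLocalHom (algebraMap i.G (Hs R K)) := ⟨fun y hy => by
    rw [Hs.isUnit_iff] at hy
    by_contra hn
    exact hy ((Hs.res_of i y).trans ((i.res_eq_zero_iff y).2 hn))⟩
  exact encard_minimalPrimes_le_of_flat i.G (Hs R K)

end Ring

section Scheme

variable {X : Scheme.{u}} {W : X.Opens} (hW : IsAffineOpen W) {x : X} (hx : x ∈ W)


theorem evaluation_eq_zero_iff (r : Γ(X, W)) :
    X.evaluation W x hx r = 0 ↔ r ∈ (hW.primeIdealOf ⟨x, hx⟩).asIdeal := by
  let _ := TopCat.Presheaf.algebra_section_stalk X.presheaf (⟨x, hx⟩ : W)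
  have := hW.isLocalization_stalk ⟨x, hx⟩
  exact (residue_eq_zero_iff _).trans
    (IsLocalization.AtPrime.to_map_mem_maximal_iff (X.presheaf.stalk x) (hW.primeIdealOf ⟨x, hx⟩).asIdeal r)

theorem numBranchesAt_eq :
    Brnch.numBranchesAt X x = (minimalPrimes (Hs Γ(X, W) (hW.primeIdealOf ⟨x, hx⟩).asIdeal.ResidueField)).encard := by
  let _ := TopCat.Presheaf.algebra_section_stalk X.presheaf (⟨x, hx⟩ : W)
  have := hW.isLocalization_stalk ⟨x, hx⟩
  rw [← numBranches_atPrime]
  exact numBranches_of_ringEquiv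
    (IsLocalization.algEquiv (hW.primeIdealOf ⟨x, hx⟩).asIdeal.primeCompl (X.presheaf.stalk x)
      (Localization.AtPrime (hW.primeIdealOf ⟨x, hx⟩).asIdeal)).toRingEquiv

theorem exists_residue_equiv :
    ∃ χ : (hW.primeIdealOf ⟨x, hx⟩).asIdeal.ResidueField ≃+* X.residueField x,
      ∀ r, χ (algebraMap Γ(X, W) _ r) = X.evaluation W x hx r := by
  obtain ⟨χ, hχ⟩ := exists_residueField_lift (hW.primeIdealOf ⟨x, hx⟩).asIdeal (X.evaluation W x hx).hom
    (Ideal.ext fun r => evaluation_eq_zero_iff hW hx r)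
  refine ⟨RingEquiv.ofBijective χ ⟨χ.injective, fun y => ?_⟩, hχ⟩
  obtain ⟨a, rfl⟩ := residue_surjective (R := X.presheaf.stalk x) y
  let _ := TopCat.Presheaf.algebra_section_stalk X.presheaf (⟨x, hx⟩ : W)
  have := hW.isLocalization_stalk ⟨x, hx⟩
  obtain ⟨r, s, rfl⟩ := IsLocalization.exists_mk'_eq (hW.primeIdealOf ⟨x, hx⟩).asIdeal.primeCompl a
  refine ⟨algebraMap _ _ r / algebraMap _ _ (s : Γ(X, W)), ?_⟩
  rw [map_div₀, hχ, hχ, div_eq_iff fun h => s.2 ((evaluation_eq_zero_iff hW hx _).1 h)]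
  show residue _ (algebraMap Γ(X, W) (X.presheaf.stalk x) r) =
    residue _ _ * residue _ (algebraMap Γ(X, W) (X.presheaf.stalk x) (s : Γ(X, W)))
  exact (congrArg (residue _) (IsLocalization.mk'_spec (X.presheaf.stalk x) r s).symm).trans (map_mul _ _ _)

theorem specMap_evaluation :
    Spec.map (X.evaluation W x hx) ≫ hW.fromSpec = X.fromSpecResidueField x := by
  rw [Scheme.fromSpecResidueField, ← hW.fromSpecStalk_eq_fromSpecStalk hx, IsAffineOpen.fromSpecStalk,
    ← Spec.map_comp_assoc]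
  rfl

/-- The upper bound. -/
theorem encard_components_le_numBranchesAt {U : Scheme.{u}} (g : U ⟶ X) (u : U)
    (h : Hens2.IsEtaleNbhd g u x) :
    {Z : Set ↑U | Z ∈ irreducibleComponents ↑U ∧ u ∈ Z}.encard ≤ Brnch.numBranchesAt X x := by
  obtain ⟨hg, rfl, hres⟩ := h
  obtain ⟨W, hW, hx, -⟩ := exists_isAffineOpen_mem_and_subset (x := g u) (U := ⊤) trivial
  obtain ⟨V, hV, huV, hVW⟩ := exists_isAffineOpen_mem_and_subset (x := u) (U := g ⁻¹ᵁ W) hx
  rw [numBranchesAt_eq hW hx, ← encard_minimalPrimes_stalk U u]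
  let φ := g.appLE W V hVW
  let _ : Algebra Γ(X, W) Γ(U, V) := φ.hom.toAlgebra
  have : Algebra.Etale Γ(X, W) Γ(U, V) :=
    RingHom.etale_algebraMap.1 (HasRingHomProperty.appLE @Etale g inferInstance ⟨W, hW⟩ ⟨V, hV⟩ hVW)
  obtain ⟨χ, hχ⟩ := exists_residue_equiv hW hx
  let ρ : X.residueField (g u) ≃+* U.residueField u :=
    RingEquiv.ofBijective (g.residueFieldMap u).hom hres
  let σ : Γ(U, V) →ₐ[Γ(X, W)] (hW.primeIdealOf ⟨g u, hx⟩).asIdeal.ResidueField :=
    { (χ.trans ρ).symm.toRingHom.comp (U.evaluation V u huV).hom with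
      commutes' := fun r => by
        show (χ.trans ρ).symm (U.evaluation V u huV (φ r)) = _
        rw [RingEquiv.symm_apply_eq]
        show _ = ρ (χ _)
        rw [hχ]
        exact (WeilH13.residueFieldMap_evaluation g hVW u huV r).symm }
  obtain ⟨i, e, he⟩ := Nbhd.exists_of Γ(U, V) σ
  refine le_trans (le_of_eq ?_) (encard_nbhd_le i)
  let _ := TopCat.Presheaf.algebra_section_stalk U.presheaf (⟨u, huV⟩ : V)
  have := hV.isLocalization_stalk ⟨u, huV⟩
  refine encard_minimalPrimes_of_ringEquiv (IsLocalization.ringEquivOfRingEquiv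
    (M := (hV.primeIdealOf ⟨u, huV⟩).asIdeal.primeCompl) (T := i.q.primeCompl)
    (U.presheaf.stalk u) i.G e.toRingEquiv ?_)
  ext z
  simp only [Submonoid.mem_map, Ideal.mem_primeCompl_iff]
  have key : ∀ a, e a ∈ i.q ↔ a ∈ (hV.primeIdealOf ⟨u, huV⟩).asIdeal := fun a => by
    rw [← evaluation_eq_zero_iff hV huV]
    show i.σ (e a) = 0 ↔ _
    rw [he]
    exact map_eq_zero_iff _ (χ.trans ρ).symm.injective
  constructor
  · rintro ⟨a, ha, rfl⟩
    exact fun hh => ha ((key a).1 hh)
  · intro hz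
    exact ⟨e.symm z, fun hh => hz (by simpa using (key (e.symm z)).2 hh), e.apply_symm_apply z⟩

/-- Enough components in some elementary neighbourhood. -/
theorem exists_elementary_nbhd_encard_ge (x : X) (n : ℕ) (hn : (n : ℕ∞) ≤ Brnch.numBranchesAt X x) :
    ∃ (U : Scheme.{u}) (g : U ⟶ X) (u : U), Hens2.IsEtaleNbhd g u x ∧
      (n : ℕ∞) ≤ {Z : Set ↑U | Z ∈ irreducibleComponents ↑U ∧ u ∈ Z}.encard := by
  obtain ⟨W, hW, hx, -⟩ := exists_isAffineOpen_mem_and_subset (x := x) (U := ⊤) trivial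
  rw [numBranchesAt_eq hW hx] at hn
  obtain ⟨i, hi⟩ := exists_nbhd_encard_ge n hn
  obtain ⟨χ, hχ⟩ := exists_residue_equiv hW hx
  let g : Spec (CommRingCat.of i.S) ⟶ X :=
    Spec.map (CommRingCat.ofHom (algebraMap Γ(X, W) i.S)) ≫ hW.fromSpec
  have hg : Etale g := by
    have : Etale (Spec.map (CommRingCat.ofHom (algebraMap Γ(X, W) i.S))) :=
      (HasRingHomProperty.Spec_iff (P := @Etale)).2 (RingHom.etale_algebraMap.2 inferInstance)
    infer_instance
  let σ : CommRingCat.of i.S ⟶ X.residueField x :=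
    CommRingCat.ofHom (χ.toRingHom.comp i.σ.toRingHom)
  let v : PrimeSpectrum i.S := ⟨i.q, inferInstance⟩
  have hv : Spec.map σ (closedPoint (X.residueField x)) = v := PrimeSpectrum.ext (Ideal.ext fun y => by
    show χ (i.σ y) ∈ maximalIdeal (X.residueField x) ↔ i.σ y = 0
    rw [maximalIdeal_eq_bot, Ideal.mem_bot, map_eq_zero_iff _ χ.injective])
  have hσ : Spec.map σ ≫ g = X.fromSpecResidueField x := by
    rw [← specMap_evaluation hW hx]
    show Spec.map σ ≫ Spec.map _ ≫ hW.fromSpec = _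
    rw [← Spec.map_comp_assoc]
    congr 2
    refine CommRingCat.hom_ext (RingHom.ext fun r => ?_)
    show χ (i.σ (algebraMap Γ(X, W) i.S r)) = _
    rw [AlgHom.commutes, hχ]
  have hgv : g v = x := by
    rw [← hv, ← Scheme.Hom.comp_apply, hσ]
    exact X.fromSpecResidueField_apply x _
  refine ⟨_, g, v, ⟨hg, hgv, (g.residueFieldMap v).hom.injective,
    Weight.residueFieldMap_surjective_of_section g v x hgv (Spec.map σ) hσ hv⟩, ?_⟩
  rw [← encard_minimalPrimes_stalk]
  refine hi.trans (le_of_eq ?_)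
  exact encard_minimalPrimes_of_ringEquiv
    (StructureSheaf.stalkIso (CommRingCat.of i.S) v).toRingEquiv

theorem numBranchesAt_eq_iSup (X : Scheme.{u}) (x : X) :
    Brnch.numBranchesAt X x = ⨆ (U : Scheme.{u}) (g : U ⟶ X) (u : U) (_ : Hens2.IsEtaleNbhd g u x),
      {Z : Set ↑U | Z ∈ irreducibleComponents ↑U ∧ u ∈ Z}.encard := by
  refine le_antisymm ?_ (iSup_le fun U => iSup_le fun g => iSup_le fun u => iSup_le fun h => ?_)
  · refine ENat.forall_natCast_le_iff_le.1 fun n hn => ?_
    obtain ⟨U, g, u, hg, h⟩ := exists_elementary_nbhd_encard_ge x n hn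
    exact le_iSup_of_le U (le_iSup_of_le g (le_iSup_of_le u (le_iSup_of_le hg h)))
  · exact encard_components_le_numBranchesAt g u h

theorem isUnibranch_stalk_iff (X : Scheme.{u}) (x : X) :
    CAlg2.IsUnibranch ↑(X.presheaf.stalk x) ↔ ∀ (U : Scheme.{u}) (g : U ⟶ X) (u : U),
      Hens2.IsEtaleNbhd g u x → {Z : Set ↑U | Z ∈ irreducibleComponents ↑U ∧ u ∈ Z}.encard = 1 := by
  rw [← numBranches_eq_one_iff]
  change Brnch.numBranchesAt X x = 1 ↔ _
  constructor
  · intro h U g u hg
    exact le_antisymm ((encard_components_le_numBranchesAt g u hg).trans h.le)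
      (one_le_encard_components U u)
  · intro h
    rw [numBranchesAt_eq_iSup]
    refine le_antisymm (iSup_le fun U => iSup_le fun g => iSup_le fun u => iSup_le fun hh =>
      (h U g u hh).le) ?_
    obtain ⟨U, g, u, hg, hle⟩ := exists_elementary_nbhd_encard_ge x 0 bot_le
    exact le_iSup_of_le U (le_iSup_of_le g (le_iSup_of_le u
      (le_iSup_of_le hg (one_le_encard_components U u))))

end Scheme

end Groth.Agent.Branch14
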