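import Groth.Prelude.Def_EGA4Misc
import Groth.Agent.Lib.Branch14.Birational
import Groth.Agent.Lib.Branch14.Elementary
import Mathlib.AlgebraicGeometry.Morphisms.Integral

/-!
# Geometrically unibranch points under integral birational morphisms of schemes (EGA IV 6.15.5)
-/

set_option backward.isDefEq.respectTransparency.types false
set_option linter.style.haveILetI false
set_option linter.unusedSectionVars false

universe u

open CategoryTheory AlgebraicGeometry IsLocalRing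

namespace Groth.Agent.Branch14.Bir

theorem mem_genericPoints_iff_forall {α : Type*} [TopologicalSpace α] [QuasiSober α] [T0Space α]
    (x : α) : x ∈ genericPoints α ↔ ∀ z, z ⤳ x → z = x := by
  constructor
  · intro hx z hz
    have hle : closure ({x} : Set α) ⊆ closure {z} :=
      closure_minimal (Set.singleton_subset_iff.2 hz.mem_closure) isClosed_closure
    exact IsGenericPoint.eq (isGenericPoint_closure (x := z))
      (Set.Subset.antisymm hle (hx.2 isIrreducible_singleton.closure hle))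
  · intro h
    obtain ⟨Z, hZ, hle⟩ := exists_mem_irreducibleComponents_subset_of_isIrreducible _
      (isIrreducible_singleton (x := x)).closure
    let η := genericPoints.ofComponent ⟨Z, hZ⟩
    have hη := genericPoints.isGenericPoint_ofComponent ⟨Z, hZ⟩
    have := h η.1 (hη.specializes (hle (subset_closure rfl)))
    exact this ▸ η.2

theorem mem_genericPoints_fromSpec_iff {Y : Scheme.{u}} {V : Y.Opens} (hV : IsAffineOpen V)
    (P : Spec Γ(Y, V)) :
    hV.fromSpec P ∈ genericPoints Y ↔ P.asIdeal ∈ minimalPrimes Γ(Y, V) := by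
  rw [mem_genericPoints_iff_forall]
  have hmem : hV.fromSpec P ∈ V := hV.range_fromSpec.le ⟨P, rfl⟩
  constructor
  · intro h
    refine ⟨⟨P.2, bot_le⟩, fun Q hQ hle => ?_⟩
    let Q' : Spec Γ(Y, V) := ⟨Q, hQ.1⟩
    have hs : Q' ⤳ P := (PrimeSpectrum.le_iff_specializes Q' P).1 hle
    have := h _ (hs.map hV.fromSpec.continuous)
    exact (congrArg PrimeSpectrum.asIdeal (hV.fromSpec.isOpenEmbedding.injective this)).ge
  · intro h z hz
    have hzV : z ∈ V := hz.mem_open V.2 hmem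
    obtain ⟨Q, rfl⟩ : z ∈ Set.range hV.fromSpec := hV.range_fromSpec.ge hzV
    have hle : Q.asIdeal ≤ P.asIdeal :=
      (PrimeSpectrum.le_iff_specializes Q P).2 (hV.fromSpec.isEmbedding.isInducing.specializes_iff.1 hz)
    exact congrArg _ (PrimeSpectrum.ext (le_antisymm hle (h.2 ⟨Q.2, bot_le⟩ hle)))

variable {X Y : Scheme.{u}} (f : X ⟶ Y) [IsIntegralHom f]

section Chart

variable {V : Y.Opens} (hV : IsAffineOpen V)

theorem fromSpec_comap (Q : Spec Γ(X, f ⁻¹ᵁ V)) :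
    hV.fromSpec (Spec.map (f.app V) Q) = f ((hV.preimage f).fromSpec Q) := by
  have h := IsAffineOpen.SpecMap_appLE_fromSpec f hV (hV.preimage f) le_rfl
  rw [← f.app_eq_appLE] at h
  exact congr($h Q)

theorem asIdeal_comap (Q : Spec Γ(X, f ⁻¹ᵁ V)) :
    (Spec.map (f.app V) Q).asIdeal = Q.asIdeal.comap (f.app V).hom := rfl

include hV in
theorem isBir (hf : RadPt.IsBirational f) :
    letI := (f.app V).hom.toAlgebra
    IsBir Γ(Y, V) Γ(X, f ⁻¹ᵁ V) := by
  letI := (f.app V).hom.toAlgebra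
  have hU := hV.preimage f
  have hgen : ∀ Q : Spec Γ(X, f ⁻¹ᵁ V), Q.asIdeal.comap (f.app V).hom ∈ minimalPrimes Γ(Y, V) →
      f (hU.fromSpec Q) ∈ genericPoints Y := fun Q hQ => by
    rw [← fromSpec_comap f hV, mem_genericPoints_fromSpec_iff hV]
    exact hQ
  refine ⟨fun q hq => ?_, fun q q' _ _ hq heq => ?_, fun p hp => ?_, fun q _ hq s => ?_⟩
  · have := hq.1.1
    let Q : Spec Γ(X, f ⁻¹ᵁ V) := ⟨q, this⟩
    have h := hf.1.mapsTo ((mem_genericPoints_fromSpec_iff hU Q).2 hq)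
    rw [← fromSpec_comap f hV, mem_genericPoints_fromSpec_iff hV] at h
    exact h
  · let Q : Spec Γ(X, f ⁻¹ᵁ V) := ⟨q, ‹_›⟩
    let Q' : Spec Γ(X, f ⁻¹ᵁ V) := ⟨q', ‹_›⟩
    have hPP : Spec.map (f.app V) Q = Spec.map (f.app V) Q' := PrimeSpectrum.ext heq
    have h := (hf.2 _ (hgen Q hq)).1 (hU.fromSpec Q) (hU.fromSpec Q') rfl
      (by rw [← fromSpec_comap f hV, ← fromSpec_comap f hV, hPP])
    exact congrArg PrimeSpectrum.asIdeal (hU.fromSpec.isOpenEmbedding.injective h)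
  · have := hp.1.1
    let P : Spec Γ(Y, V) := ⟨p, this⟩
    obtain ⟨x, -, hxP⟩ := hf.1.surjOn ((mem_genericPoints_fromSpec_iff hV P).2 hp)
    have hxU : x ∈ f ⁻¹ᵁ V := by
      show f x ∈ V
      rw [hxP]
      exact hV.range_fromSpec.le ⟨P, rfl⟩
    obtain ⟨Q, rfl⟩ : x ∈ Set.range hU.fromSpec := hU.range_fromSpec.ge hxU
    rw [← fromSpec_comap f hV] at hxP
    exact ⟨Q.asIdeal, Q.2, congrArg PrimeSpectrum.asIdeal (hV.fromSpec.isOpenEmbedding.injective hxP)⟩
  · let Q : Spec Γ(X, f ⁻¹ᵁ V) := ⟨q, ‹_›⟩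
    have hxU : hU.fromSpec Q ∈ f ⁻¹ᵁ V := hU.range_fromSpec.le ⟨Q, rfl⟩
    set x := hU.fromSpec Q with hx
    have hQx : hU.primeIdealOf ⟨x, hxU⟩ = Q :=
      hU.fromSpec.isOpenEmbedding.injective (hU.fromSpec_primeIdealOf ⟨x, hxU⟩)
    have hbij := (hf.2 _ (hgen Q hq)).2 x rfl
    obtain ⟨t, ht⟩ := hbij.2 (X.evaluation (f ⁻¹ᵁ V) x hxU s)
    obtain ⟨z, rfl⟩ := residue_surjective (R := Y.presheaf.stalk (f x)) t
    let _ := TopCat.Presheaf.algebra_section_stalk Y.presheaf (⟨f x, hxU⟩ : V)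
    have := hV.isLocalization_stalk ⟨f x, hxU⟩
    obtain ⟨⟨a, b⟩, hab⟩ := IsLocalization.surj (hV.primeIdealOf ⟨f x, hxU⟩).asIdeal.primeCompl z
    have hnat : ∀ r : Γ(Y, V), X.evaluation (f ⁻¹ᵁ V) x hxU (f.app V r) =
        (f.residueFieldMap x).hom (Y.evaluation V (f x) hxU r) := fun r =>
      (Scheme.evaluation_naturality_apply f x hxU r).symm
    have hq' : ∀ w, X.evaluation (f ⁻¹ᵁ V) x hxU w = 0 ↔ w ∈ q := fun w => by
      rw [evaluation_eq_zero_iff hU hxU, hQx]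
    refine ⟨a, b.1, fun hb => b.2 ?_, ?_⟩
    · have h := (hq' _).2 hb
      rw [show algebraMap Γ(Y, V) Γ(X, f ⁻¹ᵁ V) b.1 = f.app V b.1 from rfl, hnat, map_eq_zero,
        evaluation_eq_zero_iff hV hxU] at h
      exact h
    · rw [← hq', map_sub, map_mul, sub_eq_zero, ← ht]
      show _ * X.evaluation (f ⁻¹ᵁ V) x hxU (f.app V b.1) = X.evaluation (f ⁻¹ᵁ V) x hxU (f.app V a)
      rw [hnat, hnat, ← map_mul]
      exact congrArg _ ((map_mul (residue _) _ _).symm.trans (congrArg (residue _) hab))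

end Chart

theorem exists_point (hf : RadPt.IsBirational f) (y : Y) : ∃ x, f x = y := by
  obtain ⟨V, hV, hyV, -⟩ := exists_isAffineOpen_mem_and_subset (x := y) (U := ⊤) trivial
  let _ := (f.app V).hom.toAlgebra
  haveI : Algebra.IsIntegral Γ(Y, V) Γ(X, f ⁻¹ᵁ V) := ⟨f.isIntegral_app V hV⟩
  let P := hV.primeIdealOf ⟨y, hyV⟩
  haveI := P.2
  obtain ⟨p₀, hp₀, hle⟩ := Ideal.exists_minimalPrimes_le (I := (⊥ : Ideal Γ(Y, V))) (J := P.asIdeal) bot_le
  obtain ⟨q₀, hq₀, hq₀p⟩ := (isBir f hV hf).exists_comap p₀ hp₀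
  obtain ⟨Q, -, hQ, hQp⟩ := Ideal.exists_ideal_over_prime_of_isIntegral P.asIdeal q₀ (hq₀p.le.trans hle)
  refine ⟨(hV.preimage f).fromSpec ⟨Q, hQ⟩, ?_⟩
  rw [← fromSpec_comap f hV, show Spec.map (f.app V) ⟨Q, hQ⟩ = P from PrimeSpectrum.ext hQp]
  exact hV.fromSpec_primeIdealOf ⟨y, hyV⟩

theorem injective_fibre (hf : RadPt.IsBirational f) {y : Y}
    (h : CAlg2.IsUnibranch (Y.presheaf.stalk y)) (x x' : X) (hx : f x = y) (hx' : f x' = y) :
    x = x' := by
  obtain ⟨V, hV, hyV, -⟩ := exists_isAffineOpen_mem_and_subset (x := y) (U := ⊤) trivial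
  let _ := (f.app V).hom.toAlgebra
  haveI : Algebra.IsIntegral Γ(Y, V) Γ(X, f ⁻¹ᵁ V) := ⟨f.isIntegral_app V hV⟩
  let _ := TopCat.Presheaf.algebra_section_stalk Y.presheaf (⟨y, hyV⟩ : V)
  haveI := hV.isLocalization_stalk ⟨y, hyV⟩
  haveI : (hV.primeIdealOf ⟨y, hyV⟩).asIdeal.IsPrime := (hV.primeIdealOf ⟨y, hyV⟩).2
  have hU := hV.preimage f
  obtain ⟨Q, rfl⟩ : x ∈ Set.range hU.fromSpec := hU.range_fromSpec.ge (show f x ∈ V from hx ▸ hyV)
  obtain ⟨Q', rfl⟩ : x' ∈ Set.range hU.fromSpec := hU.range_fromSpec.ge (show f x' ∈ V from hx' ▸ hyV)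
  have key : ∀ Q : Spec Γ(X, f ⁻¹ᵁ V), f (hU.fromSpec Q) = y →
      Q.asIdeal.comap (algebraMap Γ(Y, V) Γ(X, f ⁻¹ᵁ V)) = (hV.primeIdealOf ⟨y, hyV⟩).asIdeal := by
    intro Q hQ
    rw [← fromSpec_comap f hV] at hQ
    exact congrArg PrimeSpectrum.asIdeal (hV.fromSpec.isOpenEmbedding.injective
      (hQ.trans (hV.fromSpec_primeIdealOf ⟨y, hyV⟩).symm))
  haveI := Q.2
  haveI := Q'.2
  exact congrArg _ (PrimeSpectrum.ext
    (unique_over (isBir f hV hf) h Q.asIdeal Q'.asIdeal (key Q hx) (key Q' hx')))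

theorem stalk_iff (hf : RadPt.IsBirational f) (x : X) (hu : ∀ x', f x' = f x → x' = x) :
    CAlg2.IsGeomUnibranch (Y.presheaf.stalk (f x)) ↔
      CAlg2.IsGeomUnibranch (X.presheaf.stalk x) ∧ (f.residueFieldMap x).hom.IsPurelyInseparable := by
  obtain ⟨V, hV, hyV, -⟩ := exists_isAffineOpen_mem_and_subset (x := f x) (U := ⊤) trivial
  let _ := (f.app V).hom.toAlgebra
  haveI : Algebra.IsIntegral Γ(Y, V) Γ(X, f ⁻¹ᵁ V) := ⟨f.isIntegral_app V hV⟩
  let _ := TopCat.Presheaf.algebra_section_stalk Y.presheaf (⟨f x, hyV⟩ : V)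
  haveI := hV.isLocalization_stalk ⟨f x, hyV⟩
  have hU := hV.preimage f
  let _ := TopCat.Presheaf.algebra_section_stalk X.presheaf (⟨x, hyV⟩ : (f ⁻¹ᵁ V : X.Opens))
  haveI := hU.isLocalization_stalk ⟨x, hyV⟩
  haveI : (hV.primeIdealOf ⟨f x, hyV⟩).asIdeal.IsPrime := (hV.primeIdealOf ⟨f x, hyV⟩).2
  haveI : (hU.primeIdealOf ⟨x, hyV⟩).asIdeal.IsPrime := (hU.primeIdealOf ⟨x, hyV⟩).2
  have hcomap : Spec.map (f.app V) (hU.primeIdealOf ⟨x, hyV⟩) = hV.primeIdealOf ⟨f x, hyV⟩ :=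
    hV.fromSpec.isOpenEmbedding.injective (by
      rw [fromSpec_comap f hV, hU.fromSpec_primeIdealOf, hV.fromSpec_primeIdealOf])
  rw [isGeomUnibranch_iff (isBir f hV hf) (hU.primeIdealOf ⟨x, hyV⟩).asIdeal
    (congrArg PrimeSpectrum.asIdeal hcomap) ?_ (O := X.presheaf.stalk x) (f.stalkMap x).hom ?_]
  · refine and_congr_right fun _ => ?_
    rw [pi_iff_isPurelyInseparable,
      show (residue (X.presheaf.stalk x)).comp (f.stalkMap x).hom =
        (f.residueFieldMap x).hom.comp (Y.residue (f x)).hom from rfl]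
    refine (pi_comp_iff (L₀ := Y.residueField (f x)) (L := X.residueField x)
      (Y.residue (f x)).hom (f.residueFieldMap x).hom).trans
        ⟨fun h => h.2, fun h => ⟨pi_of_surjective _ ?_, h⟩⟩
    exact residue_surjective
  · intro q hq hqp
    let Q : Spec Γ(X, f ⁻¹ᵁ V) := ⟨q, hq⟩
    have h := hu (hU.fromSpec Q) (by
      rw [← fromSpec_comap f hV, show Spec.map (f.app V) Q = hV.primeIdealOf ⟨f x, hyV⟩ from
        PrimeSpectrum.ext hqp, hV.fromSpec_primeIdealOf])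
    exact congrArg PrimeSpectrum.asIdeal
      (hU.fromSpec.isOpenEmbedding.injective (h.trans (hU.fromSpec_primeIdealOf ⟨x, hyV⟩).symm) :
        Q = hU.primeIdealOf ⟨x, hyV⟩)
  · exact RingHom.ext fun r => Scheme.Hom.germ_stalkMap_apply f V x hyV r

theorem iff_radicial (hf : RadPt.IsBirational f) (y : Y) :
    CAlg2.IsGeomUnibranch (Y.presheaf.stalk y) ↔
      (RadPt.IsRadicialAt f y ∧ ∀ x : X, f x = y → CAlg2.IsGeomUnibranch (X.presheaf.stalk x)) := by
  constructor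
  · intro h
    have hinj := injective_fibre f hf h.1
    have key : ∀ x : X, f x = y → CAlg2.IsGeomUnibranch (X.presheaf.stalk x) ∧
        (f.residueFieldMap x).hom.IsPurelyInseparable := by
      rintro x rfl
      exact (stalk_iff f hf x fun x' hx' => hinj x' x hx' rfl).1 h
    exact ⟨⟨hinj, fun x hx => (key x hx).2⟩, fun x hx => (key x hx).1⟩
  · rintro ⟨⟨hinj, hp⟩, hX⟩
    obtain ⟨x, rfl⟩ := exists_point f hf y
    exact (stalk_iff f hf x fun x' hx' => hinj x' x hx' rfl).2 ⟨hX x rfl, hp x rfl⟩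

theorem iff_universallyInjective (hf : RadPt.IsBirational f) :
    (∀ y : Y, CAlg2.IsGeomUnibranch (Y.presheaf.stalk y)) ↔
      ((∀ x : X, CAlg2.IsGeomUnibranch (X.presheaf.stalk x)) ∧ UniversallyInjective f) := by
  have htfae := (tfae_universallyInjective f).out 0 2
  constructor
  · intro h
    refine ⟨fun x => ((iff_radicial f hf (f x)).1 (h _)).2 x rfl, htfae.2 ⟨fun x x' he => ?_, fun x => ?_⟩⟩
    · exact ((iff_radicial f hf (f x)).1 (h _)).1.1 x x' rfl he.symm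
    · exact ((iff_radicial f hf (f x)).1 (h _)).1.2 x rfl
  · rintro ⟨hX, hi⟩ y
    obtain ⟨hinj, hp⟩ := htfae.1 hi
    exact (iff_radicial f hf y).2 ⟨⟨fun x x' h h' => hinj (h.trans h'.symm), fun x _ => hp x⟩, fun x _ => hX x⟩

end Groth.Agent.Branch14.Bir
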