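import Groth.Agent.Lib.Branch14.Main
import Mathlib.RingTheory.TensorProduct.Quotient
import Mathlib.RingTheory.Flat.FaithfullyFlat.Algebra
import Mathlib.RingTheory.Flat.EquationalCriterion

/-!
# Minimal primes of a flat extension with the same residue field of a henselian local ring

If `R` is a Noetherian henselian local domain and `B` a flat local extension with `B = R + 𝔪B`
(for instance the completion), then the punctured spectrum of `B` cannot be split.
-/

universe u

set_option backward.isDefEq.respectTransparency.types false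
set_option maxSynthPendingDepth 3

open IsLocalRing

namespace Groth.Agent.Branch14

/-- Approximation by the base modulo every power of an ideal. -/
theorem exists_sub_mem_pow_of_one {R B : Type u} [CommRing R] [CommRing B] [Algebra R B]
    (m : Ideal R) (h : ∀ x : B, ∃ r, x - algebraMap R B r ∈ m.map (algebraMap R B)) :
    ∀ (n : ℕ) (x : B), ∃ r, x - algebraMap R B r ∈ (m ^ n).map (algebraMap R B) := by
  intro n
  induction n with
  | zero => exact fun x => ⟨0, by simp [Ideal.one_eq_top, Ideal.map_top]⟩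
  | succ n ih =>
    intro x
    obtain ⟨r, hr⟩ := ih x
    have key : ∀ z ∈ (m ^ n).map (algebraMap R B),
        ∃ s, z - algebraMap R B s ∈ (m ^ (n + 1)).map (algebraMap R B) := by
      intro z hz
      refine Submodule.span_induction ?_ ⟨0, by simp⟩ ?_ ?_ hz
      · rintro _ ⟨g, hg, rfl⟩
        exact ⟨g, by simp⟩
      · rintro a b _ _ ⟨s, hs⟩ ⟨t, ht⟩
        exact ⟨s + t, by rw [map_add, add_sub_add_comm]; exact add_mem hs ht⟩
      · rintro c z hzmem ⟨s, hs⟩
        obtain ⟨c0, hc0⟩ := h c
        refine ⟨c0 * s, ?_⟩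
        rw [map_mul, smul_eq_mul,
          show c * z - algebraMap R B c0 * algebraMap R B s =
            (c - algebraMap R B c0) * z + algebraMap R B c0 * (z - algebraMap R B s) by ring]
        refine add_mem ?_ (Ideal.mul_mem_left _ _ hs)
        rw [pow_succ', Ideal.map_mul]
        exact Ideal.mul_mem_mul hc0 hzmem
    obtain ⟨s, hs⟩ := key _ hr
    exact ⟨r + s, by rw [map_add, ← sub_sub]; exact hs⟩

/-- Colon ideals commute with flat extensions. -/
theorem exists_mem_map_of_flat {R B : Type u} [CommRing R] [CommRing B] [Algebra R B]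
    [Module.Flat R B] (F : R) (G : Finset R) (a : B)
    (h : ∀ g ∈ G, algebraMap R B g * a ∈ Ideal.span {algebraMap R B F}) :
    ∃ L : Ideal R, (∀ l ∈ L, ∀ g ∈ G, g * l ∈ Ideal.span {F}) ∧ a ∈ L.map (algebraMap R B) := by
  classical
  induction G using Finset.induction with
  | empty => exact ⟨⊤, fun _ _ g hg => absurd hg (Finset.notMem_empty g), by simp [Ideal.map_top]⟩
  | insert g G _ ih =>
    obtain ⟨M, hM, haM⟩ := ih fun g' hg' => h g' (Finset.mem_insert_of_mem hg')
    obtain ⟨c₀, hc₀⟩ := Ideal.mem_span_singleton'.1 (h g (Finset.mem_insert_self _ _))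
    obtain ⟨n, s, w, hw⟩ := Submodule.mem_span_set'.1 haM
    choose l hl hlw using fun i => (w i).2
    have hrel : ∑ i, Fin.cons (α := fun _ => R) (-F) (fun i => g * l i) i •
        Fin.cons (α := fun _ => B) c₀ s i = 0 := by
      rw [Fin.sum_univ_succ]
      simp only [Fin.cons_zero, Fin.cons_succ, Algebra.smul_def, map_neg, map_mul]
      rw [show ∑ i, algebraMap R B g * algebraMap R B (l i) * s i = algebraMap R B g * a by
        rw [← hw, Finset.mul_sum]
        exact Finset.sum_congr rfl fun i _ => by rw [← hlw i, smul_eq_mul]; ring]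
      rw [← hc₀]
      ring
    obtain ⟨k, α, y, hy, hα⟩ := Module.Flat.iff_forall_isTrivialRelation.mp ‹Module.Flat R B› hrel
    refine ⟨Ideal.span (Set.range fun j => ∑ i, l i * α i.succ j), fun z hz g' hg' => ?_, ?_⟩
    · rcases Finset.mem_insert.1 hg' with rfl | hg'
      · refine Submodule.span_induction ?_ (by simp) (fun a b _ _ ha hb => ?_) (fun c a _ ha => ?_) hz
        · rintro _ ⟨j, rfl⟩
          have := hα j
          rw [Fin.sum_univ_succ] at this
          simp only [Fin.cons_zero, Fin.cons_succ] at this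
          refine Ideal.mem_span_singleton'.2 ⟨α 0 j, ?_⟩
          rw [Finset.mul_sum]
          have e : ∑ i, g' * (l i * α i.succ j) = ∑ i, g' * l i * α i.succ j :=
            Finset.sum_congr rfl fun i _ => (mul_assoc _ _ _).symm
          rw [e]
          linear_combination (-1 : R) * this
        · rw [mul_add]; exact add_mem ha hb
        · rw [smul_eq_mul, mul_left_comm]; exact Ideal.mul_mem_left _ _ ha
      · refine hM z ?_ g' hg'
        refine Ideal.span_le.2 ?_ hz
        rintro _ ⟨j, rfl⟩
        exact sum_mem fun i _ => Ideal.mul_mem_right _ _ (hl i)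
    · have ha : a = ∑ j, algebraMap R B (∑ i, l i * α i.succ j) * y j := by
        rw [← hw]
        simp only [map_sum, Finset.sum_mul, map_mul]
        rw [Finset.sum_comm]
        refine Finset.sum_congr rfl fun i _ => ?_
        have h1 := hy i.succ
        rw [Fin.cons_succ] at h1
        rw [h1, Finset.sum_smul, ← hlw i]
        refine Finset.sum_congr rfl fun j _ => ?_
        rw [smul_eq_mul, Algebra.smul_def]
        ring
      rw [ha]
      exact sum_mem fun j _ => Ideal.mul_mem_right _ _
        (Ideal.mem_map_of_mem _ (Ideal.subset_span ⟨j, rfl⟩))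

variable {R B : Type u} [CommRing R] [CommRing B] [Algebra R B]

/-- The quadratic argument. -/
theorem dvd_of_quadratic [IsDomain R] [HenselianLocalRing R] (F b r s c₀ : R) (hF : F ≠ 0)
    (hb : b ^ 2 = r * F * b + s * F ^ 2)
    (h0 : c₀ ^ 2 + r * c₀ - s ∈ maximalIdeal R) (h1 : 2 * c₀ + r - 1 ∈ maximalIdeal R) :
    F ∣ b := by
  have hm : (Polynomial.X ^ 2 - Polynomial.C r * Polynomial.X - Polynomial.C s).Monic := by
    monicity!
  obtain ⟨y, hy, -⟩ := HenselianLocalRing.is_henselian _ hm (-c₀) (by simpa using h0) (by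
    have hu : IsUnit (-1 - (2 * c₀ + r - 1)) := by
      refine IsLocalRing.notMem_maximalIdeal.1 fun hh => ?_
      have := add_mem hh h1
      rw [sub_add_cancel] at this
      exact (IsLocalRing.notMem_maximalIdeal.2 (isUnit_one.neg : IsUnit (-1 : R))) this
    convert hu using 1
    simp [Polynomial.derivative_X_pow]
    ring)
  have hy' : y ^ 2 - r * y - s = 0 := by simpa using hy
  have : (b - F * y) * (b - F * (r - y)) = 0 := by linear_combination hb - F ^ 2 * hy'
  rcases mul_eq_zero.1 this with h | h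
  · exact ⟨y, sub_eq_zero.1 h⟩
  · exact ⟨r - y, sub_eq_zero.1 h⟩

variable [IsLocalRing B]

/-- A quasi-idempotent supported at the closed point is trivial. -/
theorem trivial_quasi_idempotent [IsNoetherianRing R] [IsDomain R] [HenselianLocalRing R]
    [IsLocalHom (algebraMap R B)] [Module.Flat R B]
    (happ : ∀ x : B, ∃ r, x - algebraMap R B r ∈ (maximalIdeal R).map (algebraMap R B))
    (F : R) (hF : F ≠ 0) (a : B) (ha : a * a = algebraMap R B F * a) (k : ℕ)
    (hk : ∀ g ∈ maximalIdeal R ^ k, algebraMap R B g * a ∈ Ideal.span {algebraMap R B F}) :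
    a = 0 ∨ a = algebraMap R B F := by
  classical
  have := Module.FaithfullyFlat.of_flat_of_isLocalHom (A := R) (B := B)
  obtain ⟨G, hG⟩ := (IsNoetherian.noetherian (maximalIdeal R ^ k) : (maximalIdeal R ^ k).FG)
  obtain ⟨L, hL, haL⟩ := exists_mem_map_of_flat F G a fun g hg =>
    hk g (hG ▸ Ideal.subset_span hg)
  have hL' : ∀ l ∈ L, ∀ g ∈ maximalIdeal R ^ k, g * l ∈ Ideal.span {F} := by
    intro l hl g hg
    rw [← hG] at hg
    refine Submodule.span_induction (fun x hx => hL l hl x hx) (by simp)
      (fun a b _ _ ha hb => by rw [add_mul]; exact add_mem ha hb)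
      (fun c a _ ha => by rw [smul_eq_mul, mul_assoc]; exact Ideal.mul_mem_left _ _ ha) hg
  have hFinj : ∀ x y : B, algebraMap R B F * x = algebraMap R B F * y → x = y := fun x y hxy =>
    (Module.Flat.isSMulRegular_of_nonZeroDivisors (R := R) (M := B) (mem_nonZeroDivisors_of_ne_zero hF))
      (by simpa [Algebra.smul_def] using hxy)
  -- step 1: `a` is congruent to an element of `R` modulo `F`
  obtain ⟨b, c, hbc⟩ : ∃ b : R, ∃ c : B, a = algebraMap R B b + algebraMap R B F * c := by
    refine Submodule.span_induction ?_ ⟨0, 0, by simp⟩ ?_ ?_ haL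
    · rintro _ ⟨l, -, rfl⟩
      exact ⟨l, 0, by simp⟩
    · rintro a b _ _ ⟨r, x, rfl⟩ ⟨r', x', rfl⟩
      exact ⟨r + r', x + x', by rw [map_add]; ring⟩
    · rintro w z hz ⟨r, x, rfl⟩
      obtain ⟨w₀, hw₀⟩ := exists_sub_mem_pow_of_one _ happ k w
      have hmem : (w - algebraMap R B w₀) * (algebraMap R B r + algebraMap R B F * x) ∈
          Ideal.span {algebraMap R B F} := by
        have h1 : (maximalIdeal R ^ k * L).map (algebraMap R B) ≤ Ideal.span {algebraMap R B F} := by
          rw [← Set.image_singleton, ← Ideal.map_span]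
          exact Ideal.map_mono (Ideal.mul_le.2 fun g hg l hl => hL' l hl g hg)
        rw [Ideal.map_mul] at h1
        exact h1 (Ideal.mul_mem_mul hw₀ hz)
      obtain ⟨d, hd⟩ := Ideal.mem_span_singleton'.1 hmem
      refine ⟨w₀ * r, algebraMap R B w₀ * x + d, ?_⟩
      rw [smul_eq_mul, map_mul]
      linear_combination -hd
  -- step 2: the quadratic equation of `b / F`
  obtain ⟨r, s, hrs⟩ : ∃ r s : R, r * (F * b) + s * F ^ 2 = b ^ 2 := by
    have hmem : algebraMap R B (b ^ 2) ∈ (Ideal.span {F * b, F ^ 2}).map (algebraMap R B) := by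
      rw [Ideal.map_span, Set.image_pair, Ideal.mem_span_pair]
      refine ⟨1 - 2 * c, c - c ^ 2, ?_⟩
      rw [hbc] at ha
      simp only [map_mul, map_pow]
      linear_combination -ha
    exact Ideal.mem_span_pair.1 ((Ideal.comap_map_eq_self_of_faithfullyFlat
      (Ideal.span {F * b, F ^ 2})).le hmem)
  by_cases hdvd : F ∣ b
  · obtain ⟨y, rfl⟩ := hdvd
    have he : a = algebraMap R B F * (algebraMap R B y + c) := by rw [hbc, map_mul]; ring
    rw [he] at ha ⊢
    have hid : (algebraMap R B y + c) * (algebraMap R B y + c) = algebraMap R B y + c := by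
      refine hFinj _ _ (hFinj _ _ ?_)
      linear_combination ha
    rcases IsLocalRing.isUnit_or_isUnit_one_sub_self (algebraMap R B y + c) with h | h
    · right; rw [h.mul_left_cancel (hid.trans (mul_one _).symm), mul_one]
    · left
      have h2 : (1 - (algebraMap R B y + c)) * (algebraMap R B y + c) = 0 := by
        rw [sub_mul, one_mul, hid, sub_self]
      rw [h.mul_right_eq_zero.1 h2, mul_zero]
  · exfalso
    let v := 2 * c - 1 + algebraMap R B r
    have hv : algebraMap R B b * v =
        algebraMap R B F * -(c ^ 2 - c + algebraMap R B s) := by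
      refine hFinj _ _ ?_
      rw [hbc] at ha
      have hrs' := congrArg (algebraMap R B) hrs
      simp only [map_add, map_mul, map_pow] at hrs'
      linear_combination ha + hrs'
    obtain ⟨C, hC, hvC⟩ := exists_mem_map_of_flat F {b} v fun g hg => by
      rw [Finset.mem_singleton.1 hg, hv]
      exact Ideal.mul_mem_right _ _ (Ideal.mem_span_singleton_self _)
    have hCm : ∀ γ ∈ C, γ ∈ maximalIdeal R ∧
        ∀ δ, δ * F = b * γ → δ ∈ maximalIdeal R := by
      intro γ hγ
      obtain ⟨δ₀, hδ₀⟩ := Ideal.mem_span_singleton'.1 (hC γ hγ b (Finset.mem_singleton_self b))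
      have hγm : γ ∈ maximalIdeal R := by
        by_contra hu
        obtain ⟨γ', hγ'⟩ := (IsLocalRing.notMem_maximalIdeal.1 hu).exists_left_inv
        exact hdvd ⟨γ' * δ₀, by linear_combination (-b) * hγ' - γ' * hδ₀⟩
      refine ⟨hγm, fun δ hδ => ?_⟩
      by_contra hu
      obtain ⟨δ', hδ'⟩ := (IsLocalRing.notMem_maximalIdeal.1 hu).exists_left_inv
      have e1 : F = δ' * b * γ := by linear_combination δ' * hδ - F * hδ'
      have e2 : b ^ 2 = b ^ 2 * ((r + s * δ' * γ) * (δ' * γ)) := by
        have := hrs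
        rw [e1] at this
        linear_combination -this
      have hb0 : b ≠ 0 := fun hb0 => hdvd (hb0 ▸ dvd_zero F)
      have h1 : (r + s * δ' * γ) * (δ' * γ) = 1 := by
        have := mul_left_cancel₀ (pow_ne_zero 2 hb0) ((mul_one (b ^ 2)).trans e2)
        exact this.symm
      exact (maximalIdeal.isMaximal R).ne_top ((Ideal.eq_top_iff_one _).2
        (h1 ▸ Ideal.mul_mem_left _ _ (Ideal.mul_mem_left _ _ hγm)))
    have hvm : v ∈ maximalIdeal B ∧ c ^ 2 - c + algebraMap R B s ∈ maximalIdeal B := by
      have hmax : ∀ z ∈ maximalIdeal R, algebraMap R B z ∈ maximalIdeal B := fun z hz =>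
        ((local_hom_TFAE (algebraMap R B)).out 0 2 rfl rfl).mp inferInstance
          (Ideal.mem_map_of_mem _ hz)
      have key : ∀ z ∈ C.map (algebraMap R B), z ∈ maximalIdeal B ∧
          ∃ d ∈ maximalIdeal B, algebraMap R B b * z = algebraMap R B F * d := by
        intro z hz
        refine Submodule.span_induction ?_ ⟨zero_mem _, 0, zero_mem _, by simp⟩ ?_ ?_ hz
        · rintro _ ⟨γ, hγ, rfl⟩
          obtain ⟨δ, hδ⟩ := Ideal.mem_span_singleton'.1 (hC γ hγ b (Finset.mem_singleton_self b))
          refine ⟨hmax _ (hCm γ hγ).1, _, hmax _ ((hCm γ hγ).2 δ hδ), ?_⟩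
          rw [← map_mul, ← map_mul, ← hδ, mul_comm δ F]
        · rintro x y _ _ ⟨hx, d, hd, hxd⟩ ⟨hy, d', hd', hyd⟩
          exact ⟨add_mem hx hy, d + d', add_mem hd hd', by rw [mul_add, hxd, hyd, mul_add]⟩
        · rintro w x _ ⟨hx, d, hd, hxd⟩
          refine ⟨Ideal.mul_mem_left _ _ hx, w * d, Ideal.mul_mem_left _ _ hd, ?_⟩
          rw [smul_eq_mul]
          linear_combination w * hxd
      obtain ⟨hvm, d, hd, hvd⟩ := key v hvC
      refine ⟨hvm, ?_⟩
      have := hFinj _ _ (hv.symm.trans hvd)
      rw [← this] at hd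
      simpa using neg_mem hd
    obtain ⟨c₀, hc₀⟩ := happ c
    have hc : c - algebraMap R B c₀ ∈ maximalIdeal B :=
      ((local_hom_TFAE (algebraMap R B)).out 0 2 rfl rfl).mp inferInstance hc₀
    have back : ∀ z : R, algebraMap R B z ∈ maximalIdeal B → z ∈ maximalIdeal R := fun z hz hu =>
      hz (hu.map _)
    refine hdvd (dvd_of_quadratic F b r s c₀ hF (by linear_combination -hrs) (back _ ?_) (back _ ?_))
    · have : algebraMap R B (c₀ ^ 2 + r * c₀ - s) =
          c * v - (c ^ 2 - c + algebraMap R B s)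
            + (c - algebraMap R B c₀) * (-(c + algebraMap R B c₀) - algebraMap R B r) := by
        simp only [v, map_add, map_mul, map_pow, map_sub]
        ring
      rw [this]
      exact add_mem (sub_mem (Ideal.mul_mem_left _ _ hvm.1) hvm.2) (Ideal.mul_mem_right _ _ hc)
    · have : algebraMap R B (2 * c₀ + r - 1) = v - 2 * (c - algebraMap R B c₀) := by
        simp only [v, map_add, map_mul, map_sub, map_one, map_ofNat]
        ring
      rw [this]
      exact sub_mem hvm.1 (Ideal.mul_mem_left _ _ hc)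

/-- The punctured spectrum cannot be split by two ideals. -/
theorem ideal_split [IsNoetherianRing R] [IsNoetherianRing B] [IsDomain R] [HenselianLocalRing R]
    [IsLocalHom (algebraMap R B)] [Module.Flat R B]
    (happ : ∀ x : B, ∃ r, x - algebraMap R B r ∈ (maximalIdeal R).map (algebraMap R B))
    (f : R) (hf : f ∈ maximalIdeal R) (hf0 : f ≠ 0) (I₁ I₂ : Ideal B)
    (hprod : I₁ * I₂ ≤ nilradical B)
    (hsum : ∃ k, (maximalIdeal R ^ k).map (algebraMap R B) ≤ I₁ ⊔ I₂) :
    ∃ n, algebraMap R B f ^ n ∈ I₁ ∨ algebraMap R B f ^ n ∈ I₂ := by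
  obtain ⟨N, hN⟩ := IsNoetherianRing.isNilpotent_nilradical B
  obtain ⟨k₀, hk₀⟩ := hsum
  have h0 : I₁ ^ (N + 1) * I₂ ^ (N + 1) = ⊥ := by
    rw [← mul_pow, eq_bot_iff]
    refine (Ideal.pow_right_mono hprod (N + 1)).trans ?_
    rw [pow_succ, hN]
    simp
  let k := k₀ * (N + 1 + (N + 1))
  have hk : (maximalIdeal R ^ k).map (algebraMap R B) ≤ I₁ ^ (N + 1) ⊔ I₂ ^ (N + 1) := by
    rw [pow_mul, Ideal.map_pow]
    exact (Ideal.pow_right_mono hk₀ _).trans Ideal.sup_pow_add_le_pow_sup_pow
  obtain ⟨a, ha, a', ha', hsplit⟩ :=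
    Submodule.mem_sup.1 (hk (Ideal.mem_map_of_mem _ (Ideal.pow_mem_pow hf k)))
  have hzero : ∀ x ∈ I₁ ^ (N + 1), ∀ y ∈ I₂ ^ (N + 1), x * y = 0 := fun x hx y hy => by
    have := Ideal.mul_mem_mul hx hy
    rwa [h0, Ideal.mem_bot] at this
  refine ⟨k, ?_⟩
  rw [← map_pow]
  have h1 : a * a = algebraMap R B (f ^ k) * a := by
    linear_combination a * hsplit - hzero a ha a' ha'
  have h2 : ∀ g ∈ maximalIdeal R ^ k,
      algebraMap R B g * a ∈ Ideal.span {algebraMap R B (f ^ k)} := by
    intro g hg
    obtain ⟨u, hu, u', hu', hg'⟩ := Submodule.mem_sup.1 (hk (Ideal.mem_map_of_mem _ hg))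
    refine Ideal.mem_span_singleton'.2 ⟨u, ?_⟩
    rw [← hg', ← hsplit, mul_add, add_mul, hzero u hu a' ha', mul_comm u' a, hzero a ha u' hu']
  rcases trivial_quasi_idempotent happ (f ^ k) (pow_ne_zero _ hf0) a h1 k h2 with h | h
  · right
    have := Ideal.pow_le_self (Nat.succ_ne_zero N) ha'
    rw [h, zero_add] at hsplit
    exact hsplit ▸ this
  · left
    exact h ▸ Ideal.pow_le_self (Nat.succ_ne_zero N) ha

end Groth.Agent.Branch14
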