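import Groth.Agent.Lib.Branch14.Main
import Groth.Agent.Lib.AlgSpEt14.Branches
import Groth.Agent.Lib.Hens.Noetherian

/-!
# Branches along flat local homomorphisms
-/

universe u

set_option backward.isDefEq.respectTransparency.types false
set_option maxSynthPendingDepth 3

open IsLocalRing

namespace Groth.Agent.Branch14

open Groth.Agent.Hens

section Hom

variable {A : Type u} [CommRing A] [IsLocalRing A] {K : Type u} [Field K] [Algebra A K]
  [Algebra (ResidueField A) K] [IsScalarTower A (ResidueField A) K]
  {T : Type u} [CommRing T] [IsLocalRing T] [Algebra A T] [IsLocalHom (algebraMap A T)]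
  [Module.Flat A T] (g : Hs A K →ₐ[A] T)

theorem isLocalHom_of_algHom : IsLocalHom g.toRingHom := by
  refine ((local_hom_TFAE g.toRingHom).out 2 0 rfl rfl).mp ?_
  rw [← Hs.map_maximalIdeal (R := A) (K := K), Ideal.map_map,
    show g.toRingHom.comp (algebraMap A (Hs A K)) = algebraMap A T from g.comp_algebraMap]
  exact ((local_hom_TFAE (algebraMap A T)).out 0 2 rfl rfl).mp inferInstance

theorem flat_of_algHom : g.toRingHom.Flat := by
  algebraize [g.toRingHom]
  have : IsScalarTower A (Hs A K) T := IsScalarTower.of_algebraMap_eq fun r => (g.commutes r).symm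
  exact Hs.flat_of_flat_base (R := A) (K := K) T

include g in
theorem encard_minimalPrimes_le_of_algHom :
    (minimalPrimes (Hs A K)).encard ≤ (minimalPrimes T).encard := by
  let _ : Algebra (Hs A K) T := g.toRingHom.toAlgebra
  have : Module.Flat (Hs A K) T := flat_of_algHom g
  have : IsLocalHom (algebraMap (Hs A K) T) := isLocalHom_of_algHom g
  exact StalkHens14.encard_minimalPrimes_le_of_flat (Hs A K) T

end Hom

variable (A B : Type u) [CommRing A] [IsLocalRing A] [CommRing B] [IsLocalRing B] [Algebra A B]
  [IsLocalHom (algebraMap A B)] [Module.Flat A B]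

theorem numBranches_le_of_flat : Brnch.numBranches A ≤ Brnch.numBranches B := by
  let _ : Algebra A (Hh B) := ((algebraMap B (Hh B)).comp (algebraMap A B)).toAlgebra
  have : IsScalarTower A B (Hh B) := IsScalarTower.of_algebraMap_eq fun _ => rfl
  have : IsLocalHom (algebraMap A (Hh B)) :=
    inferInstanceAs (IsLocalHom ((algebraMap B (Hh B)).comp (algebraMap A B)))
  have := Hens.henselization_flat B (Hh B)
  have : Module.Flat A (Hh B) := Module.Flat.trans A B (Hh B)
  obtain ⟨g, -, -⟩ := existsUnique_hh_lift (R := A) (Hh B)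
  rw [← card_minimalPrimes_henselization A (Hh A), ← card_minimalPrimes_henselization B (Hh B)]
  exact encard_minimalPrimes_le_of_algHom g

theorem numGeomBranches_le_of_flat : Brnch.numGeomBranches A ≤ Brnch.numGeomBranches B := by
  let _ : Algebra A (Hsh B) := ((algebraMap B (Hsh B)).comp (algebraMap A B)).toAlgebra
  have : IsScalarTower A B (Hsh B) := IsScalarTower.of_algebraMap_eq fun _ => rfl
  have hl : IsLocalHom (algebraMap A (Hsh B)) :=
    inferInstanceAs (IsLocalHom ((algebraMap B (Hsh B)).comp (algebraMap A B)))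
  have := Hens.strictHenselization_flat B (Hsh B)
  have : Module.Flat A (Hsh B) := Module.Flat.trans A B (Hsh B)
  have hsA := Hensel.IsStrictHenselization.isSepClosure (R := A) (S := Hsh A)
  have hsB := Hensel.IsStrictHenselization.isSepClosure (R := B) (S := Hsh B)
  let _ : Algebra (ResidueField A) (ResidueField (Hsh B)) :=
    (ResidueField.map (algebraMap A (Hsh B))).toAlgebra
  have : IsSepClosed (ResidueField (Hsh B)) := hsB.1
  have : Algebra.IsSeparable (ResidueField A) (ResidueField (Hsh A)) := hsA.2
  let τ : ResidueField (Hsh A) →ₐ[ResidueField A] ResidueField (Hsh B) := IsSepClosed.lift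
  have : HenselianLocalRing (Hsh B) := Hensel.IsStrictHenselization.henselian (R := B)
  obtain ⟨g, ⟨hg, -⟩, -⟩ := Hensel.IsStrictHenselization.universal (R := A) (S := Hsh A) (Hsh B)
    (algebraMap A (Hsh B)) τ.toRingHom τ.comp_algebraMap
  rw [← card_minimalPrimes_strictHenselization A (Hsh A),
    ← card_minimalPrimes_strictHenselization B (Hsh B)]
  exact encard_minimalPrimes_le_of_algHom
    ({ g with commutes' := fun r => congr($hg r) } : Hsh A →ₐ[A] Hsh B)

theorem minimalPrimes_surjOn (S : Type u) [CommRing S] [IsLocalRing S] [Algebra A S]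
    [IsLocalHom (algebraMap A S)] [Hensel.IsHenselization A S] (ψ : S →+* B)
    (hψ : ψ.comp (algebraMap A S) = algebraMap A B) :
    Set.MapsTo (Ideal.comap ψ) (minimalPrimes B) (minimalPrimes S) ∧
      Set.SurjOn (Ideal.comap ψ) (minimalPrimes B) (minimalPrimes S) := by
  obtain ⟨e⟩ := exists_henselization_equiv A S
  let g : Hh A →ₐ[A] B :=
    { ψ.comp e.toAlgHom.toRingHom with
      commutes' := fun r => by
        show ψ (e (algebraMap A (Hh A) r)) = _
        rw [AlgEquiv.commutes, ← RingHom.comp_apply, hψ] }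
  have hψg : ψ = g.toRingHom.comp e.symm.toAlgHom.toRingHom := RingHom.ext fun x => by
    show ψ x = ψ (e (e.symm x))
    rw [e.apply_symm_apply]
  have hflat : ψ.Flat := hψg ▸ RingHom.Flat.comp (RingHom.Flat.of_bijective e.symm.bijective)
    (flat_of_algHom g)
  have hgl := isLocalHom_of_algHom g
  have hel : IsLocalHom e.symm.toAlgHom.toRingHom := ⟨fun a ha => by simpa using ha.map e⟩
  have hl : IsLocalHom ψ := hψg ▸ inferInstance
  let _ : Algebra S B := ψ.toAlgebra
  have : Module.Flat S B := hflat
  have : IsLocalHom (algebraMap S B) := hl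
  have := Module.FaithfullyFlat.of_flat_of_isLocalHom (A := S) (B := B)
  refine ⟨fun Q hQ => comap_mem_minimalPrimes_of_flat (R := S) (T := B) Q hQ, fun p hp => ?_⟩
  obtain ⟨P, hP⟩ := PrimeSpectrum.comap_surjective_of_faithfullyFlat (A := S) (B := B) ⟨p, hp.1.1⟩
  obtain ⟨P', hP', hle⟩ := Ideal.exists_minimalPrimes_le (I := ⊥) (J := P.asIdeal) bot_le
  have h1 : P.asIdeal.comap (algebraMap S B) = p := congrArg PrimeSpectrum.asIdeal hP
  have := hP'.1.1
  exact ⟨P', hP', le_antisymm ((Ideal.comap_mono hle).trans h1.le)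
    (hp.2 ⟨inferInstance, bot_le⟩ ((Ideal.comap_mono hle).trans h1.le))⟩

end Groth.Agent.Branch14
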