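import Groth.Agent.Lib.Branch14.Complete
import Groth.Agent.Lib.Branch14.Corollaries
import Groth.Agent.Lib.Branch14.FlatMono

/-!
# Connectedness and minimal primes of flat extensions with trivial residue extension
-/

universe u

set_option backward.isDefEq.respectTransparency.types false
set_option maxSynthPendingDepth 3
set_option linter.style.haveILetI false

open IsLocalRing PrimeSpectrum

namespace Groth.Agent.Branch14

section Domain

variable {R B : Type u} [CommRing R] [IsNoetherianRing R] [IsDomain R] [HenselianLocalRing R]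
  [CommRing B] [IsLocalRing B] [IsNoetherianRing B] [Algebra R B] [IsLocalHom (algebraMap R B)]
  [Module.Flat R B]
  (happ : ∀ x : B, ∃ r, x - algebraMap R B r ∈ (maximalIdeal R).map (algebraMap R B))
  (hm : (maximalIdeal R).map (algebraMap R B) = maximalIdeal B)

include happ hm

theorem isPreconnected_punctured : IsPreconnected ({closedPoint B}ᶜ : Set (PrimeSpectrum B)) := by
  rw [isPreconnected_closed_iff]
  intro t t' ht ht' hcov hne hne'
  by_contra hempty
  rw [Set.not_nonempty_iff_eq_empty] at hempty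
  obtain ⟨x, hxs, hxt⟩ := hne
  obtain ⟨x', hxs', hxt'⟩ := hne'
  obtain ⟨I₁, rfl⟩ := (isClosed_iff_zeroLocus_ideal _).1 ht
  obtain ⟨I₂, rfl⟩ := (isClosed_iff_zeroLocus_ideal _).1 ht'
  have hboth : ∀ P : PrimeSpectrum B, I₁ ≤ P.asIdeal → I₂ ≤ P.asIdeal → P = closedPoint B := by
    intro P h1 h2
    by_contra hP
    exact (Set.eq_empty_iff_forall_notMem.1 hempty P) ⟨hP, h1, h2⟩
  have hprod : I₁ * I₂ ≤ nilradical B := by
    rw [nilradical_eq_sInf]
    refine le_sInf fun P hP => ?_
    have := (hP : P.IsPrime)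
    rcases eq_or_ne (⟨P, hP⟩ : PrimeSpectrum B) (closedPoint B) with h | h
    · have h' : P = maximalIdeal B := congrArg PrimeSpectrum.asIdeal h
      exact h' ▸ (Ideal.mul_le_right.trans ((hxt' : I₂ ≤ x'.asIdeal).trans
        (le_maximalIdeal x'.2.ne_top)))
    · rcases hcov h with h' | h'
      · exact Ideal.mul_le_left.trans (h' : I₁ ≤ P)
      · exact Ideal.mul_le_right.trans (h' : I₂ ≤ P)
  have hsum : ∃ k, (maximalIdeal R ^ k).map (algebraMap R B) ≤ I₁ ⊔ I₂ := by
    have hle : maximalIdeal B ≤ (I₁ ⊔ I₂).radical := by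
      rw [Ideal.radical_eq_sInf]
      refine le_sInf fun P hP => ?_
      exact (congrArg PrimeSpectrum.asIdeal (hboth ⟨P, hP.2⟩ (le_sup_left.trans hP.1)
        (le_sup_right.trans hP.1))).ge
    obtain ⟨k, hk⟩ := Ideal.exists_pow_le_of_le_radical_of_fg hle (IsNoetherian.noetherian _)
    exact ⟨k, by rw [Ideal.map_pow, hm]; exact hk⟩
  by_cases hfld : maximalIdeal R = ⊥
  · refine hxs (PrimeSpectrum.ext (le_antisymm (le_maximalIdeal x.2.ne_top) ?_))
    show maximalIdeal B ≤ _
    rw [← hm, hfld, Ideal.map_bot]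
    exact bot_le
  obtain ⟨f, hf, hf0⟩ := Submodule.exists_mem_ne_zero_of_ne_bot hfld
  obtain ⟨n, h⟩ := ideal_split happ f hf hf0 I₁ I₂ hprod hsum
  have key : ∀ (I I' : Ideal B), algebraMap R B f ^ n ∈ I →
      (∀ P : PrimeSpectrum B, P ≠ closedPoint B → I ≤ P.asIdeal ∨ I' ≤ P.asIdeal) →
      (∀ P : PrimeSpectrum B, I ≤ P.asIdeal → I' ≤ P.asIdeal → P = closedPoint B) →
      ∀ y : PrimeSpectrum B, y ≠ closedPoint B → I ≤ y.asIdeal → False := by
    intro I I' hfI hcov' hboth' y hy hIy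
    obtain ⟨P, hP, hPy⟩ := Ideal.exists_minimalPrimes_le (I := (⊥ : Ideal B)) (J := y.asIdeal) bot_le
    have hPp := hP.1.1
    have hPne : (⟨P, hPp⟩ : PrimeSpectrum B) ≠ closedPoint B := fun h => by
      have h' : P = maximalIdeal B := congrArg PrimeSpectrum.asIdeal h
      exact hy (PrimeSpectrum.ext (le_antisymm (le_maximalIdeal y.2.ne_top) (h'.ge.trans hPy)))
    rcases hcov' _ hPne with h' | h'
    · have h0 := comap_mem_minimalPrimes_of_flat (R := R) (T := B) P hP
      have hbot : P.comap (algebraMap R B) = ⊥ :=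
        eq_bot_iff.2 (h0.2 ⟨Ideal.isPrime_bot, le_rfl⟩ bot_le)
      exact hf0 (hbot.le (hPp.mem_of_pow_mem n (h' hfI)))
    · exact hy (hboth' y hIy (h'.trans hPy))
  rcases h with h | h
  · exact key I₁ I₂ h (fun P hP => hcov hP) hboth x hxs hxt
  · exact key I₂ I₁ h (fun P hP => (hcov hP).symm) (fun P a b => hboth P b a) x' hxs' hxt'

theorem minimalPrimes_eq_singleton {Q : Ideal B} (hQ : Q ∈ minimalPrimes B)
    (hup : ∀ P : Ideal B, P.IsPrime → Q ≤ P → P = Q ∨ P = maximalIdeal B) :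
    minimalPrimes B = {Q} := by
  refine Set.eq_singleton_iff_unique_mem.2 ⟨hQ, fun Q' hQ' => ?_⟩
  have := hQ.1.1
  have := hQ'.1.1
  by_contra hne
  have hfin := minimalPrimes.finite_of_isNoetherianRing B
  have hQm : Q ≠ maximalIdeal B := fun h =>
    hne (le_antisymm ((le_maximalIdeal hQ'.1.1.ne_top).trans h.ge)
      (hQ.2 ⟨hQ'.1.1, bot_le⟩ ((le_maximalIdeal hQ'.1.1.ne_top).trans h.ge)))
  have hQ'm : Q' ≠ maximalIdeal B := fun h =>
    hne (le_antisymm (hQ'.2 ⟨hQ.1.1, bot_le⟩ ((le_maximalIdeal hQ.1.1.ne_top).trans h.ge))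
      ((le_maximalIdeal hQ.1.1.ne_top).trans h.ge))
  let t : Set (PrimeSpectrum B) := zeroLocus (Q : Set B)
  let t' : Set (PrimeSpectrum B) := ⋃ P ∈ minimalPrimes B \ {Q}, zeroLocus (P : Set B)
  have hcov : ({closedPoint B}ᶜ : Set (PrimeSpectrum B)) ⊆ t ∪ t' := fun x _ => by
    obtain ⟨P, hP, hPx⟩ := Ideal.exists_minimalPrimes_le (I := (⊥ : Ideal B)) (J := x.asIdeal) bot_le
    by_cases h : P = Q
    · subst h; exact Or.inl hPx
    · exact Or.inr (Set.mem_biUnion (x := P) ⟨hP, h⟩ hPx)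
  obtain ⟨x, hxs, hxt, hxt'⟩ := isPreconnected_closed_iff.1 (isPreconnected_punctured happ hm) t t'
    (isClosed_zeroLocus _) ((hfin.subset Set.sdiff_subset).isClosed_biUnion fun P _ => isClosed_zeroLocus _)
    hcov ⟨⟨Q, hQ.1.1⟩, fun h => hQm (congrArg PrimeSpectrum.asIdeal h), le_refl Q⟩
    ⟨⟨Q', hQ'.1.1⟩, fun h => hQ'm (congrArg PrimeSpectrum.asIdeal h),
      Set.mem_biUnion (x := Q') ⟨hQ', hne⟩ (le_refl Q')⟩
  simp only [t', Set.mem_iUnion] at hxt'
  obtain ⟨P, ⟨hP, hPQ⟩, hPx⟩ := hxt'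
  rcases hup x.asIdeal x.2 hxt with h | h
  · have hle : P ≤ Q := (hPx : P ≤ x.asIdeal).trans h.le
    exact hPQ (le_antisymm hle (hQ.2 ⟨hP.1.1, bot_le⟩ hle))
  · exact hxs (PrimeSpectrum.ext h)

end Domain

section General

variable {S B : Type u} [CommRing S] [IsNoetherianRing S] [HenselianLocalRing S]
  [CommRing B] [IsLocalRing B] [IsNoetherianRing B] [Algebra S B] [IsLocalHom (algebraMap S B)]
  [Module.Flat S B]
  (hsurj : ∀ x : B, ∃ r, x - algebraMap S B r ∈ maximalIdeal B)
  (hm : (maximalIdeal S).map (algebraMap S B) = maximalIdeal B)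

include hsurj hm

omit [IsNoetherianRing S] [IsNoetherianRing B] [Module.Flat S B] in
theorem quotient_hyps (q : Ideal S) [q.IsPrime] :
    ∃ (_ : IsLocalRing (B ⧸ q.map (algebraMap S B))) (_ : HenselianLocalRing (S ⧸ q))
      (_ : IsLocalHom (algebraMap (S ⧸ q) (B ⧸ q.map (algebraMap S B)))),
      (maximalIdeal (S ⧸ q)).map (algebraMap (S ⧸ q) (B ⧸ q.map (algebraMap S B))) =
        maximalIdeal (B ⧸ q.map (algebraMap S B)) ∧
      ∀ x : B ⧸ q.map (algebraMap S B), ∃ r, x - algebraMap (S ⧸ q) _ r ∈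
        (maximalIdeal (S ⧸ q)).map (algebraMap (S ⧸ q) (B ⧸ q.map (algebraMap S B))) := by
  have hle : q.map (algebraMap S B) ≤ maximalIdeal B :=
    (Ideal.map_mono (le_maximalIdeal (Ideal.IsPrime.ne_top ‹_›))).trans hm.le
  have : Nontrivial (B ⧸ q.map (algebraMap S B)) :=
    Ideal.Quotient.nontrivial_iff.2 (ne_top_of_le_ne_top (maximalIdeal.isMaximal B).ne_top hle)
  have hloc : IsLocalRing (B ⧸ q.map (algebraMap S B)) :=
    .of_surjective' (Ideal.Quotient.mk _) Ideal.Quotient.mk_surjective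
  have hmq : (maximalIdeal S).map (Ideal.Quotient.mk q) = maximalIdeal (S ⧸ q) :=
    IsLocalRing.map_maximalIdeal_of_surjective _ Ideal.Quotient.mk_surjective
  have hmB : (maximalIdeal B).map (Ideal.Quotient.mk (q.map (algebraMap S B))) =
      maximalIdeal (B ⧸ q.map (algebraMap S B)) :=
    IsLocalRing.map_maximalIdeal_of_surjective _ Ideal.Quotient.mk_surjective
  have hmap : (maximalIdeal (S ⧸ q)).map (algebraMap (S ⧸ q) (B ⧸ q.map (algebraMap S B))) =
      maximalIdeal (B ⧸ q.map (algebraMap S B)) := by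
    rw [← hmq, ← hmB, ← hm, Ideal.map_map, Ideal.map_map]
    rfl
  refine ⟨hloc, Hens.henselianLocalRing_of_isIntegral S _,
    ((local_hom_TFAE _).out 2 0 rfl rfl).mp hmap.le, hmap, fun x => ?_⟩
  obtain ⟨b, rfl⟩ := Ideal.Quotient.mk_surjective x
  obtain ⟨r, hr⟩ := hsurj b
  refine ⟨Ideal.Quotient.mk q r, hmap.ge ?_⟩
  rw [← hmB]
  have := Ideal.mem_map_of_mem (Ideal.Quotient.mk (q.map (algebraMap S B))) hr
  rw [map_sub] at this
  exact this

omit [IsNoetherianRing S] [IsNoetherianRing B] [IsLocalRing B] [IsLocalHom (algebraMap S B)] [HenselianLocalRing S] hsurj hm in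
theorem flat_quotient (q : Ideal S) : Module.Flat (S ⧸ q) (B ⧸ q.map (algebraMap S B)) :=
  Module.Flat.of_linearEquiv (Algebra.TensorProduct.quotIdealMapEquivQuotTensor B q).toLinearEquiv

/-- A minimal prime with no intermediate primes above it is alone over its contraction. -/
theorem minimalPrimes_map_comap {Q : Ideal B} (hQ : Q ∈ minimalPrimes B)
    (hup : ∀ P : Ideal B, P.IsPrime → Q ≤ P → P = Q ∨ P = maximalIdeal B) :
    ((Q.comap (algebraMap S B)).map (algebraMap S B)).minimalPrimes = {Q} := by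
  have := hQ.1.1
  let q := Q.comap (algebraMap S B)
  obtain ⟨hl, hh, hlh, hmap, happ⟩ := quotient_hyps hsurj hm q
  have := flat_quotient (B := B) q
  have hqQ : q.map (algebraMap S B) ≤ Q := Ideal.map_comap_le
  let Q₀ := Q.map (Ideal.Quotient.mk (q.map (algebraMap S B)))
  have hQ₀ : Q₀.IsPrime := Ideal.map_isPrime_of_surjective Ideal.Quotient.mk_surjective
    (by rwa [Ideal.mk_ker])
  have hback : Q₀.comap (Ideal.Quotient.mk (q.map (algebraMap S B))) = Q := by
    rw [Ideal.comap_map_of_surjective _ Ideal.Quotient.mk_surjective, sup_eq_left]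
    exact (le_of_eq Ideal.mk_ker).trans hqQ
  have hQ₀min : Q₀ ∈ minimalPrimes (B ⧸ q.map (algebraMap S B)) := by
    refine ⟨⟨hQ₀, bot_le⟩, fun P hP hle => ?_⟩
    have := hP.1
    refine Ideal.map_le_iff_le_comap.2 ?_
    exact hQ.2 ⟨inferInstance, bot_le⟩ ((Ideal.comap_mono hle).trans hback.le)
  have hup₀ : ∀ P : Ideal (B ⧸ q.map (algebraMap S B)), P.IsPrime → Q₀ ≤ P →
      P = Q₀ ∨ P = maximalIdeal _ := by
    intro P hP hle
    have hP' := Ideal.map_comap_of_surjective _ Ideal.Quotient.mk_surjective P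
    rcases hup (P.comap (Ideal.Quotient.mk _)) inferInstance
      (hback.ge.trans (Ideal.comap_mono hle)) with h | h
    · left; rw [← hP', h]
    · right
      rw [← hP', h]
      exact IsLocalRing.map_maximalIdeal_of_surjective _ Ideal.Quotient.mk_surjective
  rw [Ideal.minimalPrimes_eq_comap, minimalPrimes_eq_singleton happ hmap hQ₀min hup₀,
    Set.image_singleton, hback]

theorem encard_minimalPrimes_eq_of_dim_le_one (hdim : ringKrullDim B ≤ 1) :
    (minimalPrimes B).encard = (minimalPrimes S).encard := by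
  have : Ring.KrullDimLE 1 B := (Ring.krullDimLE_iff).2 hdim
  have hinj : Set.InjOn (Ideal.comap (algebraMap S B)) (minimalPrimes B) := by
    intro Q hQ Q' hQ' h
    have h1 := minimalPrimes_map_comap hsurj hm hQ fun P hP hle => by
      rcases Ring.krullDimLE_one_iff.1 ‹_› P hP with h | h
      · exact Or.inl (le_antisymm (h.2 ⟨hQ.1.1, bot_le⟩ hle) hle)
      · exact Or.inr (eq_maximalIdeal h)
    have h2 : Q' ∈ ((Q.comap (algebraMap S B)).map (algebraMap S B)).minimalPrimes := by
      rw [h]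
      exact ⟨⟨hQ'.1.1, Ideal.map_comap_le⟩, fun P hP hle => hQ'.2 ⟨hP.1, bot_le⟩ hle⟩
    rw [h1] at h2
    exact h2.symm
  rw [← hinj.encard_image]
  refine le_antisymm (Set.encard_le_encard ?_) ?_
  · rintro _ ⟨Q, hQ, rfl⟩
    exact comap_mem_minimalPrimes_of_flat (R := S) (T := B) Q hQ
  · rw [hinj.encard_image]
    exact StalkHens14.encard_minimalPrimes_le_of_flat S B

/-- The punctured spectra are preconnected together. -/
theorem isPreconnected_punctured_iff :
    IsPreconnected ({closedPoint B}ᶜ : Set (PrimeSpectrum B)) ↔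
      IsPreconnected ({closedPoint S}ᶜ : Set (PrimeSpectrum S)) := by
  classical
  have := Module.FaithfullyFlat.of_flat_of_isLocalHom (A := S) (B := B)
  have hmax : ∀ P : PrimeSpectrum B, comap (algebraMap S B) P = closedPoint S → P = closedPoint B :=
    fun P h => PrimeSpectrum.ext (le_antisymm (le_maximalIdeal P.2.ne_top) (hm.ge.trans
      (Ideal.map_le_iff_le_comap.2 (congrArg PrimeSpectrum.asIdeal h).ge)))
  have hmax' : comap (algebraMap S B) (closedPoint B) = closedPoint S :=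
    IsLocalRing.comap_closedPoint _
  have himg : comap (algebraMap S B) '' ({closedPoint B}ᶜ) =
      ({closedPoint S}ᶜ : Set (PrimeSpectrum S)) := by
    ext x
    constructor
    · rintro ⟨P, hP, rfl⟩ h
      exact hP (hmax P h)
    · intro hx
      obtain ⟨P, rfl⟩ := comap_surjective_of_faithfullyFlat (A := S) (B := B) x
      exact ⟨P, fun h => hx (by rw [h]; exact hmax'), rfl⟩
  refine ⟨fun h => himg ▸ h.image _ (PrimeSpectrum.continuous_comap _).continuousOn, fun h => ?_⟩
  rw [isPreconnected_closed_iff]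
  intro t t' ht ht' hcov hne hne'
  by_contra hempty
  rw [Set.not_nonempty_iff_eq_empty] at hempty
  let piece : Ideal S → Set (PrimeSpectrum B) := fun q =>
    {P | P ≠ closedPoint B ∧ q ≤ (comap (algebraMap S B) P).asIdeal}
  have hpiece : ∀ q ∈ minimalPrimes S, IsPreconnected (piece q) := by
    intro q hq
    have := hq.1.1
    obtain ⟨hl, hh, hlh, hmap, happ⟩ := quotient_hyps hsurj hm q
    have := flat_quotient (B := B) q
    have e : piece q = comap (Ideal.Quotient.mk (q.map (algebraMap S B))) ''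
        ({closedPoint _}ᶜ : Set (PrimeSpectrum (B ⧸ q.map (algebraMap S B)))) := by
      haveI : IsLocalHom (Ideal.Quotient.mk (q.map (algebraMap S B))) :=
        IsLocalHom.of_surjective _ Ideal.Quotient.mk_surjective
      have hinj := comap_injective_of_surjective _ (Ideal.Quotient.mk_surjective (I := q.map (algebraMap S B)))
      have hcl : comap (Ideal.Quotient.mk (q.map (algebraMap S B))) (closedPoint _) = closedPoint B :=
        IsLocalRing.comap_closedPoint _
      ext P
      constructor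
      · rintro ⟨hP, hqP⟩
        have : P ∈ Set.range (comap (Ideal.Quotient.mk (q.map (algebraMap S B)))) := by
          rw [range_comap_of_surjective _ _ Ideal.Quotient.mk_surjective, mem_zeroLocus, Ideal.mk_ker]
          exact Ideal.map_le_iff_le_comap.2 hqP
        obtain ⟨P₀, rfl⟩ := this
        exact ⟨P₀, fun h => hP (by rw [h, hcl]), rfl⟩
      · rintro ⟨P₀, hP₀, rfl⟩
        refine ⟨fun h => hP₀ (hinj (h.trans hcl.symm)), fun y hy => ?_⟩
        show Ideal.Quotient.mk (q.map (algebraMap S B)) (algebraMap S B y) ∈ P₀.asIdeal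
        rw [Ideal.Quotient.eq_zero_iff_mem.2 (Ideal.mem_map_of_mem _ hy)]
        exact zero_mem _
    rw [e]
    exact (isPreconnected_punctured happ hmap).image _ (continuous_comap _).continuousOn
  let T : Set (PrimeSpectrum B) → Set (PrimeSpectrum S) := fun w =>
    ⋃ q ∈ {q ∈ minimalPrimes S | piece q ⊆ w}, zeroLocus (q : Set S)
  have hT : ∀ w, IsClosed (T w) := fun w =>
    ((minimalPrimes.finite_of_isNoetherianRing S).subset (Set.sep_subset _ _)).isClosed_biUnion
      fun q _ => isClosed_zeroLocus _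
  have hside : ∀ q ∈ minimalPrimes S, piece q ⊆ t ∨ piece q ⊆ t' := fun q hq =>
    (isPreconnected_iff_subset_of_disjoint_closed.1 (hpiece q hq)) t t' ht ht'
      (fun P hP => hcov hP.1) (Set.subset_eq_empty (Set.inter_subset_inter_left _ fun P hP => hP.1) hempty)
  have hmem : ∀ w w' : Set (PrimeSpectrum B), (∀ q ∈ minimalPrimes S, piece q ⊆ w ∨ piece q ⊆ w') →
      ({closedPoint B}ᶜ ∩ (w ∩ w') = ∅) → ∀ P, P ≠ closedPoint B → P ∈ w →
      comap (algebraMap S B) P ∈ T w := by
    intro w w' hs hd P hP hPw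
    obtain ⟨q, hq, hqP⟩ := Ideal.exists_minimalPrimes_le (I := (⊥ : Ideal S))
      (J := (comap (algebraMap S B) P).asIdeal) bot_le
    rcases hs q hq with h' | h'
    · exact Set.mem_biUnion (x := q) ⟨hq, h'⟩ hqP
    · exact absurd ⟨hP, hPw, h' ⟨hP, hqP⟩⟩ (Set.eq_empty_iff_forall_notMem.1 hd P)
  obtain ⟨x, hx, hx1, hx2⟩ := isPreconnected_closed_iff.1 h (T t) (T t') (hT t) (hT t')
    (fun y hy => by
      obtain ⟨q, hq, hqy⟩ := Ideal.exists_minimalPrimes_le (I := (⊥ : Ideal S)) (J := y.asIdeal) bot_le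
      rcases hside q hq with h' | h'
      · exact Or.inl (Set.mem_biUnion (x := q) ⟨hq, h'⟩ hqy)
      · exact Or.inr (Set.mem_biUnion (x := q) ⟨hq, h'⟩ hqy))
    (by
      obtain ⟨P, hP, hPt⟩ := hne
      exact ⟨_, fun hh => hP (hmax P hh), hmem t t' hside hempty P hP hPt⟩)
    (by
      obtain ⟨P, hP, hPt⟩ := hne'
      exact ⟨_, fun hh => hP (hmax P hh), hmem t' t (fun q hq => (hside q hq).symm)
        (by rw [Set.inter_comm t' t]; exact hempty) P hP hPt⟩)
  simp only [T, Set.mem_iUnion] at hx1 hx2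
  obtain ⟨q, ⟨-, hq1⟩, hqx⟩ := hx1
  obtain ⟨q', ⟨-, hq2⟩, hqx'⟩ := hx2
  obtain ⟨P, rfl⟩ := comap_surjective_of_faithfullyFlat (A := S) (B := B) x
  have hP : P ≠ closedPoint B := fun hh => hx (by rw [hh]; exact hmax')
  exact (Set.eq_empty_iff_forall_notMem.1 hempty P) ⟨hP, hq1 ⟨hP, hqx⟩, hq2 ⟨hP, hqx'⟩⟩

end General

end Groth.Agent.Branch14
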