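import Groth.Agent.Lib.Branch14.CompleteApps
import Groth.Agent.Lib.CplLocH7.Basic
import Groth.Agent.Lib.Hens.Transfer
import Groth.Agent.Lib.Hens.StrictBC
import Mathlib.RingTheory.Henselian

/-!
# Branches of a Noetherian local ring and of its completion
-/

universe u

set_option backward.isDefEq.respectTransparency.types false
set_option maxSynthPendingDepth 3
set_option linter.style.haveILetI false

open IsLocalRing

namespace Groth.Agent.Branch14

open Groth.Agent.Hens

theorem upper_of_dim_le_one {B : Type u} [CommRing B] [IsLocalRing B] (hdim : ringKrullDim B ≤ 1)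
    {Q : Ideal B} (hQ : Q ∈ minimalPrimes B) (P : Ideal B) (hP : P.IsPrime) (hle : Q ≤ P) :
    P = Q ∨ P = maximalIdeal B := by
  have : Ring.KrullDimLE 1 B := Ring.krullDimLE_iff.2 hdim
  rcases Ring.krullDimLE_one_iff.1 ‹_› P hP with h | h
  · exact Or.inl (le_antisymm (h.2 ⟨hQ.1.1, bot_le⟩ hle) hle)
  · exact Or.inr (eq_maximalIdeal h)

section Ops

variable (A : Type u) [CommRing A] [IsLocalRing A] [IsNoetherianRing A]


theorem henselianLocalRing_cpl : HenselianLocalRing (AdicCompletion (maximalIdeal A) A) :=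
  Hens.henselianLocalRing_iff.2 (IsAdicComplete.henselianRing _ _)

theorem exists_cpl_approx (x : (AdicCompletion (maximalIdeal A) A)) : ∃ a, x - algebraMap A (AdicCompletion (maximalIdeal A) A) a ∈ maximalIdeal (AdicCompletion (maximalIdeal A) A) := by
  obtain ⟨a, ha⟩ := CplLocH7.exists_sub_mem_pow (A := A) 1 x
  exact ⟨a, by rwa [pow_one] at ha⟩

variable (S : Type u) [CommRing S] [IsLocalRing S] [Algebra A S] [IsLocalHom (algebraMap A S)]
  [Hensel.IsHenselization A S] (ψ : S →+* (AdicCompletion (maximalIdeal A) A)) (hψ : ψ.comp (algebraMap A S) = algebraMap A (AdicCompletion (maximalIdeal A) A))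

include hψ

theorem cpl_hyps :
    ψ.Flat ∧ IsLocalHom ψ ∧ IsNoetherianRing S ∧ (maximalIdeal S).map ψ = maximalIdeal (AdicCompletion (maximalIdeal A) A) ∧
      ∀ x : (AdicCompletion (maximalIdeal A) A), ∃ r, x - ψ r ∈ maximalIdeal (AdicCompletion (maximalIdeal A) A) := by
  have hm : (maximalIdeal S).map ψ = maximalIdeal (AdicCompletion (maximalIdeal A) A) := by
    rw [← Hens.henselization_map_maximalIdeal A S, Ideal.map_map, hψ,
      AdicCompletion.maximalIdeal_eq_map]
  obtain ⟨e⟩ := exists_henselization_equiv A S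
  let g : Hh A →ₐ[A] (AdicCompletion (maximalIdeal A) A) :=
    { ψ.comp e.toAlgHom.toRingHom with
      commutes' := fun r => by
        show ψ (e (algebraMap A (Hh A) r)) = _
        rw [AlgEquiv.commutes, ← RingHom.comp_apply, hψ] }
  have hψg : ψ = g.toRingHom.comp e.symm.toAlgHom.toRingHom := RingHom.ext fun x => by
    show ψ x = ψ (e (e.symm x))
    rw [e.apply_symm_apply]
  refine ⟨hψg ▸ RingHom.Flat.comp (RingHom.Flat.of_bijective e.symm.bijective) (flat_of_algHom g),
    ((local_hom_TFAE ψ).out 2 0 rfl rfl).mp hm.le, Hens.henselization_isNoetherianRing A S, hm,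
    fun x => ?_⟩
  obtain ⟨a, ha⟩ := exists_cpl_approx A x
  exact ⟨algebraMap A S a, by rw [← RingHom.comp_apply, hψ]; exact ha⟩

theorem exists_minimalPrime_radical_eq (q : Ideal (AdicCompletion (maximalIdeal A) A)) (hq : q ∈ minimalPrimes (AdicCompletion (maximalIdeal A) A))
    (hdim : ringKrullDim ((AdicCompletion (maximalIdeal A) A) ⧸ q) = 1) :
    ∃ q' ∈ minimalPrimes S, (Ideal.map ψ q').radical = q := by
  obtain ⟨hflat, hl, hN, hm, hsurj⟩ := cpl_hyps A S ψ hψ
  let _ : Algebra S (AdicCompletion (maximalIdeal A) A) := ψ.toAlgebra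
  have : Module.Flat S (AdicCompletion (maximalIdeal A) A) := hflat
  have : IsLocalHom (algebraMap S (AdicCompletion (maximalIdeal A) A)) := hl
  have : HenselianLocalRing S := Hensel.IsHenselization.henselian (R := A)
  have : IsNoetherianRing (AdicCompletion (maximalIdeal A) A) := CplLocH7.isNoetherianRing_cpl A
  have := hq.1.1
  have hup : ∀ P : Ideal (AdicCompletion (maximalIdeal A) A), P.IsPrime → q ≤ P → P = q ∨ P = maximalIdeal (AdicCompletion (maximalIdeal A) A) := by
    intro P hP hle
    have : IsLocalRing ((AdicCompletion (maximalIdeal A) A) ⧸ q) := .of_surjective' (Ideal.Quotient.mk q) Ideal.Quotient.mk_surjective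
    have hP' : (P.map (Ideal.Quotient.mk q)).IsPrime :=
      Ideal.map_isPrime_of_surjective Ideal.Quotient.mk_surjective (by rwa [Ideal.mk_ker])
    have hbot : (⊥ : Ideal ((AdicCompletion (maximalIdeal A) A) ⧸ q)) ∈ minimalPrimes ((AdicCompletion (maximalIdeal A) A) ⧸ q) :=
      ⟨⟨Ideal.isPrime_bot, le_rfl⟩, fun _ _ _ => bot_le⟩
    have hc : (P.map (Ideal.Quotient.mk q)).comap (Ideal.Quotient.mk q) = P := by
      rw [Ideal.comap_map_of_surjective _ Ideal.Quotient.mk_surjective, sup_eq_left]
      exact (le_of_eq Ideal.mk_ker).trans hle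
    rcases upper_of_dim_le_one hdim.le hbot _ hP' bot_le with h | h
    · left
      rw [← hc, h]
      exact Ideal.mk_ker
    · right
      rw [← hc, h]
      haveI : IsLocalHom (Ideal.Quotient.mk q) := IsLocalHom.of_surjective _ Ideal.Quotient.mk_surjective
      exact IsLocalRing.maximalIdeal_comap _
  refine ⟨q.comap ψ, comap_mem_minimalPrimes_of_flat (R := S) (T := (AdicCompletion (maximalIdeal A) A)) q hq, ?_⟩
  have h := minimalPrimes_map_comap (S := S) hsurj hm hq hup
  rw [show Ideal.map ψ (q.comap ψ) = Ideal.map (algebraMap S (AdicCompletion (maximalIdeal A) A)) (q.comap (algebraMap S (AdicCompletion (maximalIdeal A) A))) from rfl,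
    ← Ideal.sInf_minimalPrimes, h, sInf_singleton]

theorem numBranches_eq_completion_iff :
    Brnch.numBranches A = Brnch.numBranches (AdicCompletion (maximalIdeal A) A) ↔
      ∀ q ∈ minimalPrimes S, (Ideal.map ψ q).radical.IsPrime := by
  obtain ⟨hflat, hl, hN, hm, hsurj⟩ := cpl_hyps A S ψ hψ
  have := henselianLocalRing_cpl A
  have : IsNoetherianRing (AdicCompletion (maximalIdeal A) A) := CplLocH7.isNoetherianRing_cpl A
  have : IsLocalHom (algebraMap (AdicCompletion (maximalIdeal A) A) (AdicCompletion (maximalIdeal A) A)) := ⟨fun _ h => h⟩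
  have := Hens.isHenselization_self (AdicCompletion (maximalIdeal A) A)
  rw [← card_minimalPrimes_henselization A S, ← card_minimalPrimes_henselization (AdicCompletion (maximalIdeal A) A) (AdicCompletion (maximalIdeal A) A)]
  change (minimalPrimes S).encard = (minimalPrimes (AdicCompletion (maximalIdeal A) A)).encard ↔ _
  obtain ⟨hmaps, hsur⟩ := minimalPrimes_surjOn A (AdicCompletion (maximalIdeal A) A) S ψ hψ
  have himg : Ideal.comap ψ '' minimalPrimes (AdicCompletion (maximalIdeal A) A) = minimalPrimes S :=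
    (hmaps.image_subset).antisymm hsur
  have hfin : (minimalPrimes (AdicCompletion (maximalIdeal A) A)).Finite := minimalPrimes.finite_of_isNoetherianRing (AdicCompletion (maximalIdeal A) A)
  constructor
  · intro h q hq
    have hinj : Set.InjOn (Ideal.comap ψ) (minimalPrimes (AdicCompletion (maximalIdeal A) A)) :=
      hfin.injOn_of_encard_image_eq (by rw [himg, h])
    let _ : Algebra S (AdicCompletion (maximalIdeal A) A) := ψ.toAlgebra
    have : Module.Flat S (AdicCompletion (maximalIdeal A) A) := hflat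
    have hfib : ∀ Q ∈ (Ideal.map ψ q).minimalPrimes, Q ∈ minimalPrimes (AdicCompletion (maximalIdeal A) A) ∧ Q.comap ψ = q := by
      intro Q hQ
      have := hQ.1.1
      have := hq.1.1
      obtain ⟨Q', hQ'le, hQ', hQ'q⟩ := by
        have : Q.LiesOver (Q.comap (algebraMap S (AdicCompletion (maximalIdeal A) A))) := ⟨rfl⟩
        exact Ideal.exists_ideal_le_liesOver_of_le (S := (AdicCompletion (maximalIdeal A) A)) Q (p := q)
          (Ideal.map_le_iff_le_comap.1 hQ.1.2)
      have hQQ' : Q' = Q :=
        le_antisymm hQ'le (hQ.2 ⟨hQ', Ideal.map_le_iff_le_comap.2 hQ'q.over.le⟩ hQ'le)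
      subst hQQ'
      refine ⟨⟨⟨hQ', bot_le⟩, fun P hP hle => hQ.2 ⟨hP.1, Ideal.map_le_iff_le_comap.2 ?_⟩ hle⟩,
        hQ'q.over.symm⟩
      have := hP.1
      exact hq.2 ⟨inferInstance, bot_le⟩ ((Ideal.comap_mono hle).trans hQ'q.over.ge)
    obtain ⟨Q₀, hQ₀, he⟩ := hsur hq
    have := hQ₀.1.1
    obtain ⟨Q, hQ, -⟩ := Ideal.exists_minimalPrimes_le (I := Ideal.map ψ q) (J := Q₀)
      (Ideal.map_le_iff_le_comap.2 he.ge)
    have hs : (Ideal.map ψ q).minimalPrimes = {Q} := Set.eq_singleton_iff_unique_mem.2 ⟨hQ,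
      fun Q₁ hQ₁ => hinj (hfib Q₁ hQ₁).1 (hfib Q hQ).1 ((hfib Q₁ hQ₁).2.trans (hfib Q hQ).2.symm)⟩
    rw [← Ideal.sInf_minimalPrimes, hs, sInf_singleton]
    exact hQ.1.1
  · intro h
    rw [← himg, Set.InjOn.encard_image]
    intro Q hQ Q' hQ' he
    have hp := h _ (hmaps hQ)
    have h1 : Ideal.map ψ (Q.comap ψ) ≤ Q := Ideal.map_comap_le
    have h2 : Ideal.map ψ (Q.comap ψ) ≤ Q' := he ▸ Ideal.map_comap_le
    have := hQ.1.1
    have := hQ'.1.1
    have e1 := hQ.2 ⟨hp, bot_le⟩ ((Ideal.IsPrime.radical_le_iff inferInstance).2 h1)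
    have e2 := hQ'.2 ⟨hp, bot_le⟩ ((Ideal.IsPrime.radical_le_iff inferInstance).2 h2)
    exact (le_antisymm e1 ((Ideal.IsPrime.radical_le_iff inferInstance).2 h1)).trans
      (le_antisymm ((Ideal.IsPrime.radical_le_iff inferInstance).2 h2) e2)

omit hψ in
theorem isPreconnected_punctured_cpl_iff :
    IsPreconnected ({closedPoint (AdicCompletion (maximalIdeal A) A)}ᶜ : Set (PrimeSpectrum (AdicCompletion (maximalIdeal A) A))) ↔
      IsPreconnected ({closedPoint S}ᶜ : Set (PrimeSpectrum S)) := by
  have := henselianLocalRing_cpl A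
  have : IsNoetherianRing (AdicCompletion (maximalIdeal A) A) := CplLocH7.isNoetherianRing_cpl A
  obtain ⟨ψ, hψ, -⟩ := Hensel.IsHenselization.universal (R := A) (S := S) (AdicCompletion (maximalIdeal A) A) (algebraMap A (AdicCompletion (maximalIdeal A) A))
    inferInstance
  obtain ⟨hflat, hl, hN, hm, hsurj⟩ := cpl_hyps A S ψ hψ
  let _ : Algebra S (AdicCompletion (maximalIdeal A) A) := ψ.toAlgebra
  have : Module.Flat S (AdicCompletion (maximalIdeal A) A) := hflat
  have : IsLocalHom (algebraMap S (AdicCompletion (maximalIdeal A) A)) := hl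
  have : HenselianLocalRing S := Hensel.IsHenselization.henselian (R := A)
  exact isPreconnected_punctured_iff (S := S) hsurj hm

end Ops

section DimOne

variable (A B : Type u) [CommRing A] [IsLocalRing A] [IsNoetherianRing A] [CommRing B] [IsLocalRing B]
  [IsNoetherianRing B] [Algebra A B] [IsLocalHom (algebraMap A B)] [Module.Flat A B]
  (hm : (maximalIdeal A).map (algebraMap A B) = maximalIdeal B)
  (hsurj : ∀ x : B, ∃ r, x - algebraMap A B r ∈ maximalIdeal B) (hdim : ringKrullDim B ≤ 1)

include hm hsurj hdim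

theorem numBranches_eq_of_dim_le_one : Brnch.numBranches B = Brnch.numBranches A := by
  let _ : Algebra A (Hh B) := ((algebraMap B (Hh B)).comp (algebraMap A B)).toAlgebra
  have : IsScalarTower A B (Hh B) := IsScalarTower.of_algebraMap_eq fun _ => rfl
  have : IsLocalHom (algebraMap A (Hh B)) :=
    inferInstanceAs (IsLocalHom ((algebraMap B (Hh B)).comp (algebraMap A B)))
  have := Hens.henselization_flat B (Hh B)
  have : Module.Flat A (Hh B) := Module.Flat.trans A B (Hh B)
  obtain ⟨g, -, -⟩ := existsUnique_hh_lift (R := A) (Hh B)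
  have hmax : (maximalIdeal A).map (algebraMap A (Hh B)) = maximalIdeal (Hh B) := by
    rw [IsScalarTower.algebraMap_eq A B (Hh B), ← Ideal.map_map, hm,
      Hens.henselization_map_maximalIdeal B (Hh B)]
  rw [← card_minimalPrimes_henselization A (Hh A), ← card_minimalPrimes_henselization B (Hh B)]
  change (minimalPrimes (Hh B)).encard = (minimalPrimes (Hh A)).encard
  let _ : Algebra (Hh A) (Hh B) := g.toRingHom.toAlgebra
  have : Module.Flat (Hh A) (Hh B) := flat_of_algHom g
  have : IsLocalHom (algebraMap (Hh A) (Hh B)) := isLocalHom_of_algHom g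
  refine encard_minimalPrimes_eq_of_dim_le_one (S := Hh A) (B := Hh B) (fun x => ?_) ?_
    ((Hens.henselization_ringKrullDim B (Hh B)).le.trans hdim)
  · obtain ⟨b, hb⟩ := Hens.henselization_exists_sub_mem B (Hh B) x
    obtain ⟨a, ha⟩ := hsurj b
    refine ⟨algebraMap A (Hh A) a, ?_⟩
    show x - g (algebraMap A (Hh A) a) ∈ _
    rw [g.commutes, show x - algebraMap A (Hh B) a =
      (x - algebraMap B (Hh B) b) + algebraMap B (Hh B) (b - algebraMap A B a) by
        rw [map_sub, ← IsScalarTower.algebraMap_apply]; ring]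
    exact add_mem hb (((local_hom_TFAE (algebraMap B (Hh B))).out 0 2 rfl rfl).mp inferInstance
      (Ideal.mem_map_of_mem _ ha))
  · rw [← Hens.henselization_map_maximalIdeal A (Hh A), Ideal.map_map,
      ← hmax]
    exact congrArg (Ideal.map · _) g.comp_algebraMap

theorem numGeomBranches_eq_of_dim_le_one :
    Brnch.numGeomBranches B = Brnch.numGeomBranches A := by
  let _ : Algebra A (Hsh B) := ((algebraMap B (Hsh B)).comp (algebraMap A B)).toAlgebra
  have : IsScalarTower A B (Hsh B) := IsScalarTower.of_algebraMap_eq fun _ => rfl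
  have hl : IsLocalHom (algebraMap A (Hsh B)) :=
    inferInstanceAs (IsLocalHom ((algebraMap B (Hsh B)).comp (algebraMap A B)))
  have := Hens.strictHenselization_flat B (Hsh B)
  have : Module.Flat A (Hsh B) := Module.Flat.trans A B (Hsh B)
  have hsA := Hensel.IsStrictHenselization.isSepClosure (R := A) (S := Hsh A)
  have hsB := Hensel.IsStrictHenselization.isSepClosure (R := B) (S := Hsh B)
  let _ : Algebra (ResidueField A) (ResidueField (Hsh B)) :=
    (ResidueField.map (algebraMap A (Hsh B))).toAlgebra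
  have : IsSepClosed (ResidueField (Hsh B)) := hsB.1
  have : IsSepClosed (ResidueField (Hsh A)) := hsA.1
  have : Algebra.IsSeparable (ResidueField A) (ResidueField (Hsh A)) := hsA.2
  let τ : ResidueField (Hsh A) →ₐ[ResidueField A] ResidueField (Hsh B) := IsSepClosed.lift
  have : HenselianLocalRing (Hsh B) := Hensel.IsStrictHenselization.henselian (R := B)
  obtain ⟨g₀, ⟨hg, hgτ⟩, -⟩ := Hensel.IsStrictHenselization.universal (R := A) (S := Hsh A) (Hsh B)
    (algebraMap A (Hsh B)) τ.toRingHom τ.comp_algebraMap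
  let g : Hsh A →ₐ[A] Hsh B := { g₀ with commutes' := fun r => congr($hg r) }
  have hmax : (maximalIdeal A).map (algebraMap A (Hsh B)) = maximalIdeal (Hsh B) := by
    rw [IsScalarTower.algebraMap_eq A B (Hsh B), ← Ideal.map_map, hm,
      Hens.strictHenselization_map_maximalIdeal B (Hsh B)]
  rw [← card_minimalPrimes_strictHenselization A (Hsh A),
    ← card_minimalPrimes_strictHenselization B (Hsh B)]
  change (minimalPrimes (Hsh B)).encard = (minimalPrimes (Hsh A)).encard
  let eAB : ResidueField A ≃+* ResidueField B :=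
    RingEquiv.ofBijective (ResidueField.map (algebraMap A B)) ⟨RingHom.injective _, fun y => by
      obtain ⟨b, rfl⟩ := residue_surjective y
      obtain ⟨a, ha⟩ := hsurj b
      refine ⟨residue A a, ?_⟩
      rw [ResidueField.map_residue]
      exact ((Ideal.Quotient.mk_eq_mk_iff_sub_mem _ _).2 ha).symm⟩
  haveI : Algebra.IsSeparable (ResidueField A) (ResidueField (Hsh B)) := by
    haveI := hsB.2
    refine Algebra.IsSeparable.of_equiv_equiv eAB.symm (RingEquiv.refl _) (RingHom.ext fun z => ?_)
    obtain ⟨y, rfl⟩ := eAB.surjective z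
    show ResidueField.map (algebraMap A (Hsh B)) (eAB.symm (eAB y)) = _
    rw [eAB.symm_apply_apply]
    obtain ⟨a, rfl⟩ := residue_surjective y
    rfl
  have hτ : Function.Surjective τ :=
    Hens.surjective_of_isSepClosed τ.toRingHom (algebraMap (ResidueField A) (ResidueField (Hsh A)))
      τ.comp_algebraMap
  let _ : Algebra (Hsh A) (Hsh B) := g.toRingHom.toAlgebra
  have : Module.Flat (Hsh A) (Hsh B) := flat_of_algHom g
  have : IsLocalHom (algebraMap (Hsh A) (Hsh B)) := isLocalHom_of_algHom g
  refine encard_minimalPrimes_eq_of_dim_le_one (S := Hsh A) (B := Hsh B) (fun x => ?_) ?_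
    ((Hens.strictHenselization_ringKrullDim B (Hsh B)).le.trans hdim)
  · obtain ⟨y, hy⟩ := hτ (residue _ x)
    obtain ⟨s, rfl⟩ := residue_surjective y
    refine ⟨s, (residue_eq_zero_iff _).1 ?_⟩
    rw [map_sub, sub_eq_zero, ← hy]
    exact (hgτ s).symm
  · rw [← Hens.strictHenselization_map_maximalIdeal A (Hsh A), Ideal.map_map, ← hmax]
    exact congrArg (Ideal.map · _) g.comp_algebraMap

end DimOne

end Groth.Agent.Branch14
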