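import Mathlib

/-!
# Irreducible components through a point and minimal primes of the local ring
-/

open AlgebraicGeometry CategoryTheory TopologicalSpace Topology

namespace Groth.Agent.Branch14

universe u

theorem encard_minimalPrimes_stalk (X : Scheme.{u}) (x : X) :
    (minimalPrimes (X.presheaf.stalk x)).encard =
      {Z : Set ↑X | Z ∈ irreducibleComponents ↑X ∧ x ∈ Z}.encard := by
  let f : PrimeSpectrum (X.presheaf.stalk x) → X := fun P => X.fromSpecStalk x P
  have hemb : IsEmbedding f := (X.fromSpecStalk x).isEmbedding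
  have hrange : Set.range f = {y | y ⤳ x} := Scheme.range_fromSpecStalk
  have hle : ∀ {P Q : PrimeSpectrum (X.presheaf.stalk x)}, f P ⤳ f Q → P.asIdeal ≤ Q.asIdeal :=
    fun h => (PrimeSpectrum.le_iff_specializes _ _).2 (hemb.specializes_iff.1 h)
  have hpt : {P : PrimeSpectrum (X.presheaf.stalk x) | P.asIdeal ∈ minimalPrimes _}.encard =
      (minimalPrimes (X.presheaf.stalk x)).encard := by
    rw [← (Function.Injective.injOn (f := PrimeSpectrum.asIdeal)
      fun a b hab => PrimeSpectrum.ext hab).encard_image]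
    congr 1
    ext I
    exact ⟨fun ⟨P, hP, hPI⟩ => hPI ▸ hP, fun hI => ⟨⟨I, hI.1.1⟩, hI, rfl⟩⟩
  rw [← hpt]
  have hinj : Set.InjOn (fun P => closure {f P})
      {P : PrimeSpectrum (X.presheaf.stalk x) | P.asIdeal ∈ minimalPrimes _} := fun P _ Q _ h =>
    hemb.injective ((inseparable_iff_closure_eq.2 h).eq)
  rw [← hinj.encard_image]
  congr 1
  ext Z
  constructor
  · rintro ⟨P, hP, rfl⟩
    have hPx : f P ⤳ x := hrange.subset ⟨P, rfl⟩
    refine ⟨⟨isIrreducible_singleton.closure, fun T hT hsub => ?_⟩, hPx.mem_closure⟩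
    obtain ⟨η, hη⟩ := QuasiSober.sober (S := closure T) hT.closure isClosed_closure
    have hηP : η ⤳ f P := hη.specializes (subset_closure (hsub (subset_closure rfl)))
    obtain ⟨Q, rfl⟩ := hrange.ge (hηP.trans hPx)
    have hQP := hle hηP
    have := Q.2
    obtain rfl : Q = P := PrimeSpectrum.ext (le_antisymm hQP (hP.2 ⟨Q.2, bot_le⟩ hQP))
    exact (subset_closure.trans hη.def.ge)
  · rintro ⟨hZ, hxZ⟩
    obtain ⟨η, hη⟩ := QuasiSober.sober hZ.1 (isClosed_of_mem_irreducibleComponents Z hZ)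
    obtain ⟨P, rfl⟩ := hrange.ge (hη.specializes hxZ)
    refine ⟨P, ⟨⟨P.2, bot_le⟩, fun I hI hIP => ?_⟩, hη.def⟩
    have := hI.1
    let Q : PrimeSpectrum (X.presheaf.stalk x) := ⟨I, hI.1⟩
    have hQP : f Q ⤳ f P :=
      hemb.specializes_iff.2 ((PrimeSpectrum.le_iff_specializes Q P).1 hIP)
    have h1 : Z ⊆ closure {f Q} := hη.def ▸ specializes_iff_closure_subset.1 hQP
    have h2 : closure {f Q} ⊆ Z := hZ.2 isIrreducible_singleton.closure h1
    have h3 : f P ⤳ f Q := hη.specializes (h2 (subset_closure rfl))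
    exact hle h3

end Groth.Agent.Branch14
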