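import Groth.Agent.Lib.Branch14.Normal
import Groth.Agent.Lib.Hens.Normal

/-!
# Local rings of `A' ⊗ A^sh` are domains
-/

open scoped TensorProduct

set_option backward.isDefEq.respectTransparency.types false

namespace Groth.Agent.Branch14

open Groth.Agent.Hens

universe u

/-- Etale algebras over a ring with normal local rings have local rings that are domains. -/
theorem isDomain_localization_of_etale {R E : Type u} [CommRing R] [CommRing E] [Algebra R E]
    [Algebra.Etale R E]
    (hR : ∀ (p : Ideal R) [p.IsPrime],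
      IsDomain (Localization.AtPrime p) ∧ IsIntegrallyClosed (Localization.AtPrime p))
    (Q : Ideal E) [Q.IsPrime] : IsDomain (Localization.AtPrime Q) := by
  let p := Q.comap (algebraMap R E)
  obtain ⟨hd, hn⟩ := hR p
  let L := Localization.AtPrime Q
  let Rp := Localization.AtPrime p
  let f : Rp →ₐ[R] L := IsLocalization.liftAlgHom (M := p.primeCompl) (f := Algebra.ofId R L)
    fun y => by
      show IsUnit (algebraMap R L y)
      rw [IsScalarTower.algebraMap_apply R E L]
      exact IsLocalization.map_units (M := Q.primeCompl) L ⟨algebraMap R E y, y.2⟩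
  let _ : Algebra Rp L := f.toRingHom.toAlgebra
  have : IsScalarTower R Rp L := IsScalarTower.of_algebraMap_eq fun r => (f.commutes r).symm
  let μ : Rp ⊗[R] E →ₐ[Rp] L := Algebra.TensorProduct.lift (Algebra.ofId Rp L)
    (IsScalarTower.toAlgHom R E L) fun _ _ => .all _ _
  let κ := IsLocalRing.ResidueField L
  let σ : Rp ⊗[R] E →ₐ[Rp] κ := (IsScalarTower.toAlgHom Rp L κ).comp μ
  obtain ⟨i, e, he⟩ := Nbhd.exists_of (Rp ⊗[R] E) σ
  have := (Nbhd.isDomain_isIntegrallyClosed i).1
  have hu : ∀ y : i.q.primeCompl, IsUnit ((μ.comp e.symm.toAlgHom) (y : i.S)) := fun y => by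
    by_contra h
    refine y.2 ?_
    show i.σ y = 0
    rw [← e.apply_symm_apply (y : i.S), he]
    exact (IsLocalRing.residue_eq_zero_iff _).2 h
  let θ : i.G →ₐ[Rp] L := IsLocalization.liftAlgHom (M := i.q.primeCompl)
    (f := μ.comp e.symm.toAlgHom) hu
  let χ : E →+* i.G := (algebraMap i.S i.G).comp
    (e.toRingEquiv.toRingHom.comp (Algebra.TensorProduct.includeRight : E →ₐ[R] Rp ⊗[R] E).toRingHom)
  have hθ : ∀ x, θ (χ x) = algebraMap E L x := fun x => by
    show θ (algebraMap i.S i.G (e (1 ⊗ₜ x))) = _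
    rw [show θ (algebraMap i.S i.G (e (1 ⊗ₜ x))) = μ (e.symm (e (1 ⊗ₜ x))) from
      IsLocalization.lift_eq _ _, e.symm_apply_apply, Algebra.TensorProduct.lift_tmul, map_one,
      one_mul]
    rfl
  have hχ : ∀ y : Q.primeCompl, IsUnit (χ y) := fun y => by
    refine IsLocalization.map_units (M := i.q.primeCompl) i.G
      (⟨e (1 ⊗ₜ (y : E)), fun h => y.2 ?_⟩ : i.q.primeCompl)
    have h0 : σ (1 ⊗ₜ (y : E)) = 0 := by rw [← he]; exact h
    have h1 : μ (1 ⊗ₜ (y : E)) ∈ IsLocalRing.maximalIdeal L := (IsLocalRing.residue_eq_zero_iff _).1 h0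
    rw [Algebra.TensorProduct.lift_tmul, map_one, one_mul] at h1
    exact (IsLocalization.AtPrime.to_map_mem_maximal_iff L Q (y : E)).1 h1
  let η : L →+* i.G := IsLocalization.lift (M := Q.primeCompl) (g := χ) hχ
  have hid : θ.toRingHom.comp η = RingHom.id L :=
    IsLocalization.ringHom_ext Q.primeCompl (RingHom.ext fun x => by
      show θ (η (algebraMap E L x)) = algebraMap E L x
      rw [IsLocalization.lift_eq, hθ])
  exact Function.Injective.isDomain η
    (Function.LeftInverse.injective (g := θ) fun x => RingHom.congr_fun hid x)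

variable (A : Type u) [CommRing A] (B : Type u) [CommRing B] [Algebra A B]
  (K : Type u) [Field K] [Algebra A K]

/-- The stages of `B ⊗ Hs A K`. -/
abbrev Stage (i : Nbhd A K) : Type u := B ⊗[A] i.G

/-- The transition maps of the stages. -/
noncomputable abbrev stageMap (i j : Nbhd A K) (h : i ≤ j) : Stage A B K i →ₐ[A] Stage A B K j :=
  Algebra.TensorProduct.map (AlgHom.id A B) (Nbhd.map h)

/-- The map of a stage to the tensor product. -/
noncomputable abbrev stageTo (i : Nbhd A K) : Stage A B K i →ₐ[A] B ⊗[A] Hs A K :=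
  Algebra.TensorProduct.map (AlgHom.id A B) (Hs.of i)

instance directedSystem_stage : DirectedSystem (Stage A B K) (fun i j h => ⇑(stageMap A B K i j h)) where
  map_self i z := by
    show stageMap A B K i i le_rfl z = z
    induction z using TensorProduct.induction_on with
    | zero => exact map_zero _
    | add a b ha hb => rw [map_add, ha, hb]
    | tmul b g =>
      show b ⊗ₜ[A] Nbhd.map _ g = b ⊗ₜ g
      rw [DirectedSystem.map_self' (f := fun i j h => Nbhd.map (i := i) (j := j) h)]
  map_map k j i hij hjk z := by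
    show stageMap A B K j k hjk (stageMap A B K i j hij z) = stageMap A B K i k (hij.trans hjk) z
    induction z using TensorProduct.induction_on with
    | zero => simp only [map_zero]
    | add a b ha hb => rw [map_add, map_add, map_add, ha, hb]
    | tmul b g =>
      show b ⊗ₜ[A] Nbhd.map hjk (Nbhd.map hij g) = b ⊗ₜ Nbhd.map _ g
      rw [DirectedSystem.map_map' (f := fun i j h => Nbhd.map (i := i) (j := j) h)]

theorem stageTo_map (i k : Nbhd A K) (hik : i ≤ k) (w : Stage A B K i) :
    stageTo A B K k (stageMap A B K i k hik w) = stageTo A B K i w := by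
  induction w using TensorProduct.induction_on with
  | zero => simp only [map_zero]
  | add a b ha hb => simp only [map_add, ha, hb]
  | tmul b g =>
    show b ⊗ₜ[A] Hs.of k (Nbhd.map hik g) = b ⊗ₜ Hs.of i g
    rw [Hs.of_map hik g]

theorem exists_stageTo (z : B ⊗[A] Hs A K) : ∃ i w, stageTo A B K i w = z := by
  induction z using TensorProduct.induction_on with
  | zero => exact ⟨Classical.arbitrary _, 0, map_zero _⟩
  | tmul b s =>
    obtain ⟨i, g, rfl⟩ := Hs.exists_of s
    exact ⟨i, b ⊗ₜ g, rfl⟩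
  | add a b ha hb =>
    obtain ⟨i, w, rfl⟩ := ha
    obtain ⟨j, v, rfl⟩ := hb
    obtain ⟨k, hik, hjk⟩ := exists_ge_ge i j
    exact ⟨k, stageMap A B K i k hik w + stageMap A B K j k hjk v, by
      rw [map_add, stageTo_map, stageTo_map]⟩

/-- The colimit of the stages. -/
def StageLimit : Type u := DirectLimit (Stage A B K) (stageMap A B K)

noncomputable instance : CommRing (StageLimit A B K) :=
  inferInstanceAs (CommRing (DirectLimit (Stage A B K) (stageMap A B K)))

noncomputable instance : Algebra A (StageLimit A B K) :=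
  inferInstanceAs (Algebra A (DirectLimit (Stage A B K) (stageMap A B K)))

/-- The canonical maps of the colimit of the stages. -/
noncomputable def stageOf (i : Nbhd A K) : Stage A B K i →ₐ[A] StageLimit A B K :=
  DirectLimit.Algebra.of (Stage A B K) (stageMap A B K) i

theorem stageOf_map (i j : Nbhd A K) (h : i ≤ j) (z : Stage A B K i) :
    stageOf A B K j (stageMap A B K i j h z) = stageOf A B K i z :=
  DirectLimit.Algebra.of_f (f := stageMap A B K) h z

theorem stageOf_eq (i : Nbhd A K) (z w : Stage A B K i) (h : stageOf A B K i z = stageOf A B K i w) :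
    ∃ (k : Nbhd A K) (hk : i ≤ k), stageMap A B K i k hk z = stageMap A B K i k hk w := by
  obtain ⟨k, hk, hk', he⟩ := Quotient.exact h
  exact ⟨k, hk, he⟩

theorem exists_stageMap_eq_zero (i : Nbhd A K) (w : Stage A B K i) (hw : stageTo A B K i w = 0) :
    ∃ k h, stageMap A B K i k h w = 0 := by
  let ofL : ∀ i, Stage A B K i →ₐ[A] StageLimit A B K := stageOf A B K
  have hmap := stageOf_map A B K
  let gS : Hs A K →ₐ[A] StageLimit A B K := DirectLimit.Algebra.lift (fun i : Nbhd A K => i.G)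
    (fun i j h => Nbhd.map (i := i) (j := j) h) _
    (fun i => (ofL i).comp Algebra.TensorProduct.includeRight)
    (fun i j h g => hmap i j h (1 ⊗ₜ[A] g))
  let i₀ : Nbhd A K := Classical.arbitrary _
  let gB : B →ₐ[A] StageLimit A B K := (ofL i₀).comp Algebra.TensorProduct.includeLeft
  let Φ : B ⊗[A] Hs A K →ₐ[A] StageLimit A B K :=
    Algebra.TensorProduct.lift gB gS fun a b => Commute.all _ _
  have hB' : ∀ i (b : B), ofL i (b ⊗ₜ[A] 1) = gB b := fun i b => by
    obtain ⟨k, hik, h0k⟩ := exists_ge_ge i i₀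
    show _ = ofL i₀ (b ⊗ₜ 1)
    rw [← hmap i k hik, ← hmap i₀ k h0k]
    show ofL k (b ⊗ₜ Nbhd.map hik 1) = ofL k (b ⊗ₜ Nbhd.map h0k 1)
    rw [map_one, map_one]
  have hΦ : ∀ z, Φ (stageTo A B K i z) = ofL i z := fun z => by
    induction z using TensorProduct.induction_on with
    | zero => simp only [map_zero]
    | add a b ha hb => simp only [map_add, ha, hb]
    | tmul b g =>
      show Φ (b ⊗ₜ Hs.of i g) = _
      rw [Algebra.TensorProduct.lift_tmul]
      show gB b * ofL i (1 ⊗ₜ g) = _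
      rw [← hB' i, ← map_mul, Algebra.TensorProduct.tmul_mul_tmul, mul_one, one_mul]
  have h0 : ofL i w = ofL i 0 := by rw [← hΦ, hw, map_zero, map_zero]
  obtain ⟨k, hk, he⟩ := stageOf_eq A B K i w 0 h0
  exact ⟨k, hk, he.trans (map_zero _)⟩

variable {A B K}

/-- Clearing denominators in a stage. -/
theorem exists_frac_stage (k : Nbhd A K) (Z : Stage A B K k) :
    ∃ (s : k.q.primeCompl) (z : B ⊗[A] k.S),
      Algebra.TensorProduct.map (AlgHom.id A B) (IsScalarTower.toAlgHom A k.S k.G) (1 ⊗ₜ (s : k.S)) * Z =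
        Algebra.TensorProduct.map (AlgHom.id A B) (IsScalarTower.toAlgHom A k.S k.G) z := by
  let toG : B ⊗[A] k.S →ₐ[A] Stage A B K k :=
    Algebra.TensorProduct.map (AlgHom.id A B) (IsScalarTower.toAlgHom A k.S k.G)
  show ∃ (s : k.q.primeCompl) (z : B ⊗[A] k.S), toG (1 ⊗ₜ (s : k.S)) * Z = toG z
  induction Z using TensorProduct.induction_on with
  | zero => exact ⟨1, 0, by simp⟩
  | tmul b g =>
    obtain ⟨s, t, rfl⟩ := IsLocalization.exists_mk'_eq k.q.primeCompl g
    refine ⟨t, b ⊗ₜ s, ?_⟩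
    show (1 : B) ⊗ₜ[A] algebraMap k.S k.G t * b ⊗ₜ[A] _ = b ⊗ₜ[A] algebraMap k.S k.G s
    rw [Algebra.TensorProduct.tmul_mul_tmul, one_mul, IsLocalization.mk'_spec']
  | add a b ha hb =>
    obtain ⟨s, z, hz⟩ := ha
    obtain ⟨s', z', hz'⟩ := hb
    refine ⟨s * s', z * (1 ⊗ₜ (s' : k.S)) + z' * (1 ⊗ₜ (s : k.S)), ?_⟩
    have h1 : (1 : B) ⊗ₜ[A] ((s * s' : k.q.primeCompl) : k.S) = (1 ⊗ₜ (s : k.S)) * (1 ⊗ₜ (s' : k.S)) := by
      rw [Algebra.TensorProduct.tmul_mul_tmul, one_mul, Submonoid.coe_mul]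
    rw [h1, map_mul, map_add, map_mul, map_mul, ← hz, ← hz']
    ring

/-- Descending the annihilator property from a domain. -/
theorem exists_annihilator_of_retraction {E F T L : Type u} [CommRing E] [CommRing F] [CommRing T]
    [CommRing L] [IsDomain L] (toG : E →+* F) (ψ : F →+* T) (M : Ideal T) [M.IsPrime] (ν : F →+* L)
    (hfrac : ∀ Z : F, ∃ u z : E, IsUnit (toG u) ∧ toG u * Z = toG z)
    (hker : ∀ z : E, ν (toG z) = 0 → ∃ t : E, ψ (toG t) ∉ M ∧ t * z = 0)
    (X Y : F) (he : X * Y = 0) : ∃ t ∉ M, t * ψ X = 0 ∨ t * ψ Y = 0 := by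
  have key : ∀ Z : F, ν Z = 0 → ∃ t ∉ M, t * ψ Z = 0 := fun Z hZ => by
    obtain ⟨u, z, hu, hz⟩ := hfrac Z
    obtain ⟨t, ht, htz⟩ := hker z (by rw [← hz, map_mul, hZ, mul_zero])
    refine ⟨ψ (toG (t * u)), fun hmem => ?_, ?_⟩
    · rw [map_mul, map_mul] at hmem
      rcases (inferInstance : M.IsPrime).mem_or_mem hmem with h2 | h2
      · exact ht h2
      · exact (inferInstance : M.IsPrime).ne_top (Ideal.eq_top_of_isUnit_mem _ h2 (hu.map ψ))
    · rw [← map_mul, map_mul toG, mul_assoc, hz, ← map_mul, htz, map_zero, map_zero]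
  have h3 : ν X * ν Y = 0 := by rw [← map_mul, he, map_zero]
  rcases mul_eq_zero.1 h3 with h4 | h4
  · obtain ⟨t, ht, h5⟩ := key X h4
    exact ⟨t, ht, .inl h5⟩
  · obtain ⟨t, ht, h5⟩ := key Y h4
    exact ⟨t, ht, .inr h5⟩

/-- The inclusion of the etale stage. -/
noncomputable abbrev toStage (k : Nbhd A K) : B ⊗[A] k.S →ₐ[A] Stage A B K k :=
  Algebra.TensorProduct.map (AlgHom.id A B) (IsScalarTower.toAlgHom A k.S k.G)

/-- Extending a map inverting the complement of the point to the stage. -/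
theorem exists_extend_stage (k : Nbhd A K) {L : Type u} [CommRing L] [Algebra A L]
    (g : B ⊗[A] k.S →ₐ[A] L) (hu : ∀ y : k.q.primeCompl, IsUnit (g (1 ⊗ₜ (y : k.S)))) :
    ∃ ν : Stage A B K k →ₐ[A] L, ∀ z, ν (toStage k z) = g z := by
  let g' : k.S →ₐ[A] L := g.comp Algebra.TensorProduct.includeRight
  let h : k.G →ₐ[A] L := IsLocalization.liftAlgHom (M := k.q.primeCompl) (f := g') hu
  refine ⟨Algebra.TensorProduct.lift (g.comp Algebra.TensorProduct.includeLeft) h
    fun _ _ => .all _ _, fun z => ?_⟩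
  induction z using TensorProduct.induction_on with
  | zero => simp only [map_zero]
  | add a b ha hb => simp only [map_add, ha, hb]
  | tmul b x =>
    rw [Algebra.TensorProduct.map_tmul, Algebra.TensorProduct.lift_tmul, AlgHom.id_apply,
      IsScalarTower.toAlgHom_apply,
      show h (algebraMap k.S k.G x) = g' x from IsLocalization.lift_eq _ x]
    show g (b ⊗ₜ 1) * g (1 ⊗ₜ x) = g (b ⊗ₜ x)
    rw [← map_mul, Algebra.TensorProduct.tmul_mul_tmul, mul_one, one_mul]

theorem isUnit_toStage (k : Nbhd A K) (y : k.q.primeCompl) :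
    IsUnit (toStage (A := A) (B := B) k (1 ⊗ₜ (y : k.S))) := by
  rw [Algebra.TensorProduct.map_tmul, AlgHom.id_apply]
  exact (IsLocalization.map_units (M := k.q.primeCompl) k.G y).map
    (Algebra.TensorProduct.includeRight : k.G →ₐ[A] Stage A B K k)

/-- Descending the annihilator property from an etale algebra. -/
theorem exists_annihilator_of_etale {R E F T : Type u} [CommRing R] [CommRing E] [CommRing F]
    [CommRing T] [Algebra R E] [Algebra.Etale R E]
    (hR : ∀ (p : Ideal R) [p.IsPrime],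
      IsDomain (Localization.AtPrime p) ∧ IsIntegrallyClosed (Localization.AtPrime p))
    (toG : E →+* F) (ψ : F →+* T) (M : Ideal T) [M.IsPrime]
    (hfrac : ∀ Z : F, ∃ u z : E, IsUnit (toG u) ∧ toG u * Z = toG z)
    (hext : ∀ (L : Type u) [CommRing L] (g : E →+* L), (∀ u, IsUnit (toG u) → IsUnit (g u)) →
      ∃ ν : F →+* L, ∀ z, ν (toG z) = g z)
    (X Y : F) (he : X * Y = 0) : ∃ t ∉ M, t * ψ X = 0 ∨ t * ψ Y = 0 := by
  let Q : Ideal E := M.comap (ψ.comp toG)
  have : IsDomain (Localization.AtPrime Q) := isDomain_localization_of_etale hR Q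
  obtain ⟨ν, hν⟩ := hext (Localization.AtPrime Q) (algebraMap E _) fun u hu =>
    IsLocalization.map_units (M := Q.primeCompl) (Localization.AtPrime Q) ⟨u, fun hy =>
      (inferInstance : M.IsPrime).ne_top (Ideal.eq_top_of_isUnit_mem _ hy (hu.map ψ))⟩
  refine exists_annihilator_of_retraction toG ψ M ν hfrac (fun z hz => ?_) X Y he
  rw [hν] at hz
  obtain ⟨⟨t, ht⟩, htz⟩ :=
    (IsLocalization.map_eq_zero_iff Q.primeCompl (Localization.AtPrime Q) z).1 hz
  exact ⟨t, ht, htz⟩

/-- The annihilator statement at one stage. -/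
theorem exists_annihilator_stage
    (hB : ∀ (p : Ideal B) [p.IsPrime],
      IsDomain (Localization.AtPrime p) ∧ IsIntegrallyClosed (Localization.AtPrime p))
    (M : Ideal (B ⊗[A] Hs A K)) [M.IsPrime] (k : Nbhd A K) (X Y : Stage A B K k) (he : X * Y = 0) :
    ∃ t ∉ M, t * stageTo A B K k X = 0 ∨ t * stageTo A B K k Y = 0 := by
  refine exists_annihilator_of_etale (R := B) (E := B ⊗[A] k.S) (F := Stage A B K k)
    (T := B ⊗[A] Hs A K) hB (toStage (A := A) (B := B) k).toRingHom
    (stageTo A B K k).toRingHom M (fun Z => ?_) (fun L _ g hg => ?_) X Y he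
  · obtain ⟨s, z, hz⟩ := exists_frac_stage k Z
    exact ⟨_, z, isUnit_toStage k s, hz⟩
  · let _ : Algebra A L := (g.comp (algebraMap A (B ⊗[A] k.S))).toAlgebra
    obtain ⟨ν, hν⟩ := exists_extend_stage k { g with commutes' := fun _ => rfl }
      fun y => hg _ (isUnit_toStage k y)
    exact ⟨ν.toRingHom, hν⟩

/-- The tensor product with a colimit of etale neighbourhoods has domains as local rings. -/
theorem exists_annihilator_tensor_hs
    (hB : ∀ (p : Ideal B) [p.IsPrime],
      IsDomain (Localization.AtPrime p) ∧ IsIntegrallyClosed (Localization.AtPrime p))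
    (M : Ideal (B ⊗[A] Hs A K)) [M.IsPrime] (x y : B ⊗[A] Hs A K) (h : x * y = 0) :
    ∃ t ∉ M, t * x = 0 ∨ t * y = 0 := by
  obtain ⟨i, x, rfl⟩ := exists_stageTo A B K x
  obtain ⟨j, y, rfl⟩ := exists_stageTo A B K y
  obtain ⟨k₀, hik, hjk⟩ := exists_ge_ge i j
  rw [← stageTo_map A B K i k₀ hik, ← stageTo_map A B K j k₀ hjk, ← map_mul] at h
  rw [← stageTo_map A B K i k₀ hik, ← stageTo_map A B K j k₀ hjk]
  obtain ⟨k, hk, he⟩ := exists_stageMap_eq_zero A B K k₀ _ h
  rw [← stageTo_map A B K k₀ k hk, ← stageTo_map A B K k₀ k hk]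
  rw [map_mul] at he
  generalize stageMap A B K k₀ k hk (stageMap A B K i k₀ hik x) = X at he ⊢
  generalize stageMap A B K k₀ k hk (stageMap A B K j k₀ hjk y) = Y at he ⊢
  exact exists_annihilator_stage hB M k X Y he

end Groth.Agent.Branch14
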