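import Groth.Prelude.Def_CAlg2
import Groth.Agent.Lib.Branch14.Domain
import Groth.Agent.Lib.Hens.TensorBijective
import Groth.Agent.Lib.Hens.TensorAtPrime
import Groth.Agent.Lib.Hens.Transfer

/-!
# Minimal primes of an henselian algebra and maximal ideals of its normalisation
-/

open scoped TensorProduct

set_option backward.isDefEq.respectTransparency.types false

namespace Groth.Agent.Branch14

universe u

variable (A : Type u) [CommRing A]

theorem nilradical_le_of_prime (p : Ideal A) [hp : p.IsPrime] : nilradical A ≤ p := by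
  rw [nilradical_eq_sInf]
  exact sInf_le hp

theorem exists_mk_eq_of_mem_minimalPrimes {p : Ideal (CAlg2.red A)} (hp : p ∈ minimalPrimes (CAlg2.red A)) :
    p.comap (Ideal.Quotient.mk (nilradical A)) ∈ minimalPrimes A := by
  have := hp.1.1
  refine ⟨⟨inferInstance, bot_le⟩, fun q hq hle => ?_⟩
  have hq' : nilradical A ≤ q := @nilradical_le_of_prime A _ q hq.1
  have hker : RingHom.ker (Ideal.Quotient.mk (nilradical A)) ≤ q := by rwa [Ideal.mk_ker]
  have := hq.1
  have hprime : (q.map (Ideal.Quotient.mk (nilradical A))).IsPrime :=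
    Ideal.map_isPrime_of_surjective Ideal.Quotient.mk_surjective hker
  have h1 : q.map (Ideal.Quotient.mk (nilradical A)) ≤ p :=
    Ideal.map_le_iff_le_comap.2 hle
  have h2 := hp.2 ⟨hprime, bot_le⟩ h1
  intro x hx
  obtain ⟨y, hy, he⟩ := (Ideal.mem_map_iff_of_surjective _ Ideal.Quotient.mk_surjective).1 (h2 hx)
  have : x - y ∈ q := hq' (by rw [← Ideal.Quotient.eq]; exact he.symm)
  simpa using q.add_mem this hy

theorem finite_minimalPrimes_red (hfin : (minimalPrimes A).Finite) :
    (minimalPrimes (CAlg2.red A)).Finite :=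
  Set.Finite.of_finite_image (f := Ideal.comap (Ideal.Quotient.mk (nilradical A)))
    (hfin.subset (by rintro _ ⟨p, hp, rfl⟩; exact exists_mk_eq_of_mem_minimalPrimes A hp))
    fun p _ q _ h => Ideal.comap_injective_of_surjective _ Ideal.Quotient.mk_surjective h

instance : IsReduced (CAlg2.red A) :=
  (Ideal.isRadical_iff_quotient_reduced _).1 (Ideal.radical_isRadical _)

theorem algebraMap_normRed_eq (a : A) :
    algebraMap A (CAlg2.normRed A) a =
      algebraMap (CAlg2.red A) (CAlg2.normRed A) (Ideal.Quotient.mk (nilradical A) a) := rfl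

instance isIntegral_normRed : Algebra.IsIntegral A (CAlg2.normRed A) := by
  have : Algebra.IsIntegral A (CAlg2.red A) :=
    Algebra.IsIntegral.of_surjective (Algebra.ofId A (CAlg2.red A)) Ideal.Quotient.mk_surjective
  exact Algebra.IsIntegral.trans (CAlg2.red A)

/-- The local rings of the normalisation are normal domains. -/
theorem normRed_localization_normal (hfin : (minimalPrimes A).Finite) (q : Ideal (CAlg2.normRed A))
    [q.IsPrime] : IsDomain (Localization.AtPrime q) ∧ IsIntegrallyClosed (Localization.AtPrime q) :=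
  have := isArtinianRing_fractionRing (CAlg2.red A) (finite_minimalPrimes_red A hfin)
  localization_normal (CAlg2.red A) q

theorem mem_nonZeroDivisors_red_avoid {d : A}
    (hd : Ideal.Quotient.mk (nilradical A) d ∈ nonZeroDivisors (CAlg2.red A)) {p : Ideal A}
    (hp : p ∈ minimalPrimes A) : d ∉ p := by
  intro hdp
  have := hp.1.1
  have hker : RingHom.ker (Ideal.Quotient.mk (nilradical A)) ≤ p := by
    rw [Ideal.mk_ker]; exact nilradical_le_of_prime A p
  have hprime : (p.map (Ideal.Quotient.mk (nilradical A))).IsPrime :=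
    Ideal.map_isPrime_of_surjective Ideal.Quotient.mk_surjective hker
  have hmem : p.map (Ideal.Quotient.mk (nilradical A)) ∈ minimalPrimes (CAlg2.red A) := by
    refine ⟨⟨hprime, bot_le⟩, fun q hq hle => ?_⟩
    have := hq.1
    have h1 : q.comap (Ideal.Quotient.mk (nilradical A)) ≤ p := by
      refine (Ideal.comap_mono hle).trans ?_
      rw [Ideal.comap_map_of_surjective' _ Ideal.Quotient.mk_surjective]
      exact sup_le le_rfl hker
    exact Ideal.map_le_iff_le_comap.2 (hp.2 ⟨inferInstance, bot_le⟩ h1)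
  exact Set.disjoint_left.1 (Ideal.disjoint_nonZeroDivisors_of_mem_minimalPrimes hmem)
    (Ideal.mem_map_of_mem _ hdp) hd

/-- Common denominators in the normalisation. -/
theorem exists_normRed_denominator (b : CAlg2.normRed A) :
    ∃ d r : A, (∀ p ∈ minimalPrimes A, d ∉ p) ∧
      algebraMap A (CAlg2.normRed A) d * b = algebraMap A (CAlg2.normRed A) r := by
  obtain ⟨⟨r', d', hd'⟩, h⟩ :=
    IsLocalization.surj (nonZeroDivisors (CAlg2.red A)) (b : FractionRing (CAlg2.red A))
  obtain ⟨r, rfl⟩ := Ideal.Quotient.mk_surjective r'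
  obtain ⟨d, rfl⟩ := Ideal.Quotient.mk_surjective d'
  refine ⟨d, r, fun p hp => mem_nonZeroDivisors_red_avoid A hd' hp, Subtype.ext ?_⟩
  rw [algebraMap_normRed_eq, algebraMap_normRed_eq, mul_comm]
  exact h

/-- Minimal primes of the normalisation lie over minimal primes. -/
theorem comap_normRed_mem_minimalPrimes (hfin : (minimalPrimes A).Finite)
    (q : Ideal (CAlg2.normRed A)) (hq : q ∈ minimalPrimes (CAlg2.normRed A)) :
    q.comap (algebraMap A (CAlg2.normRed A)) ∈ minimalPrimes A := by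
  obtain ⟨Q, hQ, hQq⟩ := Ideal.exists_comap_eq_of_mem_minimalPrimes_of_injective
    (f := (integralClosure (CAlg2.red A) (FractionRing (CAlg2.red A))).val.toRingHom)
    Subtype.val_injective q hq
  have h := comap_mem_minimalPrimes (CAlg2.red A) (finite_minimalPrimes_red A hfin) Q
  have h2 := exists_mk_eq_of_mem_minimalPrimes A h
  rw [← hQq]
  exact h2

variable (S : Type u) [CommRing S] [Algebra A S]

/-- Common denominators in the tensor product. -/
theorem exists_tensor_denominator (x : CAlg2.normRed A ⊗[A] S) :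
    ∃ (d : A) (s : S), (∀ p ∈ minimalPrimes A, d ∉ p) ∧ d • x = 1 ⊗ₜ s := by
  induction x using TensorProduct.induction_on with
  | zero =>
    exact ⟨1, 0, fun p hp h => hp.1.1.ne_top ((Ideal.eq_top_iff_one p).2 h), by
      rw [smul_zero, TensorProduct.tmul_zero]⟩
  | tmul b t =>
    obtain ⟨d, r, hd, h⟩ := exists_normRed_denominator A b
    refine ⟨d, r • t, hd, ?_⟩
    rw [TensorProduct.smul_tmul', Algebra.smul_def, h, ← mul_one (algebraMap A _ r),
      ← Algebra.smul_def, TensorProduct.smul_tmul]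
  | add a b ha hb =>
    obtain ⟨d, s, hd, h⟩ := ha
    obtain ⟨d', s', hd', h'⟩ := hb
    refine ⟨d * d', d' • s + d • s',
      fun p hp h => (hp.1.1.mem_or_mem h).elim (hd p hp) (hd' p hp), ?_⟩
    rw [smul_add, mul_comm, mul_smul, h, mul_comm, mul_smul, h', TensorProduct.tmul_add,
      TensorProduct.tmul_smul, TensorProduct.tmul_smul]

/-- A prime over a minimal prime is determined by its trace. -/
theorem eq_of_comap_includeRight_eq (Q Q' : Ideal (CAlg2.normRed A ⊗[A] S)) [hQ : Q.IsPrime]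
    [hQ' : Q'.IsPrime]
    (hmin : Q.comap (algebraMap A (CAlg2.normRed A ⊗[A] S)) ∈ minimalPrimes A)
    (h : Q.comap (Algebra.TensorProduct.includeRight : S →ₐ[A] CAlg2.normRed A ⊗[A] S).toRingHom =
      Q'.comap (Algebra.TensorProduct.includeRight : S →ₐ[A] CAlg2.normRed A ⊗[A] S).toRingHom) :
    Q = Q' := by
  let inc : S →ₐ[A] CAlg2.normRed A ⊗[A] S := Algebra.TensorProduct.includeRight
  have hA : Q'.comap (algebraMap A (CAlg2.normRed A ⊗[A] S)) =
      Q.comap (algebraMap A (CAlg2.normRed A ⊗[A] S)) := by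
    rw [← inc.comp_algebraMap, ← Ideal.comap_comap, ← Ideal.comap_comap]
    exact congrArg _ h.symm
  have key : ∀ (P : Ideal (CAlg2.normRed A ⊗[A] S)), P.IsPrime →
      P.comap (algebraMap A (CAlg2.normRed A ⊗[A] S)) ∈ minimalPrimes A → ∀ x d s,
      (∀ p ∈ minimalPrimes A, d ∉ p) → d • x = inc s → (x ∈ P ↔ inc s ∈ P) := by
    intro P hP hPmin x d s hd hx
    rw [← hx, Algebra.smul_def]
    exact ⟨fun hxP => P.mul_mem_left _ hxP, fun hxP => (hP.mem_or_mem hxP).resolve_left (hd _ hPmin)⟩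
  ext x
  obtain ⟨d, s, hd, hx⟩ := exists_tensor_denominator A S x
  rw [key Q hQ hmin x d s hd hx, key Q' hQ' (hA ▸ hmin) x d s hd hx]
  exact SetLike.ext_iff.1 h s

omit [CommRing S] [Algebra A S] in
/-- A point at a minimal prime extends to the normalisation. -/
theorem exists_hom_normRed {κ : Type u} [Field κ] (φ : A →+* κ)
    (hmin : RingHom.ker φ ∈ minimalPrimes A) :
    ∃ g : CAlg2.normRed A →+* κ, ∀ a, g (algebraMap A (CAlg2.normRed A) a) = φ a := by
  have hn : nilradical A ≤ RingHom.ker φ := @nilradical_le_of_prime A _ _ (RingHom.ker_isPrime φ)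
  let g₁ : CAlg2.red A →+* κ := Ideal.Quotient.lift (nilradical A) φ fun a ha => hn ha
  have hu : ∀ y : nonZeroDivisors (CAlg2.red A), IsUnit (g₁ y) := by
    rintro ⟨y, hy⟩
    obtain ⟨d, rfl⟩ := Ideal.Quotient.mk_surjective y
    exact isUnit_iff_ne_zero.2 fun h => mem_nonZeroDivisors_red_avoid A hy hmin h
  let g₂ : FractionRing (CAlg2.red A) →+* κ :=
    IsLocalization.lift (M := nonZeroDivisors (CAlg2.red A)) hu
  exact ⟨g₂.comp (integralClosure (CAlg2.red A) (FractionRing (CAlg2.red A))).val.toRingHom,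
    fun a => IsLocalization.lift_eq hu (Ideal.Quotient.mk (nilradical A) a)⟩

/-- Every prime over a minimal prime lifts. -/
theorem exists_prime_comap_includeRight (P : Ideal S) [P.IsPrime]
    (hmin : P.comap (algebraMap A S) ∈ minimalPrimes A) :
    ∃ Q : Ideal (CAlg2.normRed A ⊗[A] S), Q.IsPrime ∧
      Q.comap (Algebra.TensorProduct.includeRight : S →ₐ[A] CAlg2.normRed A ⊗[A] S).toRingHom = P := by
  have hker : RingHom.ker (algebraMap A P.ResidueField) = P.comap (algebraMap A S) := by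
    ext a
    rw [RingHom.mem_ker, IsScalarTower.algebraMap_apply A S P.ResidueField,
      Ideal.algebraMap_residueField_eq_zero, Ideal.mem_comap]
  obtain ⟨g, hg⟩ := exists_hom_normRed A (algebraMap A P.ResidueField) (hker.symm ▸ hmin)
  let gB : CAlg2.normRed A →ₐ[A] P.ResidueField := { g with commutes' := hg }
  let θ : CAlg2.normRed A ⊗[A] S →ₐ[A] P.ResidueField :=
    Algebra.TensorProduct.lift gB (IsScalarTower.toAlgHom A S P.ResidueField)
      fun _ _ => Commute.all _ _
  refine ⟨RingHom.ker θ.toRingHom, RingHom.ker_isPrime _, Ideal.ext fun s => ?_⟩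
  show θ (1 ⊗ₜ s) = 0 ↔ s ∈ P
  rw [Algebra.TensorProduct.lift_tmul, map_one, one_mul]
  exact Ideal.algebraMap_residueField_eq_zero

variable [Module.Flat A S]

omit [CommRing S] [Algebra A S] in
theorem comap_mem_minimalPrimes_of_flat {R : Type u} [CommRing R] {T : Type u} [CommRing T]
    [Algebra R T] [Module.Flat R T] (Q : Ideal T) (hQ : Q ∈ minimalPrimes T) :
    Q.comap (algebraMap R T) ∈ minimalPrimes R := by
  have := hQ.1.1
  refine ⟨⟨inferInstance, bot_le⟩, fun q hq hle => ?_⟩
  have := hq.1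
  have : Q.LiesOver (Q.comap (algebraMap R T)) := ⟨rfl⟩
  obtain ⟨Q', hQ'le, hQ', hQ'q⟩ := Ideal.exists_ideal_le_liesOver_of_le Q hle
  rw [hQ'q.over]
  exact Ideal.comap_mono (hQ.2 ⟨hQ', bot_le⟩ hQ'le)

variable (hinc : ∀ P Q : Ideal S, P.IsPrime → Q.IsPrime → P ≤ Q →
  P.comap (algebraMap A S) = Q.comap (algebraMap A S) → P = Q)
include hinc

theorem mem_minimalPrimes_iff (P : Ideal S) [hP : P.IsPrime] :
    P ∈ minimalPrimes S ↔ P.comap (algebraMap A S) ∈ minimalPrimes A := by
  refine ⟨comap_mem_minimalPrimes_of_flat P, fun h => ⟨⟨hP, bot_le⟩, fun Q hQ hle => ?_⟩⟩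
  have := hQ.1
  exact (hinc Q P hQ.1 hP hle (le_antisymm (Ideal.comap_mono hle)
    (h.2 ⟨inferInstance, bot_le⟩ (Ideal.comap_mono hle)))).ge

variable (hfin : (minimalPrimes A).Finite)
include hfin

theorem mem_minimalPrimes_tensor_iff (Q : Ideal (CAlg2.normRed A ⊗[A] S)) [hQ : Q.IsPrime] :
    Q ∈ minimalPrimes (CAlg2.normRed A ⊗[A] S) ↔
      Q.comap (algebraMap A (CAlg2.normRed A ⊗[A] S)) ∈ minimalPrimes A := by
  constructor
  · intro h
    have h1 := comap_mem_minimalPrimes_of_flat (R := CAlg2.normRed A) (T := CAlg2.normRed A ⊗[A] S) Q h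
    have h2 := comap_normRed_mem_minimalPrimes A hfin _ h1
    rwa [Ideal.comap_comap, ← IsScalarTower.algebraMap_eq] at h2
  · intro h
    refine ⟨⟨hQ, bot_le⟩, fun Q' hQ' hle => ?_⟩
    have := hQ'.1
    have hA : Q'.comap (algebraMap A (CAlg2.normRed A ⊗[A] S)) ∈ minimalPrimes A :=
      (le_antisymm (Ideal.comap_mono hle) (h.2 ⟨inferInstance, bot_le⟩ (Ideal.comap_mono hle))) ▸ h
    refine (eq_of_comap_includeRight_eq A S Q' Q hA (hinc _ _ inferInstance inferInstance
      (Ideal.comap_mono hle) ?_)).ge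
    rw [Ideal.comap_comap, Ideal.comap_comap, AlgHom.toRingHom_eq_coe, AlgHom.comp_algebraMap]
    exact le_antisymm (Ideal.comap_mono hle) (h.2 ⟨inferInstance, bot_le⟩ (Ideal.comap_mono hle))

/-- Minimal primes of `S` and of `A' ⊗ S` correspond. -/
theorem bijOn_comap_includeRight :
    Set.BijOn (fun P : Ideal (CAlg2.normRed A ⊗[A] S) => P.comap
        (Algebra.TensorProduct.includeRight : S →ₐ[A] CAlg2.normRed A ⊗[A] S).toRingHom)
      (minimalPrimes (CAlg2.normRed A ⊗[A] S)) (minimalPrimes S) := by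
  have hc : ∀ Q : Ideal (CAlg2.normRed A ⊗[A] S), (Q.comap
      (Algebra.TensorProduct.includeRight : S →ₐ[A] CAlg2.normRed A ⊗[A] S).toRingHom).comap
      (algebraMap A S) = Q.comap (algebraMap A (CAlg2.normRed A ⊗[A] S)) := fun Q => by
    rw [Ideal.comap_comap, AlgHom.toRingHom_eq_coe, AlgHom.comp_algebraMap]
  refine ⟨fun Q hQ => ?_, fun Q hQ Q' hQ' h => ?_, fun P hP => ?_⟩
  · have := hQ.1.1
    refine (mem_minimalPrimes_iff A S hinc _).2 ?_
    rw [hc]
    exact (mem_minimalPrimes_tensor_iff A S hinc hfin Q).1 hQ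
  · have := hQ.1.1
    have := hQ'.1.1
    exact eq_of_comap_includeRight_eq A S Q Q'
      ((mem_minimalPrimes_tensor_iff A S hinc hfin Q).1 hQ) h
  · have := hP.1.1
    obtain ⟨Q, hQ, hQP⟩ := exists_prime_comap_includeRight A S P
      ((mem_minimalPrimes_iff A S hinc P).1 hP)
    refine ⟨Q, (mem_minimalPrimes_tensor_iff A S hinc hfin Q).2 ?_, hQP⟩
    rw [← hc, hQP]
    exact (mem_minimalPrimes_iff A S hinc P).1 hP

omit [Module.Flat A S] hinc hfin in
/-- Over a henselian ring, a prime of an integral algebra lies in only one maximal ideal. -/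
theorem existsUnique_maximal [HenselianLocalRing S] {T : Type u} [CommRing T] [Algebra S T]
    [Algebra.IsIntegral S T] (q : Ideal T) [hq : q.IsPrime] :
    ∃! m : Ideal T, m.IsMaximal ∧ q ≤ m := by
  obtain ⟨m, hm, hqm⟩ := q.exists_le_maximal hq.ne_top
  refine ⟨m, ⟨hm, hqm⟩, fun n ⟨hn, hqn⟩ => ?_⟩
  by_contra hne
  obtain ⟨e, he, hem, hen⟩ := Hens.exists_idempotent_separating (A := S) m n hm hn (Ne.symm hne)
  have h0 : e * (1 - e) ∈ q := by rw [mul_sub, mul_one, he.eq, sub_self]; exact zero_mem _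
  rcases hq.mem_or_mem h0 with h1 | h1
  · exact hen (hqn h1)
  · exact hm.ne_top ((Ideal.eq_top_iff_one m).2 (by simpa using m.add_mem hem (hqm h1)))

omit [Module.Flat A S] hinc hfin [CommRing S] [Algebra A S] in
/-- If the local ring is a domain, there is only one minimal prime below. -/
theorem existsUnique_minimal {T : Type u} [CommRing T] (m : Ideal T) [hm : m.IsPrime]
    (h : ∀ x y : T, x * y = 0 → ∃ t ∉ m, t * x = 0 ∨ t * y = 0) :
    ∃! q : Ideal T, q ∈ minimalPrimes T ∧ q ≤ m := by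
  obtain ⟨q, hq, hqm⟩ := Ideal.exists_minimalPrimes_le (I := ⊥) (J := m) bot_le
  refine ⟨q, ⟨hq, hqm⟩, fun q' ⟨hq', hq'm⟩ => ?_⟩
  -- elements killed outside `m`
  let N : Ideal T :=
    { carrier := {x | ∃ t ∉ m, t * x = 0}
      add_mem' := by
        rintro x y ⟨t, ht, htx⟩ ⟨t', ht', hty⟩
        exact ⟨t * t', fun h => (hm.mem_or_mem h).elim ht ht', by
          linear_combination t' * htx + t * hty⟩
      zero_mem' := ⟨1, fun h => hm.ne_top ((Ideal.eq_top_iff_one m).2 h), mul_zero _⟩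
      smul_mem' := by
        rintro c x ⟨t, ht, htx⟩
        exact ⟨t, ht, by rw [smul_eq_mul]; linear_combination c * htx⟩ }
  have hNle : ∀ P : Ideal T, P.IsPrime → P ≤ m → N ≤ P := by
    rintro P hP hPm x ⟨t, ht, htx⟩
    exact (hP.mem_or_mem (show t * x ∈ P by rw [htx]; exact zero_mem _)).resolve_left
      fun h => ht (hPm h)
  have hN : N.IsPrime := by
    refine ⟨fun htop => hq.1.1.ne_top (top_le_iff.1 (htop ▸ hNle q hq.1.1 hqm)), fun {x y} hxy => ?_⟩
    obtain ⟨t, ht, htxy⟩ := hxy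
    obtain ⟨s, hs, hor⟩ := h (t * x) y (by rw [mul_assoc]; exact htxy)
    rcases hor with h1 | h1
    · exact .inl ⟨s * t, fun h => (hm.mem_or_mem h).elim hs ht, by rw [mul_assoc]; exact h1⟩
    · exact .inr ⟨s, hs, h1⟩
  rw [le_antisymm (hq'.2 ⟨hN, bot_le⟩ (hNle q' hq'.1.1 hq'm)) (hNle q' hq'.1.1 hq'm),
    ← le_antisymm (hq.2 ⟨hN, bot_le⟩ (hNle q hq.1.1 hqm)) (hNle q hq.1.1 hqm)]

end Groth.Agent.Branch14
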