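import Groth.Prelude.Def_Brnch
import Groth.Prelude.Def_Hensel
import Groth.Agent.Lib.Branch14.Primes
import Groth.Agent.Lib.Hens.Henselization

/-!
# Counting branches by minimal primes of (strict) henselizations
-/

open scoped TensorProduct

set_option backward.isDefEq.respectTransparency.types false
set_option maxSynthPendingDepth 3

namespace Groth.Agent.Branch14

open IsLocalRing

universe u

variable (A : Type u) [CommRing A] [IsLocalRing A] (S : Type u) [CommRing S] [Algebra A S]

/-- What is needed of a henselian algebra to count minimal primes. -/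
structure Good : Prop where
  flat : Module.Flat A S
  inc : ∀ P Q : Ideal S, P.IsPrime → Q.IsPrime → P ≤ Q →
    P.comap (algebraMap A S) = Q.comap (algebraMap A S) → P = Q
  hens : HenselianLocalRing S
  dom : (minimalPrimes A).Finite → ∀ (M : Ideal (CAlg2.normRed A ⊗[A] S)), M.IsPrime →
    ∀ x y, x * y = 0 → ∃ t ∉ M, t * x = 0 ∨ t * y = 0

theorem good_hs (K : Type u) [Field K] [Algebra A K] : Good A (Hens.Hs A K) where
  flat := inferInstance
  inc P Q hP hQ hle h := @Hens.Hs.eq_of_le_of_under_eq A _ K _ _ P Q hP hQ hle h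
  hens := inferInstance
  dom hfin M hM x y h :=
    @exists_annihilator_tensor_hs A _ (CAlg2.normRed A) _ _ K _ _
      (fun p _ => normRed_localization_normal A hfin p) M hM x y h

variable {A S}

theorem Good.of_algEquiv {S' : Type u} [CommRing S'] [Algebra A S'] (e : S ≃ₐ[A] S') (h : Good A S) :
    Good A S' where
  flat := have := h.flat; Module.Flat.of_linearEquiv e.symm.toLinearEquiv
  inc P Q hP hQ hle heq := by
    have hc : ∀ P : Ideal S', (P.comap e.toAlgHom.toRingHom).comap (algebraMap A S) =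
        P.comap (algebraMap A S') := fun P => by
      rw [Ideal.comap_comap, AlgHom.toRingHom_eq_coe, AlgHom.comp_algebraMap]
    have := h.inc (P.comap e.toAlgHom.toRingHom) (Q.comap e.toAlgHom.toRingHom) inferInstance
      inferInstance (Ideal.comap_mono hle) (by rw [hc, hc, heq])
    exact Ideal.comap_injective_of_surjective e.toAlgHom.toRingHom e.surjective this
  hens := by
    have := h.hens
    have : IsLocalRing S' := e.toRingEquiv.isLocalRing
    refine { is_henselian := fun f hf a₀ h1 h2 => ?_ }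
    have hev : ∀ (g : Polynomial S') (x : S'),
        (g.map e.symm.toAlgHom.toRingHom).eval (e.symm x) = e.symm (g.eval x) := fun g x => by
      rw [Polynomial.eval_map]
      exact Polynomial.eval₂_at_apply e.symm.toAlgHom.toRingHom x
    have hmem : ∀ x : S', x ∈ maximalIdeal S' ↔ e.symm x ∈ maximalIdeal S := fun x => by
      simp [mem_maximalIdeal, mem_nonunits_iff]
    obtain ⟨a, ha, ha'⟩ := HenselianLocalRing.is_henselian (f.map e.symm.toAlgHom.toRingHom)
      (hf.map _) (e.symm a₀) (by rw [hev]; exact (hmem _).1 h1)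
      (by rw [Polynomial.derivative_map, hev]; exact h2.map _)
    refine ⟨e a, ?_, ?_⟩
    · have h3 := hev f (e a)
      rw [e.symm_apply_apply] at h3
      exact e.symm.injective ((h3.symm.trans ha).trans (map_zero _).symm)
    · rw [hmem, map_sub, e.symm_apply_apply]; exact ha'
  dom hfin M hM x y hxy := by
    let E : CAlg2.normRed A ⊗[A] S ≃ₐ[A] CAlg2.normRed A ⊗[A] S' :=
      Algebra.TensorProduct.congr AlgEquiv.refl e
    obtain ⟨t, ht, hor⟩ := h.dom hfin (M.comap E.toAlgHom.toRingHom) inferInstance (E.symm x) (E.symm y)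
      (by rw [← map_mul, hxy, map_zero])
    refine ⟨E t, ht, hor.imp (fun h => ?_) fun h => ?_⟩
    · simpa using congrArg E h
    · simpa using congrArg E h

variable (A S)

theorem good_strictHenselization [IsLocalRing S] [IsLocalHom (algebraMap A S)]
    [Hensel.IsStrictHenselization A S] : Good A S :=
  let ⟨e⟩ := Hens.exists_strictHenselization_equiv A S
  (good_hs A _).of_algEquiv e

theorem good_henselization [IsLocalRing S] [IsLocalHom (algebraMap A S)]
    [Hensel.IsHenselization A S] : Good A S :=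
  let ⟨e⟩ := Hens.exists_henselization_equiv A S
  (good_hs A _).of_algEquiv e

variable {A S}

theorem Good.isMaximal_of_comap (M : Ideal (CAlg2.normRed A ⊗[A] S)) [M.IsPrime]
    (h : (M.comap (Algebra.TensorProduct.includeRight :
      S →ₐ[A] CAlg2.normRed A ⊗[A] S).toRingHom).IsMaximal) : M.IsMaximal := by
  let _ : Algebra S (CAlg2.normRed A ⊗[A] S) :=
    (Algebra.TensorProduct.includeRight : S →ₐ[A] CAlg2.normRed A ⊗[A] S).toRingHom.toAlgebra
  have : Algebra.IsIntegral S (CAlg2.normRed A ⊗[A] S) :=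
    ⟨Hens.isIntegral_includeRight A (CAlg2.normRed A) S⟩
  exact Ideal.isMaximal_of_isIntegral_of_isMaximal_comap M h

theorem Good.comap_eq_maximalIdeal (hg : Good A S) [IsLocalRing S]
    (M : Ideal (CAlg2.normRed A ⊗[A] S)) [M.IsMaximal] :
    M.comap (Algebra.TensorProduct.includeRight : S →ₐ[A] CAlg2.normRed A ⊗[A] S).toRingHom =
      maximalIdeal S := by
  let _ : Algebra S (CAlg2.normRed A ⊗[A] S) :=
    (Algebra.TensorProduct.includeRight : S →ₐ[A] CAlg2.normRed A ⊗[A] S).toRingHom.toAlgebra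
  have : Algebra.IsIntegral S (CAlg2.normRed A ⊗[A] S) :=
    ⟨Hens.isIntegral_includeRight A (CAlg2.normRed A) S⟩
  exact eq_maximalIdeal (Ideal.isMaximal_comap_of_isIntegral_of_isMaximal (R := S) M)

/-- Each minimal prime of `A' ⊗ S` is in exactly one maximal ideal. -/
theorem Good.existsUnique_maximal (hg : Good A S) (q : Ideal (CAlg2.normRed A ⊗[A] S))
    [q.IsPrime] : ∃! m : Ideal (CAlg2.normRed A ⊗[A] S), m.IsMaximal ∧ q ≤ m := by
  have := hg.hens
  let _ : Algebra S (CAlg2.normRed A ⊗[A] S) :=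
    (Algebra.TensorProduct.includeRight : S →ₐ[A] CAlg2.normRed A ⊗[A] S).toRingHom.toAlgebra
  have : Algebra.IsIntegral S (CAlg2.normRed A ⊗[A] S) :=
    ⟨Hens.isIntegral_includeRight A (CAlg2.normRed A) S⟩
  exact Branch14.existsUnique_maximal S q

/-- Each maximal ideal of `A' ⊗ S` contains exactly one minimal prime. -/
theorem Good.existsUnique_minimal (hg : Good A S) (hfin : (minimalPrimes A).Finite)
    (m : Ideal (CAlg2.normRed A ⊗[A] S)) [hm : m.IsPrime] :
    ∃! q : Ideal (CAlg2.normRed A ⊗[A] S),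
      q ∈ minimalPrimes (CAlg2.normRed A ⊗[A] S) ∧ q ≤ m :=
  Branch14.existsUnique_minimal m (hg.dom hfin m hm)

/-- Minimal primes of `S` correspond to maximal ideals of `A' ⊗ S`. -/
theorem Good.nonempty_equiv (hg : Good A S) (hfin : (minimalPrimes A).Finite) :
    Nonempty (minimalPrimes S ≃ MaximalSpectrum (CAlg2.normRed A ⊗[A] S)) := by
  have := hg.flat
  let e₁ := (bijOn_comap_includeRight A S hg.inc hfin).equiv
  have h1 : ∀ q : minimalPrimes (CAlg2.normRed A ⊗[A] S), ∃! m : Ideal (CAlg2.normRed A ⊗[A] S),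
      m.IsMaximal ∧ q.1 ≤ m := fun q => by
    have := q.2.1.1
    exact hg.existsUnique_maximal q.1
  choose m hm hmu using h1
  let f : minimalPrimes (CAlg2.normRed A ⊗[A] S) → MaximalSpectrum (CAlg2.normRed A ⊗[A] S) :=
    fun q => ⟨m q, (hm q).1⟩
  refine ⟨e₁.symm.trans (Equiv.ofBijective f ⟨fun q q' h => ?_, fun M => ?_⟩)⟩
  · have hh : m q = m q' := congrArg MaximalSpectrum.asIdeal h
    have := (hm q).1.isPrime
    exact Subtype.ext ((hg.existsUnique_minimal hfin (m q)).unique ⟨q.2, (hm q).2⟩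
      ⟨q'.2, hh.symm ▸ (hm q').2⟩)
  · have := M.isMaximal.isPrime
    obtain ⟨q, ⟨hq, hle⟩, -⟩ := hg.existsUnique_minimal hfin M.asIdeal
    exact ⟨⟨q, hq⟩, MaximalSpectrum.ext (hmu ⟨q, hq⟩ M.asIdeal ⟨M.isMaximal, hle⟩).symm⟩

/-- Infinitely many minimal primes upstairs. -/
theorem Good.card_eq_top (hg : Good A S) [IsLocalRing S] [IsLocalHom (algebraMap A S)]
    (hfin : ¬ (minimalPrimes A).Finite) : ENat.card (minimalPrimes S) = ⊤ := by
  have := hg.flat
  have := Module.FaithfullyFlat.of_flat_of_isLocalHom (A := A) (B := S)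
  rw [ENat.card_eq_top]
  by_contra hnot
  rw [not_infinite_iff_finite] at hnot
  refine hfin (Set.Finite.subset (Set.finite_range
    fun P : minimalPrimes S => P.1.comap (algebraMap A S)) fun p hp => ?_)
  obtain ⟨P, hP⟩ := PrimeSpectrum.comap_surjective_of_faithfullyFlat (A := A) (B := S) ⟨p, hp.1.1⟩
  obtain ⟨P', hP', hle⟩ := Ideal.exists_minimalPrimes_le (I := ⊥) (J := P.asIdeal) bot_le
  refine ⟨⟨P', hP'⟩, ?_⟩
  have h1 : P.asIdeal.comap (algebraMap A S) = p := congrArg PrimeSpectrum.asIdeal hP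
  have := hP'.1.1
  exact le_antisymm ((Ideal.comap_mono hle).trans h1.le)
    (hp.2 ⟨inferInstance, bot_le⟩ ((Ideal.comap_mono hle).trans h1.le))

omit [IsLocalRing A] [CommRing S] [Algebra A S] in
/-- Extending a point along an integral map, with prescribed kernel. -/
theorem exists_point {R T Ω : Type u} [CommRing R] [CommRing T] [Field Ω] [IsAlgClosed Ω]
    (iR : R →+* T) (hint : iR.IsIntegral) (M : Ideal T) [M.IsMaximal] (k : R →+* Ω)
    (hk : RingHom.ker k = M.comap iR) : ∃ θ : T →+* Ω, RingHom.ker θ = M ∧ θ.comp iR = k := by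
  let _ := Ideal.Quotient.field M
  let n := M.comap iR
  let _ : Algebra R T := iR.toAlgebra
  have : Algebra.IsIntegral R T := ⟨hint⟩
  have : n.IsMaximal := Ideal.isMaximal_comap_of_isIntegral_of_isMaximal (R := R) M
  let _ := Ideal.Quotient.field n
  let kn : R ⧸ n →+* Ω := Ideal.Quotient.lift n k fun x hx => hk.ge hx
  let jn : R ⧸ n →+* T ⧸ M := Ideal.quotientMap M iR le_rfl
  let _ : Algebra (R ⧸ n) Ω := kn.toAlgebra
  let _ : Algebra (R ⧸ n) (T ⧸ M) := jn.toAlgebra
  have : Algebra.IsIntegral (R ⧸ n) (T ⧸ M) := ⟨fun z => by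
    obtain ⟨z, rfl⟩ := Ideal.Quotient.mk_surjective z
    obtain ⟨P, hP, hPz⟩ := hint z
    refine ⟨P.map (Ideal.Quotient.mk n), hP.map _, ?_⟩
    rw [Polynomial.eval₂_map,
      show (algebraMap (R ⧸ n) (T ⧸ M)).comp (Ideal.Quotient.mk n) =
        (Ideal.Quotient.mk M).comp iR from rfl,
      ← Polynomial.hom_eval₂, hPz, map_zero]⟩
  have : Algebra.IsAlgebraic (R ⧸ n) (T ⧸ M) := inferInstance
  let σ : T ⧸ M →ₐ[R ⧸ n] Ω := IsAlgClosed.lift
  refine ⟨σ.toRingHom.comp (Ideal.Quotient.mk M), ?_, RingHom.ext fun r =>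
    σ.commutes (Ideal.Quotient.mk n r)⟩
  ext x
  show σ (Ideal.Quotient.mk M x) = 0 ↔ _
  rw [map_eq_zero, Ideal.Quotient.eq_zero_iff_mem]

variable (A S) [IsLocalRing S] [IsLocalHom (algebraMap A S)]

/-- Maximal ideals of `A' ⊗ A^sh`: pairs of a maximal ideal and an embedding. -/
theorem nonempty_maximalSpectrum_equiv_emb [Hensel.IsStrictHenselization A S] :
    Nonempty ((Σ m' : MaximalSpectrum (CAlg2.normRed A), Brnch.Emb A m') ≃
      MaximalSpectrum (CAlg2.normRed A ⊗[A] S)) := by
  have hg := good_strictHenselization A S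
  let κ := ResidueField A
  let L := ResidueField S
  let Ω := AlgebraicClosure κ
  have hsc : IsSepClosure κ L := Hensel.IsStrictHenselization.isSepClosure
  have : Algebra.IsSeparable κ L := hsc.separable
  have : IsSepClosed L := hsc.sep_closed
  let ι : L →ₐ[κ] Ω := IsAlgClosed.lift
  let k : S →ₐ[A] Ω := (ι.restrictScalars A).comp (IsScalarTower.toAlgHom A S L)
  have hk : ∀ s, k s = 0 ↔ s ∈ maximalIdeal S := fun s => by
    show ι (residue S s) = 0 ↔ _
    rw [map_eq_zero, residue_eq_zero_iff]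
  let _ : Algebra L Ω := ι.toRingHom.toAlgebra
  have : IsScalarTower κ L Ω := IsScalarTower.of_algebraMap_eq fun x => (ι.commutes x).symm
  have : Algebra.IsAlgebraic L Ω := Algebra.IsAlgebraic.tower_top (K := κ) L
  have hins : IsPurelyInseparable L Ω := inferInstance
  let f : (Σ m' : MaximalSpectrum (CAlg2.normRed A), Brnch.Emb A m') →
      (CAlg2.normRed A ⊗[A] S →ₐ[A] Ω) := fun p =>
    Algebra.TensorProduct.lift
      { p.2.1.comp (Ideal.Quotient.mk p.1.asIdeal) with
        commutes' := fun a => congr($(p.2.2) a) } k fun _ _ => Commute.all _ _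
  have hfR : ∀ p s, f p (1 ⊗ₜ s) = k s := fun p s => by
    rw [Algebra.TensorProduct.lift_tmul, map_one, one_mul]
  have hfL : ∀ p b, f p (b ⊗ₜ 1) = p.2.1 (Ideal.Quotient.mk p.1.asIdeal b) := fun p b => by
    rw [Algebra.TensorProduct.lift_tmul, map_one, mul_one]
    rfl
  let g : (Σ m' : MaximalSpectrum (CAlg2.normRed A), Brnch.Emb A m') →
      MaximalSpectrum (CAlg2.normRed A ⊗[A] S) := fun p =>
    ⟨RingHom.ker (f p).toRingHom, by
      have := RingHom.ker_isPrime (f p).toRingHom
      refine Good.isMaximal_of_comap _ ?_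
      rw [show (RingHom.ker (f p).toRingHom).comap (Algebra.TensorProduct.includeRight :
          S →ₐ[A] CAlg2.normRed A ⊗[A] S).toRingHom = maximalIdeal S from
        Ideal.ext fun s => by
          show f p (1 ⊗ₜ s) = 0 ↔ _
          rw [hfR, hk]]
      exact maximalIdeal.isMaximal S⟩
  refine ⟨Equiv.ofBijective g ⟨fun p p' h => ?_, fun M => ?_⟩⟩
  · have hker : ∀ x, f p x = 0 ↔ f p' x = 0 :=
      fun x => SetLike.ext_iff.1 (congrArg MaximalSpectrum.asIdeal h) x
    obtain ⟨q, hq⟩ : ∃ q, ExpChar L q := ExpChar.exists L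
    have : ExpChar Ω q := expChar_of_injective_ringHom ι.toRingHom.injective q
    have hfun : f p = f p' := AlgHom.ext fun x => by
      obtain ⟨n, l, hl⟩ := IsPurelyInseparable.pow_mem L q (f p x)
      obtain ⟨s, rfl⟩ := residue_surjective l
      have h1 : f p (x ^ q ^ n - 1 ⊗ₜ s) = 0 := by
        rw [map_sub, map_pow, hfR, sub_eq_zero, ← hl]
        rfl
      have h2 := (hker _).1 h1
      rw [map_sub, map_pow, hfR, sub_eq_zero] at h2
      rw [map_sub, map_pow, hfR, sub_eq_zero] at h1
      exact iterateFrobenius_inj Ω q n (by rw [iterateFrobenius_def, iterateFrobenius_def, h1, h2])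
    obtain ⟨m, σ, hσ⟩ := p
    obtain ⟨m', σ', hσ'⟩ := p'
    have he : ∀ b, σ (Ideal.Quotient.mk m.asIdeal b) = σ' (Ideal.Quotient.mk m'.asIdeal b) :=
      fun b => by
        have := congr($hfun (b ⊗ₜ 1))
        rwa [hfL, hfL] at this
    obtain rfl : m = m' := MaximalSpectrum.ext (Ideal.ext fun b => by
      have := m.isMaximal
      have := m'.isMaximal
      let _ := Ideal.Quotient.field m.asIdeal
      let _ := Ideal.Quotient.field m'.asIdeal
      rw [← Ideal.Quotient.eq_zero_iff_mem, ← Ideal.Quotient.eq_zero_iff_mem,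
        ← map_eq_zero σ, ← map_eq_zero σ', he])
    obtain rfl : σ = σ' := Ideal.Quotient.ringHom_ext (RingHom.ext he)
    rfl
  · have := M.isMaximal
    have hkk : RingHom.ker k.toRingHom = M.asIdeal.comap (Algebra.TensorProduct.includeRight :
        S →ₐ[A] CAlg2.normRed A ⊗[A] S).toRingHom := by
      rw [hg.comap_eq_maximalIdeal M.asIdeal]
      exact Ideal.ext hk
    obtain ⟨θ, hθM, hθk⟩ := exists_point _
      (Hens.isIntegral_includeRight A (CAlg2.normRed A) S) M.asIdeal k.toRingHom hkk
    let ψ : CAlg2.normRed A →+* Ω := θ.comp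
      (Algebra.TensorProduct.includeLeft : CAlg2.normRed A →ₐ[A] CAlg2.normRed A ⊗[A] S).toRingHom
    have hψ : ∀ a, ψ (algebraMap A _ a) = algebraMap A Ω a := fun a => by
      show θ (algebraMap A _ a ⊗ₜ 1) = _
      rw [Algebra.algebraMap_eq_smul_one a, TensorProduct.smul_tmul, ← Algebra.algebraMap_eq_smul_one,
        ← k.commutes a]
      exact RingHom.congr_fun hθk (algebraMap A S a)
    let m : Ideal (CAlg2.normRed A) := RingHom.ker ψ
    have hm : m.IsMaximal := by
      have := RingHom.ker_isPrime ψ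
      refine Ideal.isMaximal_of_isIntegral_of_isMaximal_comap (R := A) m ?_
      have hc : m.comap (algebraMap A (CAlg2.normRed A)) = maximalIdeal A := Ideal.ext fun a => by
        show ψ (algebraMap A _ a) = 0 ↔ _
        rw [hψ, IsScalarTower.algebraMap_apply A κ Ω, map_eq_zero]
        exact residue_eq_zero_iff a
      rw [hc]
      exact maximalIdeal.isMaximal A
    let σ : CAlg2.normRed A ⧸ m →+* Ω := RingHom.kerLift ψ
    let p : Σ m' : MaximalSpectrum (CAlg2.normRed A), Brnch.Emb A m' :=
      ⟨⟨m, hm⟩, σ, RingHom.ext fun a => (hψ a).trans rfl⟩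
    refine ⟨p, MaximalSpectrum.ext ?_⟩
    have key : (f p).toRingHom = θ := RingHom.ext fun x => by
      induction x using TensorProduct.induction_on with
      | zero => rw [map_zero, map_zero]
      | add a b ha hb => rw [map_add, map_add, ha, hb]
      | tmul b s =>
        rw [show b ⊗ₜ[A] s = b ⊗ₜ[A] (1 : S) * (1 : CAlg2.normRed A) ⊗ₜ[A] s by
          rw [Algebra.TensorProduct.tmul_mul_tmul, mul_one, one_mul], map_mul, map_mul]
        exact congrArg₂ (· * ·) (hfL p b) ((hfR p s).trans (RingHom.congr_fun hθk s).symm)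
    show RingHom.ker (f p).toRingHom = M.asIdeal
    rw [key, hθM]

/-- Maximal ideals of `A' ⊗ A^h` are those of `A'`. -/
theorem nonempty_maximalSpectrum_equiv [Hensel.IsHenselization A S] :
    Nonempty (MaximalSpectrum (CAlg2.normRed A) ≃
      MaximalSpectrum (CAlg2.normRed A ⊗[A] S)) := by
  have hg := good_henselization A S
  let incL : CAlg2.normRed A →ₐ[A] CAlg2.normRed A ⊗[A] S := Algebra.TensorProduct.includeLeft
  have hdec : ∀ x, ∃ b, ∀ M : MaximalSpectrum (CAlg2.normRed A ⊗[A] S),
      x - incL b ∈ M.asIdeal := fun x => by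
    induction x using TensorProduct.induction_on with
    | zero => exact ⟨0, fun M => by rw [map_zero, sub_self]; exact zero_mem _⟩
    | add a b ha hb =>
      obtain ⟨u, hu⟩ := ha
      obtain ⟨v, hv⟩ := hb
      exact ⟨u + v, fun M => by rw [map_add, add_sub_add_comm]; exact add_mem (hu M) (hv M)⟩
    | tmul b s =>
      obtain ⟨a, ha⟩ := Hens.henselization_exists_sub_mem A S s
      refine ⟨a • b, fun M => ?_⟩
      have := M.isMaximal
      rw [← hg.comap_eq_maximalIdeal M.asIdeal] at ha
      have := M.asIdeal.mul_mem_left (b ⊗ₜ 1) ha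
      convert this using 1
      show b ⊗ₜ s - (a • b) ⊗ₜ 1 = b ⊗ₜ 1 * (1 ⊗ₜ (s - algebraMap A S a))
      rw [Algebra.TensorProduct.tmul_mul_tmul, mul_one, one_mul, TensorProduct.tmul_sub,
        Algebra.algebraMap_eq_smul_one, TensorProduct.smul_tmul]
  let g : MaximalSpectrum (CAlg2.normRed A ⊗[A] S) → MaximalSpectrum (CAlg2.normRed A) :=
    fun M => ⟨M.asIdeal.comap incL.toRingHom, by
      have := M.isMaximal
      refine Ideal.isMaximal_of_isIntegral_of_isMaximal_comap (R := A) _ ?_
      have hc : (M.asIdeal.comap incL.toRingHom).comap (algebraMap A (CAlg2.normRed A)) =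
          maximalIdeal A := by
        rw [Ideal.comap_comap, AlgHom.toRingHom_eq_coe, incL.comp_algebraMap,
          ← (Algebra.TensorProduct.includeRight :
            S →ₐ[A] CAlg2.normRed A ⊗[A] S).comp_algebraMap, ← Ideal.comap_comap]
        exact (congrArg _ (hg.comap_eq_maximalIdeal M.asIdeal)).trans (maximalIdeal_comap (algebraMap A S))
      rw [hc]
      exact maximalIdeal.isMaximal A⟩
  refine ⟨(Equiv.ofBijective g ⟨fun M M' h => ?_, fun m => ?_⟩).symm⟩
  · have hh : ∀ b, incL b ∈ M.asIdeal ↔ incL b ∈ M'.asIdeal := fun b =>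
      SetLike.ext_iff.1 (congrArg MaximalSpectrum.asIdeal h) b
    refine MaximalSpectrum.ext (Ideal.ext fun x => ?_)
    obtain ⟨b, hb⟩ := hdec x
    constructor <;> intro hx
    · simpa using add_mem (hb M') ((hh b).1 (by simpa using sub_mem hx (hb M)))
    · simpa using add_mem (hb M) ((hh b).2 (by simpa using sub_mem hx (hb M')))
  · have := m.isMaximal
    let _ := Ideal.Quotient.field m.asIdeal
    have hma : ∀ a ∈ maximalIdeal A, algebraMap A (CAlg2.normRed A ⧸ m.asIdeal) a = 0 := fun a ha => by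
      have hc : m.asIdeal.comap (algebraMap A (CAlg2.normRed A)) = maximalIdeal A :=
        eq_maximalIdeal (Ideal.isMaximal_comap_of_isIntegral_of_isMaximal (R := A) m.asIdeal)
      exact Ideal.Quotient.eq_zero_iff_mem.2 (hc.ge ha)
    let φ : ResidueField A →+* CAlg2.normRed A ⧸ m.asIdeal := Ideal.Quotient.lift _ _ hma
    let e := RingEquiv.ofBijective _ (Hens.henselization_residueField_bijective A S)
    let k : S →ₐ[A] CAlg2.normRed A ⧸ m.asIdeal :=
      { φ.comp (e.symm.toRingHom.comp (residue S)) with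
        commutes' := fun a => by
          show φ (e.symm (residue S (algebraMap A S a))) = _
          rw [show residue S (algebraMap A S a) = e (residue A a) from
            (ResidueField.map_residue _ _).symm, e.symm_apply_apply]
          rfl }
    let θ : CAlg2.normRed A ⊗[A] S →ₐ[A] CAlg2.normRed A ⧸ m.asIdeal :=
      Algebra.TensorProduct.lift (Ideal.Quotient.mkₐ A m.asIdeal) k fun _ _ => Commute.all _ _
    have hθ : ∀ b, θ (incL b) = Ideal.Quotient.mk m.asIdeal b := fun b => by
      show θ (b ⊗ₜ 1) = _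
      rw [Algebra.TensorProduct.lift_tmul, map_one, mul_one]
      rfl
    refine ⟨⟨RingHom.ker θ.toRingHom, RingHom.ker_isMaximal_of_surjective _ fun z => ?_⟩,
      MaximalSpectrum.ext (Ideal.ext fun b => ?_)⟩
    · obtain ⟨b, rfl⟩ := Ideal.Quotient.mk_surjective z
      exact ⟨incL b, hθ b⟩
    · show θ (incL b) = 0 ↔ _
      rw [hθ, Ideal.Quotient.eq_zero_iff_mem]

end Groth.Agent.Branch14
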