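import Groth.Agent.Lib.Branch14.Components
import Groth.Agent.Lib.AlgSpEt14.Branches
import Groth.Agent.Lib.AlgSpDecent.Basic

/-!
# Geometric branches of a scheme read on its etale neighbourhoods
-/

universe u

set_option backward.isDefEq.respectTransparency.types false
set_option backward.isDefEq.respectTransparency false

open CategoryTheory CategoryTheory.Limits AlgebraicGeometry AlgSp

namespace Groth.Agent.Branch14

open Groth.Agent.StalkHens14

variable {X U : Scheme.{u}}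

theorem exists_pt (g : U ⟶ X) [Etale g] (u : U) :
    ∃ (p : FieldPt ((yon X).obj (Over.mk (𝟙 X)))), p.IsGeometric ∧
      ∀ {V : Scheme.{u}} (h : V ⟶ X), Etale h → ∀ v : V, h v = g u →
        Points.ofPt ((yon X).map (Over.homMk h (by simp) : Over.mk h ⟶ Over.mk (𝟙 X))) v
          = Points.mk p := by
  obtain ⟨p, hp, hpx⟩ := exists_geometric_mk (IsAlgSpace.yon_obj (Over.mk (𝟙 X)))
    (Points.ofScheme (Over.mk (𝟙 X)) (g u))
  refine ⟨p, hp, fun {V} h _ v hv => ?_⟩
  rw [hpx, AlgSpDecent.ofPt_map_eq]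
  exact congrArg (Points.ofScheme (Over.mk (𝟙 X))) hv

theorem repWith_map (h : U ⟶ X) [Etale h] :
    RepWith @Etale ((yon X).map (Over.homMk h (by simp) : Over.mk h ⟶ Over.mk (𝟙 X))) :=
  (repWith_yon_map_iff _ _).2 (show Etale h from inferInstance)

theorem numGeomBranchesAt_of_etale (g : U ⟶ X) [Etale g] (u : U) :
    Brnch.numGeomBranchesAt U u = Brnch.numGeomBranchesAt X (g u) := by
  obtain ⟨p, hp, hpt⟩ := exists_pt g u
  have h1 := encard_minimalPrimes_OEtStalk (IsAlgSpace.yon_obj (Over.mk (𝟙 X))) p hp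
    _ (repWith_map g) u (hpt g inferInstance u rfl)
  have h2 := encard_minimalPrimes_OEtStalk (IsAlgSpace.yon_obj (Over.mk (𝟙 X))) p hp
    _ (repWith_map (𝟙 X)) (g u) (hpt (𝟙 X) inferInstance (g u) rfl)
  exact h1.symm.trans h2

theorem encard_components_le (g : U ⟶ X) [Etale g] (u : U) :
    {Z : Set ↑U | Z ∈ irreducibleComponents ↑U ∧ u ∈ Z}.encard ≤
      Brnch.numGeomBranchesAt X (g u) := by
  obtain ⟨p, hp, hpt⟩ := exists_pt g u
  have h1 := encard_minimalPrimes_le (IsAlgSpace.yon_obj (Over.mk (𝟙 X))) p hp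
    _ (repWith_map g) u (hpt g inferInstance u rfl)
  have h2 := encard_minimalPrimes_OEtStalk (IsAlgSpace.yon_obj (Over.mk (𝟙 X))) p hp
    _ (repWith_map (𝟙 X)) (g u) (hpt (𝟙 X) inferInstance (g u) rfl)
  rw [← encard_minimalPrimes_stalk U u]
  exact h1.trans h2.le

theorem exists_etale_nbhd_encard_ge (x : X) (n : ℕ) (hn : (n : ℕ∞) ≤ Brnch.numGeomBranchesAt X x) :
    ∃ (U : Scheme.{u}) (g : U ⟶ X) (u : U), Etale g ∧ g u = x ∧
      (n : ℕ∞) ≤ {Z : Set ↑U | Z ∈ irreducibleComponents ↑U ∧ u ∈ Z}.encard := by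
  obtain ⟨p, hp, hpt⟩ := exists_pt (𝟙 X) x
  have h2 := encard_minimalPrimes_OEtStalk (IsAlgSpace.yon_obj (Over.mk (𝟙 X))) p hp
    _ (repWith_map (𝟙 X)) x (hpt (𝟙 X) inferInstance x rfl)
  obtain ⟨V, a, v, ha, hv, hnv⟩ := exists_chart_encard_ge (IsAlgSpace.yon_obj (Over.mk (𝟙 X))) p hp n
    (hn.trans h2.ge)
  obtain ⟨t, rfl⟩ := (yon X).map_surjective a
  refine ⟨V.left, t.left, v, (repWith_yon_map_iff _ _).1 ha, ?_, ?_⟩
  · rw [AlgSpDecent.ofPt_map_eq, ← hpt (𝟙 X) inferInstance x rfl,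
      AlgSpDecent.ofPt_map_eq] at hv
    exact (Points.schemeEquiv (Over.mk (𝟙 X))).injective hv
  · rw [← encard_minimalPrimes_stalk V.left v]
    exact hnv

theorem numGeomBranchesAt_eq_iSup (X : Scheme.{u}) (x : X) :
    Brnch.numGeomBranchesAt X x = ⨆ (U : Scheme.{u}) (g : U ⟶ X) (u : U) (_ : Etale g ∧ g u = x),
      {Z : Set ↑U | Z ∈ irreducibleComponents ↑U ∧ u ∈ Z}.encard := by
  refine le_antisymm ?_ (iSup_le fun U => iSup_le fun g => iSup_le fun u => iSup_le fun h => ?_)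
  · refine ENat.forall_natCast_le_iff_le.1 fun n hn => ?_
    obtain ⟨U, g, u, hg, hu, h⟩ := exists_etale_nbhd_encard_ge x n hn
    exact le_iSup_of_le U (le_iSup_of_le g (le_iSup_of_le u (le_iSup_of_le ⟨hg, hu⟩ h)))
  · have := h.1
    rw [← h.2]
    exact encard_components_le g u

theorem one_le_encard_components (X : Scheme.{u}) (x : X) :
    1 ≤ {Z : Set ↑X | Z ∈ irreducibleComponents ↑X ∧ x ∈ Z}.encard :=
  Set.one_le_encard_iff_nonempty.2
    ⟨_, irreducibleComponent_mem_irreducibleComponents x, mem_irreducibleComponent⟩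

theorem isGeomUnibranch_stalk_iff (X : Scheme.{u}) (x : X) :
    CAlg2.IsGeomUnibranch ↑(X.presheaf.stalk x) ↔ ∀ (U : Scheme.{u}) (g : U ⟶ X) (u : U), Etale g → g u = x →
      {Z : Set ↑U | Z ∈ irreducibleComponents ↑U ∧ u ∈ Z}.encard = 1 := by
  rw [← numGeomBranches_eq_one_iff]
  change Brnch.numGeomBranchesAt X x = 1 ↔ _
  constructor
  · intro h U g u hg hu
    subst hu
    exact le_antisymm ((encard_components_le g u).trans h.le) (one_le_encard_components U u)
  · intro h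
    rw [numGeomBranchesAt_eq_iSup]
    refine le_antisymm (iSup_le fun U => iSup_le fun g => iSup_le fun u => iSup_le fun hh =>
      (h U g u hh.1 hh.2).le) ?_
    exact le_iSup_of_le X (le_iSup_of_le (𝟙 X) (le_iSup_of_le x
      (le_iSup_of_le ⟨inferInstance, rfl⟩ (one_le_encard_components X x))))

end Groth.Agent.Branch14
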