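import Groth.Agent.Lib.Branch14.FibreRing
import Groth.Agent.Lib.EGA43Top.FibreStalk
import Groth.Agent.Lib.Weight4.Mult

/-!
# Branches of fibres read on etale neighbourhoods of the total space
-/

universe u

set_option backward.isDefEq.respectTransparency.types false
set_option maxSynthPendingDepth 3

open AlgebraicGeometry CategoryTheory IsLocalRing

namespace Groth.Agent.Branch14

open Groth.Agent.Hens Groth.Agent.StalkHens14

variable {X S : Scheme.{u}}

/-- The ideal of the fibre in the local ring of the total space. -/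
noncomputable def fibreIdeal (f : X ⟶ S) (x : X) : Ideal (X.presheaf.stalk x) :=
  (maximalIdeal (S.presheaf.stalk (f x))).map (f.stalkMap x).hom

theorem fibreIdeal_le (f : X ⟶ S) (x : X) : fibreIdeal f x ≤ maximalIdeal _ :=
  ((local_hom_TFAE (f.stalkMap x).hom).out 0 2 rfl rfl).mp inferInstance

instance isLocalRing_quotient_fibreIdeal (f : X ⟶ S) (x : X) :
    IsLocalRing (X.presheaf.stalk x ⧸ fibreIdeal f x) :=
  have : Nontrivial (X.presheaf.stalk x ⧸ fibreIdeal f x) :=
    Ideal.Quotient.nontrivial_iff.2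
      (ne_top_of_le_ne_top (maximalIdeal.isMaximal _).ne_top (fibreIdeal_le f x))
  .of_surjective' (Ideal.Quotient.mk _) Ideal.Quotient.mk_surjective

theorem exists_fiber_stalk_equiv (f : X ⟶ S) (x : X) (z : f.fiber (f x))
    (hz : f.fiberι (f x) z = x) :
    Nonempty ((X.presheaf.stalk x ⧸ fibreIdeal f x) ≃+* (f.fiber (f x)).presheaf.stalk z) := by
  have key : ∀ (w : X) (s : S) (z : f.fiber s), f.fiberι s z = w →
      Nonempty ((X.presheaf.stalk w ⧸ fibreIdeal f w) ≃+* (f.fiber s).presheaf.stalk z) := by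
    rintro w s z rfl
    obtain ⟨e, -⟩ := EGA43Top.exists_ringEquiv_fiber_stalk f s z
    exact ⟨e⟩
  exact key x (f x) z hz

theorem encard_fibre_components (f : X ⟶ S) (x : X) (s : S) (hs : f x = s) :
    {Z : Set ↑(f.fiber s) | Z ∈ irreducibleComponents ↑(f.fiber s) ∧
        ∃ u' ∈ Z, f.fiberι s u' = x}.encard = (fibreIdeal f x).minimalPrimes.encard := by
  subst hs
  obtain ⟨e⟩ := exists_fiber_stalk_equiv f x (f.asFiber x) (f.fiberι_asFiber x)
  rw [← encard_minimalPrimes_quotient, encard_minimalPrimes_of_ringEquiv e, encard_minimalPrimes_stalk]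
  congr 1
  ext Z
  refine and_congr_right fun _ => ⟨?_, fun h => ⟨_, h, f.fiberι_asFiber x⟩⟩
  rintro ⟨u', hu', h⟩
  have : u' = f.asFiber x :=
    (f.fiberι (f x)).isEmbedding.injective (h.trans (f.fiberι_asFiber x).symm)
  exact this ▸ hu'

theorem fibreIdeal_comp {U : Scheme.{u}} (g : U ⟶ X) (f : X ⟶ S) (u : U) :
    fibreIdeal (g ≫ f) u = (fibreIdeal f (g u)).map (g.stalkMap u).hom := by
  unfold fibreIdeal
  rw [Ideal.map_map, Scheme.Hom.stalkMap_comp]
  rfl

theorem numGeomBranchesAt_fibre (f : X ⟶ S) (x : X) :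
    Brnch.numGeomBranchesAt (f.fiber (f x)) (f.asFiber x) =
      Brnch.numGeomBranches (X.presheaf.stalk x ⧸ fibreIdeal f x) := by
  obtain ⟨e⟩ := exists_fiber_stalk_equiv f x (f.asFiber x) (f.fiberι_asFiber x)
  exact (numGeomBranches_of_ringEquiv e).symm

theorem numBranchesAt_fibre (f : X ⟶ S) (x : X) :
    Brnch.numBranchesAt (f.fiber (f x)) (f.asFiber x) =
      Brnch.numBranches (X.presheaf.stalk x ⧸ fibreIdeal f x) := by
  obtain ⟨e⟩ := exists_fiber_stalk_equiv f x (f.asFiber x) (f.fiberι_asFiber x)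
  exact (numBranches_of_ringEquiv e).symm

/-- A coordinate neighbourhood from an affine piece of an etale map, with the local rings compared. -/
theorem exists_nbhd {U : Scheme.{u}} (g : U ⟶ X) [Etale g] (u : U) {W : X.Opens} (hx : g u ∈ W)
    {V : U.Opens} (hV : IsAffineOpen V) (huV : u ∈ V) (hW : IsAffineOpen W) (hVW : V ≤ g ⁻¹ᵁ W)
    {K : Type u} [Field K] [Algebra Γ(X, W) K] (τ : U.residueField u →+* K)
    (hτ : ∀ r, τ (U.evaluation V u huV (g.appLE W V hVW r)) = algebraMap Γ(X, W) K r) :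
    ∃ (i : Nbhd Γ(X, W) K) (e : U.presheaf.stalk u ≃+* i.G),
      ∀ r, e (g.stalkMap u (X.presheaf.germ W (g u) hx r)) = algebraMap Γ(X, W) i.G r := by
  let φ := g.appLE W V hVW
  let _ : Algebra Γ(X, W) Γ(U, V) := φ.hom.toAlgebra
  have : Algebra.Etale Γ(X, W) Γ(U, V) :=
    RingHom.etale_algebraMap.1 (HasRingHomProperty.appLE @Etale g inferInstance ⟨W, hW⟩ ⟨V, hV⟩ hVW)
  let σ : Γ(U, V) →ₐ[Γ(X, W)] K :=
    { τ.comp (U.evaluation V u huV).hom with commutes' := hτ }
  obtain ⟨i, e, he⟩ := Nbhd.exists_of Γ(U, V) σ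
  let _ := TopCat.Presheaf.algebra_section_stalk U.presheaf (⟨u, huV⟩ : V)
  have := hV.isLocalization_stalk ⟨u, huV⟩
  have hmap : (hV.primeIdealOf ⟨u, huV⟩).asIdeal.primeCompl.map e.toRingEquiv.toMonoidHom =
      i.q.primeCompl := by
    ext z
    simp only [Submonoid.mem_map, Ideal.mem_primeCompl_iff]
    have key : ∀ a, e a ∈ i.q ↔ a ∈ (hV.primeIdealOf ⟨u, huV⟩).asIdeal := fun a => by
      rw [← evaluation_eq_zero_iff hV huV]
      show i.σ (e a) = 0 ↔ _
      rw [he]
      exact map_eq_zero_iff _ τ.injective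
    constructor
    · rintro ⟨a, ha, rfl⟩
      exact fun hh => ha ((key a).1 hh)
    · intro hz
      exact ⟨e.symm z, fun hh => hz (by simpa using (key (e.symm z)).2 hh), e.apply_symm_apply z⟩
  refine ⟨i, IsLocalization.ringEquivOfRingEquiv (U.presheaf.stalk u) i.G e.toRingEquiv hmap,
    fun r => ?_⟩
  rw [Scheme.Hom.germ_stalkMap_apply]
  have h1 : U.presheaf.germ (g ⁻¹ᵁ W) u hx (g.app W r) =
      algebraMap Γ(U, V) (U.presheaf.stalk u) (φ r) := by
    show _ = U.presheaf.germ V u huV ((g.app W ≫ U.presheaf.map (homOfLE hVW).op) r)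
    rw [CommRingCat.comp_apply, TopCat.Presheaf.germ_res_apply]
  rw [h1, IsLocalization.ringEquivOfRingEquiv_eq]
  show algebraMap i.S i.G (e (algebraMap Γ(X, W) Γ(U, V) r)) = _
  rw [AlgEquiv.commutes, ← IsScalarTower.algebraMap_apply]

/-- The scheme over `X` attached to a coordinate neighbourhood. -/
theorem exists_scheme {W : X.Opens} (hW : IsAffineOpen W) {x : X} (hx : x ∈ W)
    {K : Type u} [Field K] [Algebra Γ(X, W) K]
    (hK : ∀ r, algebraMap Γ(X, W) K r = 0 ↔ X.evaluation W x hx r = 0) (i : Nbhd Γ(X, W) K) :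
    ∃ (g : Spec (CommRingCat.of i.S) ⟶ X) (v : Spec (CommRingCat.of i.S)) (hgv : g v = x)
      (e : (Spec (CommRingCat.of i.S)).presheaf.stalk v ≃+* i.G),
      g = Spec.map (CommRingCat.ofHom (algebraMap Γ(X, W) i.S)) ≫ hW.fromSpec ∧
      Etale g ∧ (v : PrimeSpectrum i.S).asIdeal = i.q ∧
      ∀ r, e (g.stalkMap v (X.presheaf.germ W (g v) (hgv ▸ hx) r)) = algebraMap Γ(X, W) i.G r := by
  obtain ⟨g, hgdef⟩ : ∃ g, g = Spec.map (CommRingCat.ofHom (algebraMap Γ(X, W) i.S)) ≫ hW.fromSpec :=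
    ⟨_, rfl⟩
  have hg : Etale g := by
    subst hgdef
    have : Etale (Spec.map (CommRingCat.ofHom (algebraMap Γ(X, W) i.S))) :=
      (HasRingHomProperty.Spec_iff (P := @Etale)).2 (RingHom.etale_algebraMap.2 inferInstance)
    infer_instance
  let v : Spec (CommRingCat.of i.S) := (⟨i.q, inferInstance⟩ : PrimeSpectrum i.S)
  have hgv : g v = x := by
    rw [hgdef, Scheme.Hom.comp_apply]
    refine (congrArg hW.fromSpec ?_).trans (hW.fromSpec_primeIdealOf ⟨x, hx⟩)
    refine PrimeSpectrum.ext (Ideal.ext fun r => ?_)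
    show algebraMap Γ(X, W) i.S r ∈ i.q ↔ _
    rw [← evaluation_eq_zero_iff hW hx, ← hK]
    show i.σ _ = 0 ↔ _
    rw [AlgHom.commutes]
  refine ⟨g, v, hgv, (StructureSheaf.stalkIso (CommRingCat.of i.S) v).symm.toRingEquiv.trans
    (RingEquiv.refl _), hgdef, hg, rfl, fun r => ?_⟩
  have hxW : g v ∈ W := hgv ▸ hx
  have h : X.presheaf.germ W (g v) hxW ≫ g.stalkMap v =
      CommRingCat.ofHom (algebraMap Γ(X, W) i.S) ≫ StructureSheaf.toStalk _ v := by
    apply Spec.map_injective
    rw [← cancel_mono hW.fromSpec, Spec.map_comp, Category.assoc]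
    rw [show Spec.map (X.presheaf.germ W (g v) hxW) ≫ hW.fromSpec = X.fromSpecStalk (g v) from
      hW.fromSpecStalk_eq_fromSpecStalk hxW]
    rw [Scheme.SpecMap_stalkMap_fromSpecStalk, Spec.fromSpecStalk_eq']
    refine Eq.trans ?_ (congrArg (· ≫ hW.fromSpec) (Spec.map_comp (CommRingCat.ofHom (algebraMap Γ(X, W) i.S))
      (StructureSheaf.toStalk (CommRingCat.of i.S) v))).symm
    exact (congrArg (Spec.map (StructureSheaf.toStalk (CommRingCat.of i.S) v) ≫ ·) hgdef).trans
      (Category.assoc _ _ _).symm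
  have h' : g.stalkMap v (X.presheaf.germ W (g v) hxW r) =
      StructureSheaf.toStalk _ v (algebraMap Γ(X, W) i.S r) := congr($(h).hom r)
  rw [h', IsScalarTower.algebraMap_apply Γ(X, W) i.S i.G]
  exact AlgEquiv.commutes (StructureSheaf.stalkIso (CommRingCat.of i.S) v).symm _

variable {W : X.Opens} (hW : IsAffineOpen W) {x : X} (hx : x ∈ W) (f : X ⟶ S)

/-- The ideal of the fibre in the coordinate ring. -/
noncomputable def fibreIdealAt : Ideal Γ(X, W) :=
  (fibreIdeal f x).comap (X.presheaf.germ W x hx).hom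

include hW in
theorem map_fibreIdealAt :
    (fibreIdealAt hx f).map (X.presheaf.germ W x hx).hom = fibreIdeal f x := by
  let _ := TopCat.Presheaf.algebra_section_stalk X.presheaf (⟨x, hx⟩ : W)
  have := hW.isLocalization_stalk ⟨x, hx⟩
  exact IsLocalization.map_comap (hW.primeIdealOf ⟨x, hx⟩).asIdeal.primeCompl (X.presheaf.stalk x) _

include hW in
theorem encard_components_eq {U : Scheme.{u}} (g : U ⟶ X) (u : U) (hu : g u = x)
    {G : Type u} [CommRing G] [Algebra Γ(X, W) G] (e : U.presheaf.stalk u ≃+* G)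
    (he : ∀ r, e (g.stalkMap u (X.presheaf.germ W (g u) (hu ▸ hx) r)) = algebraMap Γ(X, W) G r) :
    {Z : Set ↑((g ≫ f).fiber (f x)) | Z ∈ irreducibleComponents ↑((g ≫ f).fiber (f x)) ∧
        ∃ u' ∈ Z, (g ≫ f).fiberι (f x) u' = u}.encard =
      ((fibreIdealAt hx f).map (algebraMap Γ(X, W) G)).minimalPrimes.encard := by
  subst hu
  rw [encard_fibre_components (g ≫ f) u (f (g u)) rfl, fibreIdeal_comp,
    ← map_fibreIdealAt hW hx f, Ideal.map_map, ← encard_minimalPrimes_map_of_ringEquiv e,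
    Ideal.map_map]
  congr 3
  exact RingHom.ext he

theorem numGeomBranchesAt_fibre_eq_iSup (f : X ⟶ S) (x : X) :
    Brnch.numGeomBranchesAt (f.fiber (f x)) (f.asFiber x) = ⨆ (U : Scheme.{u}) (g : U ⟶ X) (u : U) (_ : Etale g ∧ g u = x),
      {Z : Set ↑((g ≫ f).fiber (f x)) | Z ∈ irreducibleComponents ↑((g ≫ f).fiber (f x)) ∧
        ∃ u' ∈ Z, (g ≫ f).fiberι (f x) u' = u}.encard := by
  obtain ⟨W, hW, hx, -⟩ := exists_isAffineOpen_mem_and_subset (x := x) (U := ⊤) trivial
  let K := SeparableClosure (X.residueField x)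
  let _ : Algebra Γ(X, W) K :=
    ((algebraMap (X.residueField x) K).comp (X.evaluation W x hx).hom).toAlgebra
  have hK : ∀ r, algebraMap Γ(X, W) K r = 0 ↔ X.evaluation W x hx r = 0 := fun r =>
    map_eq_zero_iff _ (algebraMap (X.residueField x) K).injective
  let _ := TopCat.Presheaf.algebra_section_stalk X.presheaf (⟨x, hx⟩ : W)
  have := hW.isLocalization_stalk ⟨x, hx⟩
  obtain ⟨_, _, _, _⟩ := HensPt14.exists_isStrictHenselization (K := K) (hW.primeIdealOf ⟨x, hx⟩).asIdeal
    (fun r => (hK r).trans (evaluation_eq_zero_iff hW hx r)) (X.presheaf.stalk x)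
  rw [numGeomBranchesAt_fibre, numGeomBranches_quotient (S := Hs Γ(X, W) K) (fibreIdeal f x),
    ← map_fibreIdealAt hW hx f, Ideal.map_map]
  have htower : (algebraMap (X.presheaf.stalk x) (Hs Γ(X, W) K)).comp (X.presheaf.germ W x hx).hom =
      algebraMap Γ(X, W) (Hs Γ(X, W) K) :=
    (IsScalarTower.algebraMap_eq Γ(X, W) (X.presheaf.stalk x) (Hs Γ(X, W) K)).symm
  rw [htower]
  refine le_antisymm ?_ (iSup_le fun U => iSup_le fun g => iSup_le fun u => iSup_le fun h => ?_)
  · refine ENat.forall_natCast_le_iff_le.1 fun n hn => ?_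
    obtain ⟨i, hi⟩ := exists_nbhd_encard_map_ge _ n hn
    obtain ⟨g, v, hgv, e, -, hg, -, he⟩ := exists_scheme hW hx hK i
    refine le_iSup_of_le _ (le_iSup_of_le g (le_iSup_of_le v (le_iSup_of_le ⟨hg, hgv⟩ ?_)))
    rw [encard_components_eq hW hx f g v hgv e he]
    exact hi
  · obtain ⟨hg, hgu⟩ := h
    subst hgu
    obtain ⟨V, hV, huV, hVW⟩ := exists_isAffineOpen_mem_and_subset (x := u) (U := g ⁻¹ᵁ W) hx
    let _ : Algebra (X.residueField (g u)) (U.residueField u) := (g.residueFieldMap u).hom.toAlgebra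
    have : Algebra.IsSeparable (X.residueField (g u)) (U.residueField u) :=
      Weight.isSeparable_residueFieldMap g u
    let τ : U.residueField u →ₐ[X.residueField (g u)] K := IsSepClosed.lift
    obtain ⟨i, e, he⟩ := exists_nbhd g u hx hV huV hW hVW (K := K) τ.toRingHom fun r => by
      show τ _ = _
      rw [← WeilH13.residueFieldMap_evaluation g hVW u huV r]
      exact τ.commutes _
    rw [encard_components_eq hW hx f g u rfl e he]
    exact encard_nbhd_map_le _ i

theorem numBranchesAt_fibre_eq_iSup (f : X ⟶ S) (x : X) :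
    Brnch.numBranchesAt (f.fiber (f x)) (f.asFiber x) = ⨆ (U : Scheme.{u}) (g : U ⟶ X) (u : U) (_ : Hens2.IsEtaleNbhd g u x),
      {Z : Set ↑((g ≫ f).fiber (f x)) | Z ∈ irreducibleComponents ↑((g ≫ f).fiber (f x)) ∧
        ∃ u' ∈ Z, (g ≫ f).fiberι (f x) u' = u}.encard := by
  obtain ⟨W, hW, hx, -⟩ := exists_isAffineOpen_mem_and_subset (x := x) (U := ⊤) trivial
  let p := (hW.primeIdealOf ⟨x, hx⟩).asIdeal
  obtain ⟨χ, hχ⟩ := exists_residue_equiv hW hx
  have hK : ∀ r, algebraMap Γ(X, W) p.ResidueField r = 0 ↔ X.evaluation W x hx r = 0 := fun r =>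
    Ideal.algebraMap_residueField_eq_zero.trans (evaluation_eq_zero_iff hW hx r).symm
  let _ := TopCat.Presheaf.algebra_section_stalk X.presheaf (⟨x, hx⟩ : W)
  have := hW.isLocalization_stalk ⟨x, hx⟩
  let eA : X.presheaf.stalk x ≃+* Localization.AtPrime p :=
    (IsLocalization.algEquiv p.primeCompl (X.presheaf.stalk x) (Localization.AtPrime p)).toRingEquiv
  let J := (fibreIdeal f x).map eA.toRingHom
  let q : (X.presheaf.stalk x ⧸ fibreIdeal f x) ≃+* (Localization.AtPrime p ⧸ J) :=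
    Ideal.quotientEquiv _ J eA rfl
  have : Nontrivial (Localization.AtPrime p ⧸ J) := q.symm.toEquiv.nontrivial
  have : IsLocalRing (Localization.AtPrime p ⧸ J) :=
    .of_surjective' (Ideal.Quotient.mk _) Ideal.Quotient.mk_surjective
  have htower : ((algebraMap (Localization.AtPrime p) (Hs Γ(X, W) p.ResidueField)).comp
      eA.toRingHom).comp (X.presheaf.germ W x hx).hom = algebraMap Γ(X, W) (Hs Γ(X, W) p.ResidueField) := by
    refine RingHom.ext fun r => ?_
    show algebraMap (Localization.AtPrime p) _ (IsLocalization.algEquiv p.primeCompl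
      (X.presheaf.stalk x) (Localization.AtPrime p) (algebraMap Γ(X, W) (X.presheaf.stalk x) r)) = _
    rw [AlgEquiv.commutes, ← IsScalarTower.algebraMap_apply]
  rw [numBranchesAt_fibre, numBranches_of_ringEquiv q,
    numBranches_quotient (S := Hs Γ(X, W) p.ResidueField) J]
  simp only [J]
  rw [← map_fibreIdealAt hW hx f, Ideal.map_map, Ideal.map_map, htower]
  refine le_antisymm ?_ (iSup_le fun U => iSup_le fun g => iSup_le fun u => iSup_le fun h => ?_)
  · refine ENat.forall_natCast_le_iff_le.1 fun n hn => ?_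
    obtain ⟨i, hi⟩ := exists_nbhd_encard_map_ge _ n hn
    obtain ⟨g, v, hgv, e, hgdef, hg, hv, he⟩ := exists_scheme hW hx hK i
    let σ : CommRingCat.of i.S ⟶ X.residueField x :=
      CommRingCat.ofHom (χ.toRingHom.comp i.σ.toRingHom)
    have hσv : Spec.map σ (closedPoint (X.residueField x)) = v := PrimeSpectrum.ext <| by
      refine Eq.trans (Ideal.ext fun y => ?_) hv.symm
      show χ (i.σ y) ∈ maximalIdeal (X.residueField x) ↔ i.σ y = 0
      rw [maximalIdeal_eq_bot, Ideal.mem_bot, map_eq_zero_iff _ χ.injective]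
    have hσ : Spec.map σ ≫ g = X.fromSpecResidueField x := by
      rw [← specMap_evaluation hW hx, hgdef, ← Spec.map_comp_assoc]
      congr 2
      refine CommRingCat.hom_ext (RingHom.ext fun r => ?_)
      show χ (i.σ (algebraMap Γ(X, W) i.S r)) = _
      rw [AlgHom.commutes, hχ]
    refine le_iSup_of_le _ (le_iSup_of_le g (le_iSup_of_le v (le_iSup_of_le
      ⟨hg, hgv, (g.residueFieldMap v).hom.injective,
        Weight.residueFieldMap_surjective_of_section g v x hgv (Spec.map σ) hσ hσv⟩ ?_)))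
    rw [encard_components_eq hW hx f g v hgv e he]
    exact hi
  · obtain ⟨hg, hgu, hres⟩ := h
    subst hgu
    obtain ⟨V, hV, huV, hVW⟩ := exists_isAffineOpen_mem_and_subset (x := u) (U := g ⁻¹ᵁ W) hx
    let ρ : X.residueField (g u) ≃+* U.residueField u :=
      RingEquiv.ofBijective (g.residueFieldMap u).hom hres
    obtain ⟨i, e, he⟩ := exists_nbhd g u hx hV huV hW hVW (K := p.ResidueField)
      (χ.trans ρ).symm.toRingHom fun r => by
        show (χ.trans ρ).symm _ = _
        rw [RingEquiv.symm_apply_eq]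
        show _ = ρ (χ _)
        rw [hχ]
        exact (WeilH13.residueFieldMap_evaluation g hVW u huV r).symm
    rw [encard_components_eq hW hx f g u rfl e he]
    exact encard_nbhd_map_le _ i

end Groth.Agent.Branch14
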