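import Groth.Agent.Lib.Branch14.GUTensor

/-!
# Geometrically unibranch local rings under flat base change (EGA IV 6.15.7, 6.15.10)
-/

set_option backward.isDefEq.respectTransparency.types false
set_option linter.style.haveILetI false
set_option linter.unusedSectionVars false

universe u

open scoped TensorProduct
open IsLocalRing

namespace Groth.Agent.Branch14.GUT

variable {R B T N : Type u} [CommRing R] [CommRing B] [Algebra R B] [CommRing T] [Algebra R T]
  [Module.Flat R T] [CommRing N] [IsDomain N] [Algebra R N] [Algebra B N] [IsScalarTower R B N]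

/-- the map to the normalization, after base change -/
noncomputable def nmap : B ⊗[R] T →ₐ[R] N ⊗[R] T :=
  Algebra.TensorProduct.map (IsScalarTower.toAlgHom R B N) (AlgHom.id R T)

theorem ker_nmap (hker : RingHom.ker (algebraMap B N) ≤ nilradical B) :
    RingHom.ker (nmap : B ⊗[R] T →ₐ[R] N ⊗[R] T).toRingHom ≤ nilradical (B ⊗[R] T) := by
  intro z hz
  let I := RingHom.ker (algebraMap B N)
  let inc : B ⧸ I →ₗ[R] N := (Ideal.Quotient.liftₐ I (IsScalarTower.toAlgHom R B N) fun b hb => hb).toLinearMap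
  have hinc : Function.Injective inc := RingHom.lift_injective_of_ker_le_ideal I
    (f := algebraMap B N) (fun b hb => hb) le_rfl
  let π : B ⊗[R] T →ₐ[R] (B ⧸ I) ⊗[R] T :=
    Algebra.TensorProduct.map (Ideal.Quotient.mkₐ R I) (AlgHom.id R T)
  have hπ : π z = 0 := by
    refine Module.Flat.rTensor_preserves_injective_linearMap (M := T) inc hinc ?_
    rw [map_zero, ← show nmap (N := N) z = 0 from hz]
    clear hz
    induction z using TensorProduct.induction_on with
    | zero => simp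
    | add x y hx hy => simp only [map_add, hx, hy]
    | tmul a t => simp [π, inc, nmap]
  have hmem : z ∈ RingHom.ker π.toRingHom := hπ
  rw [show RingHom.ker π.toRingHom = RingHom.ker
      (Algebra.TensorProduct.map (Ideal.Quotient.mkₐ R I) (AlgHom.id R T)) from rfl,
    Algebra.TensorProduct.rTensor_ker _ Ideal.Quotient.mk_surjective] at hmem
  refine (Ideal.map_le_iff_le_comap.2 fun b hb => ?_) hmem
  rw [Ideal.mem_comap, mem_nilradical]
  exact (mem_nilradical.1 (hker (Ideal.Quotient.eq_zero_iff_mem.1 hb))).map _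

theorem exists_denom (hfrac : ∀ x : N, ∃ b c : B, algebraMap B N b ≠ 0 ∧
      algebraMap B N b * x = algebraMap B N c) (z : N ⊗[R] T) :
    ∃ (b : B) (w : B ⊗[R] T), algebraMap B N b ≠ 0 ∧
      nmap (b ⊗ₜ[R] (1 : T)) * z = nmap w := by
  induction z using TensorProduct.induction_on with
  | zero => exact ⟨1, 0, by simp, by simp⟩
  | tmul x t =>
    obtain ⟨b, c, hb, hc⟩ := hfrac x
    exact ⟨b, c ⊗ₜ t, hb, by simp [nmap, Algebra.TensorProduct.tmul_mul_tmul, hc]⟩
  | add x y hx hy =>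
    obtain ⟨b, w, hb, hw⟩ := hx
    obtain ⟨b', w', hb', hw'⟩ := hy
    refine ⟨b * b', b' ⊗ₜ (1 : T) * w + b ⊗ₜ (1 : T) * w', by rw [map_mul]; exact mul_ne_zero hb hb', ?_⟩
    rw [map_add, map_mul, map_mul, ← hw, ← hw', show ((b * b') ⊗ₜ[R] (1 : T)) = (b ⊗ₜ 1) * (b' ⊗ₜ 1) by
      simp [Algebra.TensorProduct.tmul_mul_tmul], map_mul]
    ring

/-- EGA IV 6.15.10: geometric unibranchness after flat base change, from that of the normalization. -/
theorem isGeomUnibranch_tensor [IsLocalRing B] [IsLocalRing N] [Algebra.IsIntegral B N]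
    (hker : RingHom.ker (algebraMap B N) ≤ nilradical B)
    (hfrac : ∀ x : N, ∃ b c : B, algebraMap B N b ≠ 0 ∧ algebraMap B N b * x = algebraMap B N c)
    (hPI : Bir.PI ((residue N).comp (algebraMap B N)))
    (hN : ∀ (Q : Ideal (N ⊗[R] T)) [Q.IsPrime], CAlg2.IsGeomUnibranch (Localization.AtPrime Q))
    (q : Ideal (B ⊗[R] T)) [q.IsPrime]
    (hq : q.comap (algebraMap B (B ⊗[R] T)) = maximalIdeal B) :
    CAlg2.IsGeomUnibranch (Localization.AtPrime q) := by
  let Φ : B ⊗[R] T →ₐ[R] N ⊗[R] T := nmap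
  letI : Algebra (B ⊗[R] T) (N ⊗[R] T) := Φ.toRingHom.toAlgebra
  haveI hint : Algebra.IsIntegral (B ⊗[R] T) (N ⊗[R] T) := ⟨fun z => by
    induction z using TensorProduct.induction_on with
    | zero => exact isIntegral_zero
    | add x y hx hy => exact hx.add hy
    | tmul x t =>
      have h : x ⊗ₜ[R] t = (x ⊗ₜ 1) * Φ ((1 : B) ⊗ₜ t) := by
        simp [Φ, nmap, Algebra.TensorProduct.tmul_mul_tmul]
      rw [h]
      refine IsIntegral.mul ?_ (isIntegral_algebraMap (x := (1 : B) ⊗ₜ[R] t))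
      obtain ⟨P, hP, hPx⟩ := Algebra.IsIntegral.isIntegral (R := B) x
      refine ⟨P.map (algebraMap B (B ⊗[R] T)), hP.map _, ?_⟩
      have h1 := congrArg (Algebra.TensorProduct.includeLeftRingHom : N →+* N ⊗[R] T) hPx
      rw [Polynomial.hom_eval₂, map_zero] at h1
      rw [Polynomial.eval₂_map]
      rwa [show (algebraMap (B ⊗[R] T) (N ⊗[R] T)).comp (algebraMap B (B ⊗[R] T)) =
        (Algebra.TensorProduct.includeLeftRingHom : N →+* N ⊗[R] T).comp (algebraMap B N) from
        RingHom.ext fun b => by simp [RingHom.algebraMap_toAlgebra, Φ, nmap]]⟩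
  have hkΦ : RingHom.ker (algebraMap (B ⊗[R] T) (N ⊗[R] T)) ≤ nilradical (B ⊗[R] T) := ker_nmap hker
  have hbase : ∀ b : B, Φ (b ⊗ₜ (1 : T)) = algebraMap N (N ⊗[R] T) (algebraMap B N b) := fun b => by
    simp [Φ, nmap]
  -- denominators avoid minimal primes
  have havoidB : ∀ p ∈ minimalPrimes (B ⊗[R] T), ∀ b : B, algebraMap B N b ≠ 0 → b ⊗ₜ[R] (1 : T) ∉ p := by
    intro p hp b hb hmem
    have hmin := comap_mem_minimalPrimes_of_flat (R := B) (T := B ⊗[R] T) p hp
    haveI : (RingHom.ker (algebraMap B N)).IsPrime := RingHom.ker_isPrime _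
    have hle : RingHom.ker (algebraMap B N) ≤ p.comap (algebraMap B (B ⊗[R] T)) := by
      haveI := hmin.1.1
      exact hker.trans (nilradical_le_prime _)
    exact hb (RingHom.mem_ker.1 (hmin.2 ⟨inferInstance, bot_le⟩ hle hmem))
  have havoidN : ∀ Q ∈ minimalPrimes (N ⊗[R] T), ∀ b : B, algebraMap B N b ≠ 0 →
      Φ (b ⊗ₜ (1 : T)) ∉ Q := by
    intro Q hQ b hb hmem
    rw [hbase] at hmem
    have hmin := comap_mem_minimalPrimes_of_flat (R := N) (T := N ⊗[R] T) Q hQ
    exact hb ((Ideal.mem_bot).1 (hmin.2 ⟨Ideal.isPrime_bot, bot_le⟩ bot_le hmem))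
  have hlie : ∀ (p : Ideal (B ⊗[R] T)) [p.IsPrime], ∃ Q : Ideal (N ⊗[R] T), Q.IsPrime ∧
      Q.comap (algebraMap (B ⊗[R] T) (N ⊗[R] T)) = p := fun p _ => by
    obtain ⟨Q, -, hQ, hQp⟩ := Ideal.exists_ideal_over_prime_of_isIntegral (S := N ⊗[R] T) p ⊥
      (show RingHom.ker (algebraMap (B ⊗[R] T) (N ⊗[R] T)) ≤ p from hkΦ.trans (nilradical_le_prime p))
    exact ⟨Q, hQ, hQp⟩
  have hb : Bir.IsBir (B ⊗[R] T) (N ⊗[R] T) := by
    refine ⟨fun Q hQ => ?_, fun Q Q' _ _ hQm heq => ?_, fun p hp => ?_, fun Q _ hQm z => ?_⟩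
    · haveI := hQ.1.1
      obtain ⟨p₁, hp₁, hle⟩ := Ideal.exists_minimalPrimes_le (I := (⊥ : Ideal (B ⊗[R] T)))
        (J := Q.comap (algebraMap (B ⊗[R] T) (N ⊗[R] T))) bot_le
      haveI := hp₁.1.1
      obtain ⟨Q', hQ', hQ'p⟩ := hlie p₁
      have hsub : Q' ≤ Q := by
        intro y hy
        obtain ⟨b, w, hb, hw⟩ := exists_denom hfrac y
        have h1 : w ∈ p₁ := by
          rw [← hQ'p, Ideal.mem_comap]
          show nmap w ∈ Q'
          rw [← hw]
          exact Q'.mul_mem_left _ hy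
        have h2 : nmap (b ⊗ₜ[R] (1 : T)) * y ∈ Q := by rw [hw]; exact hle h1
        exact (Ideal.IsPrime.mem_or_mem inferInstance h2).resolve_left (havoidN Q hQ b hb)
      have : Q' = Q := le_antisymm hsub (hQ.2 ⟨hQ', bot_le⟩ hsub)
      rw [← this, hQ'p]
      exact hp₁
    · ext y
      obtain ⟨b, w, hb, hw⟩ := exists_denom hfrac y
      have hmem : ∀ (P : Ideal (N ⊗[R] T)) [P.IsPrime],
          P.comap (algebraMap (B ⊗[R] T) (N ⊗[R] T)) ∈ minimalPrimes (B ⊗[R] T) →
          (y ∈ P ↔ w ∈ P.comap (algebraMap (B ⊗[R] T) (N ⊗[R] T))) := fun P _ hP => by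
        rw [Ideal.mem_comap, show algebraMap (B ⊗[R] T) (N ⊗[R] T) w = nmap w from rfl, ← hw]
        exact ⟨fun h => P.mul_mem_left _ h, fun h =>
          (Ideal.IsPrime.mem_or_mem inferInstance h).resolve_left (havoidB _ hP b hb)⟩
      rw [hmem Q hQm, hmem Q' (heq ▸ hQm), heq]
    · haveI := hp.1.1
      exact hlie p
    · obtain ⟨b, w, hb, hw⟩ := exists_denom hfrac z
      refine ⟨w, b ⊗ₜ (1 : T), havoidB _ hQm b hb, ?_⟩
      show z * nmap (b ⊗ₜ[R] (1 : T)) - nmap w ∈ Q
      rw [mul_comm, hw, sub_self]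
      exact Q.zero_mem
  -- radiciality over `q`
  let e := ringExpChar (ResidueField N)
  have hover : ∀ (Q : Ideal (N ⊗[R] T)) [Q.IsPrime],
      Q.comap (algebraMap (B ⊗[R] T) (N ⊗[R] T)) = q → Q.comap (algebraMap N (N ⊗[R] T)) = maximalIdeal N := by
    intro Q _ hQ
    haveI : ((Q.comap (algebraMap N (N ⊗[R] T))).comap (algebraMap B N)).IsMaximal := by
      have : (Q.comap (algebraMap N (N ⊗[R] T))).comap (algebraMap B N) = maximalIdeal B := by
        rw [← hq, ← hQ, Ideal.comap_comap, Ideal.comap_comap]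
        exact congrArg (fun φ => Ideal.comap φ Q) (RingHom.ext fun b => (hbase b).symm)
      rw [this]
      infer_instance
    exact IsLocalRing.eq_maximalIdeal (Ideal.isMaximal_of_isIntegral_of_isMaximal_comap _ ‹_›)
  have hrad : ∀ z : N ⊗[R] T, ∃ (n : ℕ) (w : B ⊗[R] T), ∀ (Q : Ideal (N ⊗[R] T)) [Q.IsPrime],
      Q.comap (algebraMap (B ⊗[R] T) (N ⊗[R] T)) = q → z ^ e ^ n - Φ w ∈ Q := by
    intro z
    induction z using TensorProduct.induction_on with
    | zero =>
      refine ⟨0, 0, fun Q _ _ => ?_⟩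
      simp
    | tmul x t =>
      obtain ⟨n, b, hb⟩ := hPI (residue N x)
      refine ⟨n, b ⊗ₜ (t ^ e ^ n), fun Q _ hQ => ?_⟩
      have h1 : algebraMap B N b - x ^ e ^ n ∈ maximalIdeal N := by
        rw [← residue_eq_zero_iff, map_sub, map_pow, sub_eq_zero]
        exact hb
      rw [← hover Q hQ, Ideal.mem_comap] at h1
      have h2 := Q.mul_mem_right ((1 : N) ⊗ₜ (t ^ e ^ n)) (Q.neg_mem h1)
      rw [show -(algebraMap N (N ⊗[R] T) (algebraMap B N b - x ^ e ^ n)) * ((1 : N) ⊗ₜ (t ^ e ^ n)) =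
        (x ⊗ₜ t) ^ e ^ n - Φ (b ⊗ₜ (t ^ e ^ n)) by
          simp only [map_sub, neg_sub, sub_mul, Algebra.TensorProduct.algebraMap_apply,
            Algebra.algebraMap_self, RingHom.id_apply, Algebra.TensorProduct.tmul_mul_tmul,
            mul_one, one_mul, Algebra.TensorProduct.tmul_pow]
          simp [Φ, nmap]] at h2
      exact h2
    | add x y hx hy =>
      obtain ⟨n, w, hw⟩ := hx
      obtain ⟨m, w', hw'⟩ := hy
      refine ⟨n + m, w ^ e ^ m + w' ^ e ^ n, fun Q _ hQ => ?_⟩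
      haveI : ExpChar ((N ⊗[R] T) ⧸ Q) e := by
        let ψ : ResidueField N →+* (N ⊗[R] T) ⧸ Q :=
          Ideal.quotientMap Q (algebraMap N (N ⊗[R] T)) (hover Q hQ).ge
        haveI : ExpChar (ResidueField N) e := inferInstanceAs (ExpChar _ (ringExpChar _))
        exact expChar_of_injective_ringHom ψ.injective e
      have h1 := Ideal.Quotient.eq.2 (hw Q hQ)
      have h2 := Ideal.Quotient.eq.2 (hw' Q hQ)
      rw [map_pow] at h1 h2
      rw [← Ideal.Quotient.eq, map_pow, map_add, add_pow_expChar_pow, map_add, map_add, map_pow, map_pow,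
        map_pow, map_pow, ← h1, ← h2, ← pow_mul, ← pow_mul, ← pow_add, ← pow_add, Nat.add_comm m n]
  obtain ⟨Q₀, hQ₀, hQ₀q⟩ := hlie q
  have hepos : ∀ n, 0 < e ^ n := fun n => by
    haveI : ExpChar (ResidueField N) e := inferInstanceAs (ExpChar _ (ringExpChar _))
    exact Nat.pow_pos (expChar_pos (ResidueField N) e)
  have huniq : ∀ Q : Ideal (N ⊗[R] T), Q.IsPrime →
      Q.comap (algebraMap (B ⊗[R] T) (N ⊗[R] T)) = q → Q = Q₀ := by
    intro Q hQ hQq
    ext y
    obtain ⟨n, w, hw⟩ := hrad y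
    have key : ∀ (P : Ideal (N ⊗[R] T)) [P.IsPrime],
        P.comap (algebraMap (B ⊗[R] T) (N ⊗[R] T)) = q → (y ∈ P ↔ w ∈ q) := fun P hP hPq => by
      rw [← hPq, Ideal.mem_comap]
      have h := hw P hPq
      constructor
      · intro hy
        exact (P.sub_mem_iff_right (P.pow_mem_of_mem hy _ (hepos n))).1 h
      · intro hww
        exact hP.mem_of_pow_mem _ ((P.sub_mem_iff_left hww).1 h)
    rw [key Q hQq, key Q₀ hQ₀q]
  let φ := Localization.localRingHom q Q₀ (algebraMap (B ⊗[R] T) (N ⊗[R] T)) hQ₀q.symm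
  refine (Bir.isGeomUnibranch_iff hb Q₀ hQ₀q huniq (O := Localization.AtPrime Q₀) φ ?_).2
    ⟨hN Q₀, fun x => ?_⟩
  · exact RingHom.ext fun r => Localization.localRingHom_to_map q Q₀ _ hQ₀q.symm r
  · obtain ⟨d, rfl⟩ := residue_surjective x
    obtain ⟨y, t, rfl⟩ := IsLocalization.exists_mk'_eq Q₀.primeCompl d
    obtain ⟨n, w, hw⟩ := hrad y
    obtain ⟨m, w', hw'⟩ := hrad (t : N ⊗[R] T)
    have hw'q : w' ∉ q := fun h => t.2 (hQ₀.mem_of_pow_mem _
      ((Q₀.sub_mem_iff_left (hQ₀q.ge h)).1 (hw' Q₀ hQ₀q)))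
    haveI : ExpChar (ResidueField (Localization.AtPrime Q₀)) e := by
      let ψ : ResidueField N →+* ResidueField (Localization.AtPrime Q₀) :=
        Ideal.quotientMap (maximalIdeal (Localization.AtPrime Q₀))
          ((algebraMap (N ⊗[R] T) (Localization.AtPrime Q₀)).comp (algebraMap N (N ⊗[R] T))) (fun z hz => by
            rw [Ideal.mem_comap, RingHom.comp_apply, IsLocalization.AtPrime.to_map_mem_maximal_iff _ Q₀,
              ← Ideal.mem_comap, hover Q₀ hQ₀q]
            exact hz)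
      haveI : ExpChar (ResidueField N) e := inferInstanceAs (ExpChar _ (ringExpChar _))
      exact expChar_of_injective_ringHom ψ.injective e
    let ev : N ⊗[R] T →+* ResidueField (Localization.AtPrime Q₀) :=
      (residue _).comp (algebraMap _ _)
    have hev : ∀ v : B ⊗[R] T, residue _ (φ (algebraMap _ _ v)) = ev (Φ v) := fun v =>
      congrArg (residue _) (Localization.localRingHom_to_map q Q₀ _ hQ₀q.symm v)
    have hzero : ∀ v, ev v = 0 ↔ v ∈ Q₀ := fun v =>
      (residue_eq_zero_iff _).trans (IsLocalization.AtPrime.to_map_mem_maximal_iff _ Q₀ v)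
    have e1 : ev y ^ e ^ n = ev (Φ w) := by
      rw [← map_pow, ← sub_eq_zero, ← map_sub, hzero]; exact hw Q₀ hQ₀q
    have e2 : ev (t : N ⊗[R] T) ^ e ^ m = ev (Φ w') := by
      rw [← map_pow, ← sub_eq_zero, ← map_sub, hzero]; exact hw' Q₀ hQ₀q
    have ht : ev (t : N ⊗[R] T) ≠ 0 := fun h => t.2 ((hzero _).1 h)
    refine ⟨n + m, IsLocalization.mk' _ (w ^ e ^ m)
      (⟨w' ^ e ^ n, fun h => hw'q (Ideal.IsPrime.mem_of_pow_mem ‹_› _ h)⟩ : q.primeCompl), ?_⟩
    rw [ringExpChar.eq (ResidueField (Localization.AtPrime Q₀)) e]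
    set u := IsLocalization.mk' (Localization.AtPrime q) (w ^ e ^ m)
      (⟨w' ^ e ^ n, fun h => hw'q (Ideal.IsPrime.mem_of_pow_mem ‹_› _ h)⟩ : q.primeCompl) with hu
    have h1 : residue _ (φ u) * ev (Φ (w' ^ e ^ n)) = ev (Φ (w ^ e ^ m)) := by
      rw [← hev, ← hev, ← map_mul, ← map_mul]
      exact congrArg (fun z => residue _ (φ z)) (IsLocalization.mk'_spec _ _ _)
    have h2 : residue _ (IsLocalization.mk' (Localization.AtPrime Q₀) y t) * ev (t : N ⊗[R] T) = ev y :=
      (map_mul _ _ _).symm.trans (congrArg (residue _) (IsLocalization.mk'_spec _ _ _))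
    rw [map_pow, map_pow, map_pow, map_pow, ← e1, ← e2, ← h2, mul_pow, mul_pow, ← pow_mul, ← pow_mul,
      ← pow_mul, ← pow_add, ← pow_add, Nat.add_comm m n] at h1
    exact mul_right_cancel₀ (pow_ne_zero _ ht) h1

theorem isIntegrallyClosed_normRed (B : Type u) [CommRing B] [IsDomain (CAlg2.red B)] :
    IsIntegrallyClosed (CAlg2.normRed B) := by
  haveI : IsFractionRing (CAlg2.normRed B) (FractionRing (CAlg2.red B)) :=
    integralClosure.isFractionRing_of_finite_extension (FractionRing (CAlg2.red B)) (FractionRing (CAlg2.red B))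
  exact (IsIntegrallyClosed.integralClosure_eq_bot_iff (FractionRing (CAlg2.red B))).mp integralClosure_idem

/-- The version with the canonical normalization. -/
theorem isGeomUnibranch_tensor_normRed [IsLocalRing B] (hB : CAlg2.IsGeomUnibranch B)
    (hN : ∀ (N : Type u) [CommRing N] [IsDomain N] [IsIntegrallyClosed N] [Algebra R N]
      (Q : Ideal (N ⊗[R] T)) [Q.IsPrime], CAlg2.IsGeomUnibranch (Localization.AtPrime Q))
    (q : Ideal (B ⊗[R] T)) [q.IsPrime]
    (hq : q.comap (algebraMap B (B ⊗[R] T)) = maximalIdeal B) :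
    CAlg2.IsGeomUnibranch (Localization.AtPrime q) := by
  haveI := hB.1.1
  haveI := hB.1.2
  haveI := isIntegral_normRed B
  haveI := isIntegrallyClosed_normRed B
  letI : Algebra R (CAlg2.normRed B) :=
    ((algebraMap B (CAlg2.normRed B)).comp (algebraMap R B)).toAlgebra
  haveI : IsScalarTower R B (CAlg2.normRed B) := IsScalarTower.of_algebraMap_eq fun r => rfl
  have hinj : Function.Injective (algebraMap (CAlg2.red B) (CAlg2.normRed B)) := fun x y h =>
    IsFractionRing.injective (CAlg2.red B) (FractionRing (CAlg2.red B)) (congrArg Subtype.val h)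
  refine isGeomUnibranch_tensor (N := CAlg2.normRed B) ?_ (fun x => ?_)
    (fun x => hB.2 (maximalIdeal (CAlg2.normRed B)) x) (fun Q _ => hN _ Q) q hq
  · intro b hb
    exact Ideal.Quotient.eq_zero_iff_mem.1 (hinj (hb.trans (map_zero _).symm))
  · obtain ⟨c, b, hb, hcb⟩ := IsFractionRing.div_surjective (A := CAlg2.red B) x.1
    obtain ⟨c, rfl⟩ := Ideal.Quotient.mk_surjective c
    obtain ⟨b, rfl⟩ := Ideal.Quotient.mk_surjective b
    have hb' : algebraMap (CAlg2.red B) (FractionRing (CAlg2.red B)) (Ideal.Quotient.mk _ b) ≠ 0 :=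
      IsFractionRing.to_map_ne_zero_of_mem_nonZeroDivisors hb
    refine ⟨b, c, fun h => hb' (congrArg Subtype.val h), Subtype.ext ?_⟩
    show algebraMap (CAlg2.red B) _ (Ideal.Quotient.mk _ b) * x.1 = algebraMap (CAlg2.red B) _ (Ideal.Quotient.mk _ c)
    rw [← hcb, mul_div_cancel₀ _ hb']

end Groth.Agent.Branch14.GUT
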