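import Groth.Agent.S6280
import Groth.Agent.Lib.NormalSmooth12.Basic
import Groth.Agent.Lib.Sep.Basic
import Groth.Agent.Lib.AdicSmooth.FieldFS
import Mathlib.RingTheory.Smooth.Locus
import Mathlib.RingTheory.Flat.Basic
import Mathlib.FieldTheory.IntermediateField.Adjoin.Algebra

/-!
# A normal ring stays normal after a separable extension of the base field (EGA IV 6.14.2)
-/

set_option backward.isDefEq.respectTransparency.types false
set_option linter.style.haveILetI false
set_option linter.unusedSectionVars false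

universe u

open scoped TensorProduct

namespace Groth.Agent.Branch14.NormalTensor

variable {k : Type u} [Field k]

/-- A fraction field inside a tensor product is a localization. -/
theorem isNormalRing_tensor_frac (A D K : Type u) [CommRing A] [Algebra k A] [CommRing D]
    [Algebra k D] [Field K] [Algebra k K] [Algebra D K] [IsScalarTower k D K]
    (hinj : Function.Injective (algebraMap D K))
    (hfrac : ∀ z : K, ∃ a b : D, algebraMap D K b ≠ 0 ∧ z * algebraMap D K b = algebraMap D K a)
    (h : EGA4.IsNormalRing (A ⊗[k] D)) : EGA4.IsNormalRing (A ⊗[k] K) := by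
  let φ : A ⊗[k] D →ₐ[k] A ⊗[k] K :=
    Algebra.TensorProduct.map (AlgHom.id k A) (IsScalarTower.toAlgHom k D K)
  letI : Algebra (A ⊗[k] D) (A ⊗[k] K) := φ.toRingHom.toAlgebra
  let M : Submonoid (A ⊗[k] D) :=
    (Submonoid.comap (algebraMap D K).toMonoidHom (nonZeroDivisors K)).map
      (Algebra.TensorProduct.includeRight : D →ₐ[k] A ⊗[k] D).toRingHom.toMonoidHom
  have hφ : Function.Injective φ :=
    Module.Flat.lTensor_preserves_injective_linearMap
      (IsScalarTower.toAlgHom k D K).toLinearMap hinj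
  have hM : ∀ b : D, algebraMap D K b ≠ 0 → (1 : A) ⊗ₜ[k] b ∈ M := fun b hb =>
    ⟨b, mem_nonZeroDivisors_of_ne_zero hb, rfl⟩
  have hcl : ∀ z : A ⊗[k] K, ∃ (w : A ⊗[k] D) (b : D), algebraMap D K b ≠ 0 ∧
      z * φ (1 ⊗ₜ b) = φ w := by
    intro z
    induction z using TensorProduct.induction_on with
    | zero => exact ⟨0, 1, by simp, by simp⟩
    | tmul a x =>
      obtain ⟨c, b, hb, hx⟩ := hfrac x
      refine ⟨a ⊗ₜ c, b, hb, ?_⟩
      simp [φ, Algebra.TensorProduct.tmul_mul_tmul, hx]
    | add x y hx hy =>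
      obtain ⟨w, b, hb, hx⟩ := hx
      obtain ⟨w', b', hb', hy⟩ := hy
      refine ⟨w * (1 ⊗ₜ b') + w' * (1 ⊗ₜ b), b * b', by rw [map_mul]; exact mul_ne_zero hb hb', ?_⟩
      rw [show ((1 : A) ⊗ₜ[k] (b * b')) = (1 ⊗ₜ b) * (1 ⊗ₜ b') by simp, map_add, map_mul φ w,
        map_mul φ w', map_mul, ← hx, ← hy]
      ring
  haveI : IsLocalization M (A ⊗[k] K) := by
    refine ⟨fun y => ?_, fun z => ?_, fun {x y} hxy => ⟨1, by rw [hφ hxy]⟩⟩
    · obtain ⟨_, b, hb, rfl⟩ := y
      show IsUnit (φ (1 ⊗ₜ b))
      rw [show φ ((1 : A) ⊗ₜ[k] b) =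
        (Algebra.TensorProduct.includeRight : K →ₐ[k] A ⊗[k] K) (algebraMap D K b) by simp [φ]]
      exact (isUnit_iff_ne_zero.2 (nonZeroDivisors.ne_zero hb)).map _
    · obtain ⟨w, b, hb, hz⟩ := hcl z
      exact ⟨⟨w, ⟨_, hM b hb⟩⟩, hz⟩
  exact NormalSmooth12.isNormalRing_localization h M _

open scoped IntermediateField.algebraAdjoinAdjoin in
/-- The finitely generated case. -/
theorem isNormalRing_tensor_adjoin (A : Type u) [CommRing A] [Algebra k A] (hA : EGA4.IsNormalRing A)
    {L : Type u} [Field L] [Algebra k L] (s : Finset L)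
    [Algebra.FormallySmooth k (IntermediateField.adjoin k (s : Set L))] :
    EGA4.IsNormalRing (A ⊗[k] IntermediateField.adjoin k (s : Set L)) := by
  let D := Algebra.adjoin k (s : Set L)
  let K := IntermediateField.adjoin k (s : Set L)
  haveI : Algebra.FiniteType k D := (Subalgebra.fg_iff_finiteType _).1 ⟨s, rfl⟩
  haveI : Algebra.FinitePresentation k D := Algebra.FinitePresentation.of_finiteType.1 inferInstance
  haveI : IsLocalization.AtPrime K (⊥ : Ideal D) := by
    have h : (⊥ : Ideal D).primeCompl = nonZeroDivisors D := by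
      ext x
      simp [mem_nonZeroDivisors_iff_ne_zero]
    show IsLocalization (⊥ : Ideal D).primeCompl K
    rw [h]
    infer_instance
  have hgen : (⟨⊥, Ideal.isPrime_bot⟩ : PrimeSpectrum D) ∈ Algebra.smoothLocus k D :=
    Algebra.FormallySmooth.of_equiv ((IsLocalization.algEquiv (⊥ : Ideal D).primeCompl K
      (Localization.AtPrime (⊥ : Ideal D))).restrictScalars k)
  obtain ⟨_, ⟨g, rfl⟩, hg, hsub⟩ :=
    PrimeSpectrum.isTopologicalBasis_basic_opens.exists_subset_of_mem_open hgen Algebra.isOpen_smoothLocus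
  haveI : Algebra.Smooth k (Localization.Away g) := Algebra.basicOpen_subset_smoothLocus_iff_smooth.1 hsub
  have hg0 : g ≠ 0 := fun h => hg (by simp [h])
  have hu : IsUnit (algebraMap D K g) := isUnit_iff_ne_zero.2 fun h =>
    hg0 (IsFractionRing.injective D K (h.trans (map_zero _).symm))
  let χ : Localization.Away g →+* K := IsLocalization.Away.lift g hu
  have hχ : ∀ d, χ (algebraMap D (Localization.Away g) d) = algebraMap D K d :=
    IsLocalization.Away.lift_eq g hu
  letI : Algebra (Localization.Away g) K := χ.toAlgebra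
  haveI : IsScalarTower k (Localization.Away g) K := IsScalarTower.of_algebraMap_eq fun c => by
    show _ = χ (algebraMap k (Localization.Away g) c)
    rw [IsScalarTower.algebraMap_apply k D (Localization.Away g), hχ,
      ← IsScalarTower.algebraMap_apply k D K]
  refine isNormalRing_tensor_frac A (Localization.Away g) K ?_ (fun z => ?_)
    (NormalSmooth12.isNormalRing_of_smooth (A := A) (B := A ⊗[k] Localization.Away g) hA)
  · intro x y hxy
    obtain ⟨a, ⟨_, n, rfl⟩, rfl⟩ := IsLocalization.exists_mk'_eq (Submonoid.powers g) x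
    obtain ⟨b, ⟨_, m, rfl⟩, rfl⟩ := IsLocalization.exists_mk'_eq (Submonoid.powers g) y
    rw [IsLocalization.mk'_eq_iff_eq]
    congr 1
    refine IsFractionRing.injective D K ?_
    have h1 := congrArg (fun t => t * algebraMap D K (g ^ n) * algebraMap D K (g ^ m)) hxy
    have h2 : ∀ (c : D) (i : ℕ), algebraMap (Localization.Away g) K
        (IsLocalization.mk' (Localization.Away g) c (⟨g ^ i, i, rfl⟩ : Submonoid.powers g)) *
          algebraMap D K (g ^ i) = algebraMap D K c := fun c i => by
      rw [← hχ (g ^ i), ← hχ c]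
      exact (map_mul χ _ _).symm.trans (congrArg χ (IsLocalization.mk'_spec _ _ _))
    simp only at h1
    rw [h2] at h1
    rw [mul_right_comm, h2] at h1
    rw [map_mul, map_mul]
    linear_combination h1
  · obtain ⟨a, b, hb, rfl⟩ := IsFractionRing.div_surjective (A := D) z
    have hb' : algebraMap D K b ≠ 0 := IsFractionRing.to_map_ne_zero_of_mem_nonZeroDivisors hb
    refine ⟨algebraMap D _ a, algebraMap D _ b, ?_, ?_⟩
    · show χ _ ≠ 0
      rw [hχ]
      exact hb'
    · show _ * χ _ = χ _
      rw [hχ, hχ, div_mul_cancel₀ _ hb']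

theorem isNormalRing_of_ringEquiv' {R R' : Type u} [CommRing R] [CommRing R'] (e : R ≃+* R')
    (h : EGA4.IsNormalRing R) : EGA4.IsNormalRing R' := by
  intro Q hQ
  let P := Q.comap e.toRingHom
  haveI : P.IsPrime := Ideal.comap_isPrime _ _
  have hPQ : P.primeCompl.map e.toMonoidHom = Q.primeCompl := by
    ext z
    constructor
    · rintro ⟨w, hw, rfl⟩ h'
      exact hw h'
    · intro hz
      exact ⟨e.symm z, fun h' => hz (by simpa [P] using h'), e.apply_symm_apply z⟩
  exact NormalSmooth12.normalDomain_of_ringEquiv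
    (IsLocalization.ringEquivOfRingEquiv (Localization.AtPrime P) (Localization.AtPrime Q) e hPQ) (h P)

theorem isNormalRing_of_union {ι : Type u} [Preorder ι] [Nonempty ι] [IsDirected ι (· ≤ ·)]
    (G : ι → Type u) [∀ i, CommRing (G i)] (f : ∀ i j, i ≤ j → G i →+* G j)
    [DirectedSystem G fun i j h => f i j h] (R : Type u) [CommRing R] (g : ∀ i, G i →+* R)
    (hg : ∀ i j h x, g j (f i j h x) = g i x) (hinj : ∀ i, Function.Injective (g i))
    (hsurj : ∀ z, ∃ i x, g i x = z) (hG : ∀ i, EGA4.IsNormalRing (G i)) : EGA4.IsNormalRing R :=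
  isNormalRing_of_ringEquiv'
    (RingEquiv.ofBijective (Ring.DirectLimit.lift G (fun i j h => f i j h) R g hg)
      ⟨Ring.DirectLimit.lift_injective R g hg hinj, fun z => by
        obtain ⟨i, x, rfl⟩ := hsurj z
        exact ⟨Ring.DirectLimit.of _ _ i x, Ring.DirectLimit.lift_of ..⟩⟩)
    (S6280.result G f hG)

theorem map_apply_id {A B : Type u} [CommRing A] [Algebra k A] [CommRing B] [Algebra k B]
    (φ : B →ₐ[k] B) (h : ∀ y, φ y = y) (x : A ⊗[k] B) :
    Algebra.TensorProduct.map (AlgHom.id k A) φ x = x := by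
  rw [show φ = AlgHom.id k B from AlgHom.ext h, Algebra.TensorProduct.map_id]
  rfl

theorem map_apply_comp {A B C D : Type u} [CommRing A] [Algebra k A] [CommRing B] [Algebra k B]
    [CommRing C] [Algebra k C] [CommRing D] [Algebra k D]
    (φ : B →ₐ[k] C) (ψ : C →ₐ[k] D) (χ : B →ₐ[k] D) (h : ∀ y, ψ (φ y) = χ y) (x : A ⊗[k] B) :
    Algebra.TensorProduct.map (AlgHom.id k A) ψ (Algebra.TensorProduct.map (AlgHom.id k A) φ x) =
      Algebra.TensorProduct.map (AlgHom.id k A) χ x := by
  rw [← AlgHom.comp_apply, ← Algebra.TensorProduct.map_comp,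
    show ψ.comp φ = χ from AlgHom.ext h, AlgHom.comp_id]

theorem isNormalRing_tensor_family (A : Type u) [CommRing A] [Algebra k A]
    (L : Type u) [Field L] [Algebra k L] (F : Finset L → IntermediateField k L)
    (hmono : Monotone F) (hmem : ∀ x, x ∈ F {x}) (hN : ∀ s, EGA4.IsNormalRing (A ⊗[k] F s)) :
    EGA4.IsNormalRing (A ⊗[k] L) := by
  classical
  let f : ∀ s t : Finset L, s ≤ t → A ⊗[k] F s →+* A ⊗[k] F t := fun s t h =>
    (Algebra.TensorProduct.map (AlgHom.id k A) (IntermediateField.inclusion (hmono h))).toRingHom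
  haveI : DirectedSystem (fun s => A ⊗[k] F s) fun s t h => f s t h :=
    ⟨fun s x => map_apply_id (A := A) (IntermediateField.inclusion (hmono (le_refl s))) (fun y => Subtype.ext rfl) x,
      fun _ _ _ _ _ x => map_apply_comp (A := A) _ _ _ (fun y => Subtype.ext rfl) x⟩
  let g : ∀ s, A ⊗[k] F s →+* A ⊗[k] L := fun s =>
    (Algebra.TensorProduct.map (AlgHom.id k A) (F s).val).toRingHom
  have hg : ∀ s t h x, g t (f s t h x) = g s x := fun s t h x =>
    map_apply_comp (A := A) (IntermediateField.inclusion (hmono h)) (F t).val (F s).val (fun y => rfl) x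
  refine isNormalRing_of_union (fun s => A ⊗[k] F s) f (A ⊗[k] L) g hg
      (fun s => Module.Flat.lTensor_preserves_injective_linearMap (F s).val.toLinearMap
        (RingHom.injective (F s).val.toRingHom)) (fun z => ?_) hN
  induction z using TensorProduct.induction_on with
  | zero => exact ⟨∅, 0, map_zero _⟩
  | tmul a x => exact ⟨{x}, a ⊗ₜ (⟨x, hmem x⟩ : F {x}), rfl⟩
  | add x y hx hy =>
    obtain ⟨i, a, rfl⟩ := hx
    obtain ⟨j, b, rfl⟩ := hy
    exact ⟨i ∪ j, f i _ (Finset.subset_union_left : i ⊆ i ∪ j) a + f j _ (Finset.subset_union_right : j ⊆ i ∪ j) b,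
      (map_add _ _ _).trans (congrArg₂ (· + ·) (hg i _ (Finset.subset_union_left : i ⊆ i ∪ j) a) (hg j _ (Finset.subset_union_right : j ⊆ i ∪ j) b))⟩

/-- EGA IV 6.14.2, over any field extension whose finitely generated subextensions are smooth -/
theorem isNormalRing_tensor (A : Type u) [CommRing A] [Algebra k A] (hA : EGA4.IsNormalRing A)
    (L : Type u) [Field L] [Algebra k L]
    (hL : ∀ s : Finset L, Algebra.FormallySmooth k (IntermediateField.adjoin k (s : Set L))) :
    EGA4.IsNormalRing (L ⊗[k] A) := by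
  exact isNormalRing_of_ringEquiv' (Algebra.TensorProduct.comm k A L).toRingEquiv
    (isNormalRing_tensor_family A L (fun s => IntermediateField.adjoin k (s : Set L))
      (fun s t h => IntermediateField.adjoin.mono k _ _ (Finset.coe_subset.2 h))
      (fun x => IntermediateField.subset_adjoin k _ (by simp))
      fun s => haveI := hL s; isNormalRing_tensor_adjoin A hA s)

theorem isNormalRing_tensor_of_geomReduced (A : Type u) [CommRing A] [Algebra k A]
    (hA : EGA4.IsNormalRing A) (L : Type u) [Field L] [Algebra k L]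
    [Algebra.IsGeometricallyReduced k L] : EGA4.IsNormalRing (L ⊗[k] A) :=
  isNormalRing_tensor A hA L fun s =>
    haveI : Algebra.IsGeometricallyReduced k (IntermediateField.adjoin k (s : Set L)) :=
      Algebra.IsGeometricallyReduced.of_injective (IntermediateField.adjoin k (s : Set L)).val
        (RingHom.injective _)
    (Sep.formallySmooth_iff_isGeometricallyReduced k _).2 inferInstance

theorem isNormalRing_tensor_of_perfectField [PerfectField k] (A : Type u) [CommRing A] [Algebra k A]
    (hA : EGA4.IsNormalRing A) (L : Type u) [Field L] [Algebra k L] :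
    EGA4.IsNormalRing (L ⊗[k] A) :=
  isNormalRing_tensor A hA L fun _ => FieldFS.formallySmooth_of_perfectField k _

end Groth.Agent.Branch14.NormalTensor
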