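import Groth.Agent.Lib.Branch14.Birational
import Groth.Agent.Lib.Branch14.NormalTensor
import Groth.Agent.Lib.Branch14.FlatMono
import Groth.Agent.Lib.Branch14.Corollaries
import Mathlib.FieldTheory.PurelyInseparable.PerfectClosure

/-!
# Geometrically unibranch local rings under base change (EGA IV 6.15)
-/

set_option backward.isDefEq.respectTransparency.types false
set_option linter.style.haveILetI false
set_option linter.unusedSectionVars false

universe u

open scoped TensorProduct
open IsLocalRing

namespace Groth.Agent.Branch14.GUT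

theorem one_le_numGeomBranches (A : Type u) [CommRing A] [IsLocalRing A] :
    1 ≤ Brnch.numGeomBranches A := by
  rw [← card_minimalPrimes_strictHenselization A (Hens.Hsh A)]
  obtain ⟨p, hp, -⟩ := Ideal.exists_minimalPrimes_le
    (I := (⊥ : Ideal (Hens.Hsh A))) (J := maximalIdeal (Hens.Hsh A)) bot_le
  exact Set.one_le_encard_iff_nonempty.2 ⟨p, hp⟩

/-- geometric unibranchness descends along flat local homomorphisms -/
theorem isGeomUnibranch_of_flat (A B : Type u) [CommRing A] [IsLocalRing A] [CommRing B]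
    [IsLocalRing B] [Algebra A B] [IsLocalHom (algebraMap A B)] [Module.Flat A B]
    (hB : CAlg2.IsGeomUnibranch B) : CAlg2.IsGeomUnibranch A := by
  rw [← numGeomBranches_eq_one_iff] at hB ⊢
  exact le_antisymm ((numGeomBranches_le_of_flat A B).trans hB.le) (one_le_numGeomBranches A)

/-- A local ring mapping radicially, with nilpotent kernel, into an integrally closed domain is
geometrically unibranch. -/
theorem isGeomUnibranch_of_radicial {R D : Type u} [CommRing R] [IsLocalRing R] [CommRing D]
    [IsDomain D] [IsIntegrallyClosed D] (φ : R →+* D) (q : ℕ) [ExpChar D q]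
    (hker : RingHom.ker φ ≤ nilradical R) (hrad : ∀ d : D, ∃ (n : ℕ) (r : R), φ r = d ^ (q ^ n)) :
    CAlg2.IsGeomUnibranch R := by
  have hkeq : RingHom.ker φ = nilradical R :=
    le_antisymm hker (nilradical_le_prime _ (H := RingHom.ker_isPrime φ))
  haveI hd : IsDomain (CAlg2.red R) :=
    (Ideal.Quotient.isDomain_iff_prime _).2 (hkeq ▸ RingHom.ker_isPrime φ)
  let ρ : CAlg2.red R →+* D := Ideal.Quotient.lift _ φ fun a ha => by
    rw [← RingHom.mem_ker, hkeq]; exact ha
  have hρ : Function.Injective ρ := RingHom.lift_injective_of_ker_le_ideal _ _ hkeq.le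
  have hρL : Function.Injective ((algebraMap D (FractionRing D)).comp ρ) :=
    (IsFractionRing.injective D (FractionRing D)).comp hρ
  let g : FractionRing (CAlg2.red R) →+* FractionRing D := IsFractionRing.lift hρL
  have hg : ∀ r, g (algebraMap (CAlg2.red R) _ r) = algebraMap D _ (ρ r) :=
    IsFractionRing.lift_algebraMap hρL
  have hint : ∀ x : CAlg2.normRed R, ∃ d : D, algebraMap D (FractionRing D) d = g x.1 := fun x => by
    obtain ⟨P, hP, hPx⟩ := x.2
    refine IsIntegrallyClosed.algebraMap_eq_of_integral ⟨P.map ρ, hP.map _, ?_⟩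
    have h := congrArg g hPx
    rw [Polynomial.hom_eval₂, map_zero] at h
    rw [Polynomial.eval₂_map]
    rwa [show g.comp (algebraMap (CAlg2.red R) (FractionRing (CAlg2.red R))) =
      (algebraMap D (FractionRing D)).comp ρ from RingHom.ext hg] at h
  choose j₀ hj₀ using hint
  have hLinj := IsFractionRing.injective D (FractionRing D)
  let j : CAlg2.normRed R →+* D :=
    { toFun := j₀
      map_one' := hLinj (by rw [hj₀, map_one]; exact map_one g)
      map_mul' := fun x y => hLinj (by rw [hj₀, map_mul, hj₀, hj₀]; exact map_mul g x.1 y.1)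
      map_zero' := hLinj (by rw [hj₀, map_zero]; exact map_zero g)
      map_add' := fun x y => hLinj (by rw [hj₀, map_add, hj₀, hj₀]; exact map_add g x.1 y.1) }
  have hjinj : Function.Injective j := fun x y h => Subtype.ext (g.injective (by
    rw [← hj₀ x, ← hj₀ y]; exact congrArg _ h))
  have hjR : ∀ r : R, j (algebraMap R (CAlg2.normRed R) r) = φ r := fun r => hLinj (by
    show algebraMap D _ (j₀ _) = _
    rw [hj₀]
    exact hg (Ideal.Quotient.mk _ r))
  have hpow : ∀ x : CAlg2.normRed R, ∃ (n : ℕ) (r : R),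
      algebraMap R (CAlg2.normRed R) r = x ^ (q ^ n) := fun x => by
    obtain ⟨n, r, hr⟩ := hrad (j x)
    exact ⟨n, r, hjinj (by rw [hjR, hr, map_pow])⟩
  haveI : Algebra.IsIntegral R (CAlg2.normRed R) := isIntegral_normRed R
  have hM : ∀ M : Ideal (CAlg2.normRed R), M.IsMaximal →
      M.comap (algebraMap R (CAlg2.normRed R)) = maximalIdeal R := fun M hM =>
    IsLocalRing.eq_maximalIdeal (Ideal.isMaximal_comap_of_isIntegral_of_isMaximal M)
  have huniq : ∀ M M' : Ideal (CAlg2.normRed R), M.IsMaximal → M'.IsMaximal → M = M' := by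
    intro M M' hm hm'
    refine hm.eq_of_le hm'.ne_top fun x hx => ?_
    obtain ⟨n, r, hr⟩ := hpow x
    have h1 : r ∈ M.comap (algebraMap R (CAlg2.normRed R)) := by
      rw [Ideal.mem_comap, hr]
      exact Ideal.pow_mem_of_mem _ hx _ (Nat.pow_pos (expChar_pos D q))
    rw [hM M hm, ← hM M' hm', Ideal.mem_comap, hr] at h1
    exact hm'.isPrime.mem_of_pow_mem _ h1
  obtain ⟨M₀, hM₀⟩ := Ideal.exists_maximal (CAlg2.normRed R)
  refine ⟨⟨hd, IsLocalRing.of_unique_max_ideal ⟨M₀, hM₀, fun M hM' => huniq M M₀ hM' hM₀⟩⟩,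
    fun m' hm' x => ?_⟩
  obtain ⟨z, rfl⟩ := Ideal.Quotient.mk_surjective x
  cases ‹ExpChar D q› with
  | zero =>
    obtain ⟨n, r, hr⟩ := hpow z
    refine ⟨0, r, ?_⟩
    rw [one_pow, pow_one] at hr
    rw [pow_zero, pow_one]
    exact congrArg (Ideal.Quotient.mk m') hr
  | prime hp =>
    letI := Ideal.Quotient.field m'
    haveI : ExpChar (CAlg2.normRed R ⧸ m') q := by
      have h0 : (q : CAlg2.normRed R) = 0 := hjinj (by rw [map_natCast, map_zero, CharP.cast_eq_zero])
      haveI : Fact q.Prime := ⟨hp⟩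
      haveI : CharP (CAlg2.normRed R ⧸ m') q := by
        refine (CharP.charP_iff_prime_eq_zero hp).2 ?_
        rw [← map_natCast (Ideal.Quotient.mk m') q, h0, map_zero]
      exact ExpChar.prime hp
    obtain ⟨n, r, hr⟩ := hpow z
    refine ⟨n, r, ?_⟩
    rw [ringExpChar.eq (CAlg2.normRed R ⧸ m') q, ← map_pow]
    exact congrArg (Ideal.Quotient.mk m') hr

/-- Localised form. -/
theorem isGeomUnibranch_atPrime_of_radicial {R S : Type u} [CommRing R] [CommRing S] (φ : R →+* S)
    (hS : EGA4.IsNormalRing S) (q : ℕ) [ExpChar S q] (hS0 : ∀ n : ℕ, (n : S) = 0 ∨ IsUnit (n : S))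
    (hker : RingHom.ker φ ≤ nilradical R) (hrad : ∀ s : S, ∃ (n : ℕ) (r : R), φ r = s ^ (q ^ n))
    (P : Ideal R) [P.IsPrime] : CAlg2.IsGeomUnibranch (Localization.AtPrime P) := by
  letI := φ.toAlgebra
  haveI : Algebra.IsIntegral R S := ⟨fun s => by
    obtain ⟨n, r, hr⟩ := hrad s
    refine IsIntegral.of_pow (Nat.pow_pos (expChar_pos S q) : 0 < q ^ n) ?_
    rw [← hr]
    exact isIntegral_algebraMap⟩
  obtain ⟨Q, -, hQ, hQP⟩ := Ideal.exists_ideal_over_prime_of_isIntegral (S := S) P ⊥
    (show RingHom.ker φ ≤ P from hker.trans (nilradical_le_prime P))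
  haveI := hQ
  obtain ⟨hd, hic⟩ := hS Q
  let ψ := Localization.localRingHom P Q φ hQP.symm
  haveI : ExpChar (Localization.AtPrime Q) q := by
    cases ‹ExpChar S q› with
    | zero =>
      haveI : CharZero (Localization.AtPrime Q) := charZero_of_inj_zero fun n hn => by
        rcases hS0 n with h | h
        · exact Nat.cast_eq_zero.1 h
        · exact absurd hn (by rw [← map_natCast (algebraMap S (Localization.AtPrime Q)) n]; exact (h.map _).ne_zero)
      exact ExpChar.zero
    | prime hp =>
      haveI : Fact q.Prime := ⟨hp⟩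
      haveI : CharP (Localization.AtPrime Q) q := by
        refine (CharP.charP_iff_prime_eq_zero hp).2 ?_
        rw [← map_natCast (algebraMap S (Localization.AtPrime Q)) q, CharP.cast_eq_zero, map_zero]
      exact ExpChar.prime hp
  have hpos : ∀ n, 0 < q ^ n := fun n => Nat.pow_pos (expChar_pos S q)
  refine isGeomUnibranch_of_radicial ψ q (fun x hx => ?_) fun d => ?_
  · obtain ⟨a, t, rfl⟩ := IsLocalization.exists_mk'_eq P.primeCompl x
    rw [RingHom.mem_ker, Localization.localRingHom_mk', IsLocalization.mk'_eq_zero_iff] at hx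
    obtain ⟨⟨s, hs⟩, hsa⟩ := hx
    obtain ⟨n, r, hr⟩ := hrad s
    have h : φ (r * a ^ (q ^ n)) = 0 := by
      rw [map_mul, hr, map_pow, ← mul_pow, show s * φ a = 0 from hsa, zero_pow (hpos n).ne']
    obtain ⟨m, hm⟩ := mem_nilradical.1 (hker h)
    have hrP : r ∉ P := fun hr' => hs (hQ.mem_of_pow_mem _ (show s ^ (q ^ n) ∈ Q by
      rw [← hr]; exact hQP.ge hr'))
    refine mem_nilradical.2 ⟨q ^ n * m, ?_⟩
    rw [pow_mul, ← IsLocalization.mk'_pow, ← IsLocalization.mk'_pow, IsLocalization.mk'_eq_zero_iff]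
    exact ⟨⟨r ^ m, fun h' => hrP (Ideal.IsPrime.mem_of_pow_mem ‹_› _ h')⟩, by rw [← mul_pow]; exact hm⟩
  · obtain ⟨b, t, rfl⟩ := IsLocalization.exists_mk'_eq Q.primeCompl d
    obtain ⟨n, a, ha⟩ := hrad b
    obtain ⟨m, t', ht'⟩ := hrad t
    have ht'P : t' ∉ P := fun h' => t.2 (hQ.mem_of_pow_mem _ (show (t : S) ^ (q ^ m) ∈ Q by
      rw [← ht']; exact hQP.ge h'))
    refine ⟨n + m, IsLocalization.mk' _ (a ^ (q ^ m))
      (⟨t' ^ (q ^ n), fun h' => ht'P (Ideal.IsPrime.mem_of_pow_mem ‹_› _ h')⟩ : P.primeCompl), ?_⟩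
    rw [Localization.localRingHom_mk', ← IsLocalization.mk'_pow]
    congr 1
    · rw [map_pow, ha, ← pow_mul, ← pow_add]
    · refine Subtype.ext ?_
      show φ (t' ^ (q ^ n)) = (t : S) ^ (q ^ (n + m))
      rw [map_pow, ht', ← pow_mul, ← pow_add, Nat.add_comm]

theorem gu_atPrime_equiv {R R' : Type u} [CommRing R] [CommRing R'] (e : R ≃+* R') (Q : Ideal R)
    [Q.IsPrime] : (∀ (P' : Ideal R') [P'.IsPrime], P' = Q.comap e.symm.toRingHom →
      CAlg2.IsGeomUnibranch (Localization.AtPrime P')) ↔ CAlg2.IsGeomUnibranch (Localization.AtPrime Q) := by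
  let P' := Q.comap e.symm.toRingHom
  haveI : P'.IsPrime := Ideal.comap_isPrime _ _
  have hPQ : Q.primeCompl.map e.toMonoidHom = P'.primeCompl := by
    ext z
    constructor
    · rintro ⟨w, hw, rfl⟩ h'
      exact hw (by simpa [P'] using h')
    · intro hz
      exact ⟨e.symm z, hz, e.apply_symm_apply z⟩
  have h := Bir.gu_congr
    (IsLocalization.ringEquivOfRingEquiv (Localization.AtPrime Q) (Localization.AtPrime P') e hPQ)
  exact ⟨fun hh => h.2 (hh P' rfl), fun hQ P'' _ hP'' => by subst hP''; exact h.1 hQ⟩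

section Normal

variable (k A : Type u) [Field k] [CommRing A] [IsDomain A] [IsIntegrallyClosed A] [Algebra k A]

theorem isNormalRing_of_isIntegrallyClosed (A : Type u) [CommRing A] [IsDomain A]
    [IsIntegrallyClosed A] : EGA4.IsNormalRing A := fun p _ =>
  ⟨IsLocalization.isDomain_localization p.primeCompl_le_nonZeroDivisors,
    isIntegrallyClosed_of_isLocalization _ p.primeCompl p.primeCompl_le_nonZeroDivisors⟩

/-- Over an algebraically closed extension. -/
theorem isGeomUnibranch_tensor_algClosed (K : Type u) [Field K] [IsAlgClosed K] [Algebra k K]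
    (P : Ideal (K ⊗[k] A)) [P.IsPrime] : CAlg2.IsGeomUnibranch (Localization.AtPrime P) := by
  obtain ⟨q, hq⟩ := ExpChar.exists k
  haveI : ExpChar K q := expChar_of_injective_ringHom (algebraMap k K).injective q
  let kp := perfectClosure k K
  haveI : PerfectField kp := inferInstance
  let KA := FractionRing A
  let Ω := AlgebraicClosure KA
  haveI : Algebra.IsAlgebraic k kp := inferInstance
  let emb : kp →ₐ[k] Ω := IsAlgClosed.lift
  haveI : ExpChar KA q := expChar_of_injective_ringHom (algebraMap k KA).injective q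
  haveI : ExpChar Ω q := expChar_of_injective_ringHom (algebraMap KA Ω).injective q
  let L := perfectClosure KA Ω
  haveI : FaithfulSMul A L := FaithfulSMul.trans A KA L
  let A₁ := integralClosure A L
  haveI : IsIntegrallyClosed A₁ := by
    haveI : Algebra.IsAlgebraic A L := IsFractionRing.comap_isAlgebraic_iff.mpr
      (inferInstance : Algebra.IsAlgebraic KA L)
    haveI : IsFractionRing A₁ L := integralClosure.isFractionRing_of_algebraic
      (fun x h => FaithfulSMul.algebraMap_injective A L (h.trans (map_zero _).symm))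
    exact (IsIntegrallyClosed.integralClosure_eq_bot_iff L).mp integralClosure_idem
  have hkp : ∀ c : kp, emb c ∈ L := fun c => by
    obtain ⟨n, r, hr⟩ := (mem_perfectClosure_iff_pow_mem q).1 c.2
    refine (mem_perfectClosure_iff_pow_mem q).2 ⟨n, algebraMap k KA r, ?_⟩
    rw [← IsScalarTower.algebraMap_apply, ← map_pow emb,
      show c ^ (q ^ n) = algebraMap k kp r from Subtype.ext hr.symm, emb.commutes]
  have hint : ∀ c : kp, IsIntegral A (⟨emb c, hkp c⟩ : L) := fun c => by
    obtain ⟨n, r, hr⟩ := (mem_perfectClosure_iff_pow_mem q).1 c.2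
    refine IsIntegral.of_pow (Nat.pow_pos (expChar_pos k q) : 0 < q ^ n) ?_
    have h : (⟨emb c, hkp c⟩ : L) ^ (q ^ n) = algebraMap A L (algebraMap k A r) := Subtype.ext (by
      show emb c ^ (q ^ n) = algebraMap A Ω (algebraMap k A r)
      rw [← map_pow emb, show c ^ (q ^ n) = algebraMap k kp r from Subtype.ext hr.symm, emb.commutes,
        ← IsScalarTower.algebraMap_apply])
    rw [h]
    exact isIntegral_algebraMap
  let κ : kp →+* A₁ :=
    { toFun := fun c => ⟨⟨emb c, hkp c⟩, hint c⟩
      map_one' := Subtype.ext (Subtype.ext (map_one emb))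
      map_mul' := fun x y => Subtype.ext (Subtype.ext (map_mul emb x y))
      map_zero' := Subtype.ext (Subtype.ext (map_zero emb))
      map_add' := fun x y => Subtype.ext (Subtype.ext (map_add emb x y)) }
  letI : Algebra kp A₁ := κ.toAlgebra
  letI : Algebra k A₁ := ((algebraMap A A₁).comp (algebraMap k A)).toAlgebra
  haveI : IsScalarTower k A A₁ := IsScalarTower.of_algebraMap_eq fun r => rfl
  haveI : IsScalarTower k kp A₁ := IsScalarTower.of_algebraMap_eq fun r => Subtype.ext (Subtype.ext
    ((IsScalarTower.algebraMap_apply k A Ω r).symm.trans (emb.commutes r).symm))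
  have hN : EGA4.IsNormalRing (K ⊗[kp] A₁) :=
    NormalTensor.isNormalRing_tensor_of_perfectField A₁ (isNormalRing_of_isIntegrallyClosed A₁) K
  let θ : K ⊗[k] A →ₐ[k] K ⊗[kp] A₁ := Algebra.TensorProduct.lift
    ((Algebra.TensorProduct.includeLeft : K →ₐ[kp] K ⊗[kp] A₁).restrictScalars k)
    (((Algebra.TensorProduct.includeRight : A₁ →ₐ[kp] K ⊗[kp] A₁).restrictScalars k).comp
      (IsScalarTower.toAlgHom k A A₁)) fun _ _ => .all _ _
  haveI : Nontrivial (K ⊗[kp] A₁) :=
    Algebra.TensorProduct.nontrivial_of_algebraMap_injective_of_isDomain kp _ _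
      (algebraMap kp K).injective (algebraMap kp A₁).injective
  haveI : ExpChar (K ⊗[kp] A₁) q :=
    expChar_of_injective_ringHom (algebraMap K (K ⊗[kp] A₁)).injective q
  refine isGeomUnibranch_atPrime_of_radicial θ.toRingHom hN q ?_ ?_ ?_ P
  · intro n
    rcases eq_or_ne (n : K) 0 with h | h
    · exact .inl (by rw [← map_natCast (algebraMap K (K ⊗[kp] A₁)), h, map_zero])
    · exact .inr (by rw [← map_natCast (algebraMap K (K ⊗[kp] A₁))]; exact h.isUnit.map _)
  · -- the kernel is nilpotent
    let j : K ⊗[k] A →ₐ[k] K ⊗[k] A₁ :=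
      Algebra.TensorProduct.map (AlgHom.id k K) (IsScalarTower.toAlgHom k A A₁)
    let B := K ⊗[k] A₁
    let π : B →+* CAlg2.red B := Ideal.Quotient.mk _
    haveI : ExpChar B q := by
      haveI : Nontrivial B := Algebra.TensorProduct.nontrivial_of_algebraMap_injective_of_isDomain k _ _
        (algebraMap k K).injective (algebraMap k A₁).injective
      exact expChar_of_injective_ringHom (algebraMap K B).injective q
    have hsame : ∀ c : kp, π (algebraMap kp K c ⊗ₜ[k] 1) = π (1 ⊗ₜ[k] algebraMap kp A₁ c) := by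
      intro c
      obtain ⟨n, r, hr⟩ := (mem_perfectClosure_iff_pow_mem q).1 c.2
      have hc : c ^ (q ^ n) = algebraMap k kp r := Subtype.ext hr.symm
      refine Ideal.Quotient.eq.2 (mem_nilradical.2 ⟨q ^ n, ?_⟩)
      rw [sub_pow_expChar_pow, Algebra.TensorProduct.tmul_pow, Algebra.TensorProduct.tmul_pow,
        one_pow, one_pow, ← map_pow, ← map_pow, hc, ← IsScalarTower.algebraMap_apply,
        ← IsScalarTower.algebraMap_apply, sub_eq_zero, Algebra.algebraMap_eq_smul_one,
        Algebra.algebraMap_eq_smul_one, TensorProduct.smul_tmul]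
    let jl : K →+* CAlg2.red B := π.comp Algebra.TensorProduct.includeLeftRingHom
    let jr : A₁ →+* CAlg2.red B := π.comp (Algebra.TensorProduct.includeRight : A₁ →ₐ[k] B).toRingHom
    let back : K ⊗[kp] A₁ →ₐ[kp] CAlg2.red B := Algebra.TensorProduct.lift
      { jl with commutes' := fun c => rfl }
      { jr with commutes' := fun c => (hsame c).symm }
      fun _ _ => .all _ _
    have hback : ∀ z, back (θ z) = π (j z) := by
      intro z
      induction z using TensorProduct.induction_on with
      | zero => simp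
      | add x y hx hy => simp only [map_add, hx, hy]
      | tmul x a =>
        show back _ = _
        simp only [θ, j, Algebra.TensorProduct.lift_tmul, Algebra.TensorProduct.map_tmul,
          AlgHom.restrictScalars_apply, Algebra.TensorProduct.includeLeft_apply, AlgHom.comp_apply,
          Algebra.TensorProduct.includeRight_apply, Algebra.TensorProduct.tmul_mul_tmul, mul_one, one_mul]
        show π (x ⊗ₜ 1) * π (1 ⊗ₜ _) = _
        rw [← map_mul, Algebra.TensorProduct.tmul_mul_tmul, mul_one, one_mul]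
        rfl
    intro z hz
    have h := hback z
    rw [show θ z = 0 from hz, map_zero] at h
    obtain ⟨n, hn⟩ : IsNilpotent (j z) := mem_nilradical.1 (Ideal.Quotient.eq_zero_iff_mem.1 h.symm)
    refine mem_nilradical.2 ⟨n, ?_⟩
    refine (Module.Flat.lTensor_preserves_injective_linearMap (M := K)
      (IsScalarTower.toAlgHom k A A₁).toLinearMap ?_) ?_
    · intro x y hxy
      exact FaithfulSMul.algebraMap_injective A L (congrArg Subtype.val hxy)
    · show j (z ^ n) = j 0
      rw [map_pow, hn, map_zero]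
  · intro s
    induction s using TensorProduct.induction_on with
    | zero => exact ⟨0, 0, by rw [map_zero, zero_pow]; exact (Nat.pow_pos (expChar_pos K q)).ne'⟩
    | tmul x a =>
      obtain ⟨n, z, hz⟩ := (mem_perfectClosure_iff_pow_mem q).1 (a.1 : L).2
      have hzi : IsIntegral A z := by
        refine (isIntegral_algebraMap_iff (algebraMap KA Ω).injective).1 ?_
        rw [hz]
        exact (a.2.map (L.val.restrictScalars A)).pow _
      obtain ⟨r, rfl⟩ := IsIntegrallyClosed.algebraMap_eq_of_integral hzi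
      refine ⟨n, (x ^ (q ^ n)) ⊗ₜ r, ?_⟩
      show θ ((x ^ (q ^ n)) ⊗ₜ r) = _
      rw [Algebra.TensorProduct.tmul_pow, show a ^ (q ^ n) = algebraMap A A₁ r from
        Subtype.ext (Subtype.ext (hz.symm.trans (IsScalarTower.algebraMap_apply A KA Ω r).symm))]
      simp [θ, Algebra.TensorProduct.tmul_mul_tmul]
    | add x y hx hy =>
      obtain ⟨n, a, ha⟩ := hx
      obtain ⟨m, b, hb⟩ := hy
      refine ⟨n + m, a ^ (q ^ m) + b ^ (q ^ n), ?_⟩
      rw [map_add, map_pow, map_pow, ha, hb, add_pow_expChar_pow, ← pow_mul, ← pow_mul, ← pow_add,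
        ← pow_add, Nat.add_comm m n]

/-- EGA IV 6.15.6: a normal algebra is geometrically unibranch after any field extension. -/
theorem isGeomUnibranch_tensor_normal (k' : Type u) [Field k'] [Algebra k k']
    (p : Ideal (k' ⊗[k] A)) [p.IsPrime] : CAlg2.IsGeomUnibranch (Localization.AtPrime p) := by
  let K := AlgebraicClosure k'
  let T := K ⊗[k'] (k' ⊗[k] A)
  letI : Algebra (k' ⊗[k] A) T := Algebra.TensorProduct.rightAlgebra
  haveI : Module.FaithfullyFlat k' K := inferInstance
  haveI : Algebra.IsPushout k' K (k' ⊗[k] A) T := inferInstance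
  haveI : Module.FaithfullyFlat (k' ⊗[k] A) T :=
    Module.FaithfullyFlat.of_linearEquiv _ _
      (Algebra.IsPushout.equiv k' (k' ⊗[k] A) K T).symm.toLinearEquiv
  obtain ⟨P, hP, hPp⟩ := Ideal.exists_isPrime_liesOver_of_faithfullyFlat (A := k' ⊗[k] A) (B := T) p
  let S := Localization.AtPrime P
  let R := Localization.AtPrime p
  let : Algebra R S := Localization.AtPrime.algebraOfLiesOver p P
  have : Localization.AtPrime.IsLiesOverAlgebra p P := ⟨rfl⟩
  have : Module.Flat R S := inferInstance
  have : IsLocalHom (algebraMap R S) := Localization.isLocalHom_localRingHom p P _ _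
  refine isGeomUnibranch_of_flat R S ?_
  let e : T ≃+* K ⊗[k] A := (Algebra.TensorProduct.cancelBaseChange k k' K K A).toRingEquiv
  exact (gu_atPrime_equiv e P).1 fun P' _ _ => isGeomUnibranch_tensor_algClosed k A K P'

end Normal

end Groth.Agent.Branch14.GUT
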