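import Mathlib.RingTheory.Artinian.Module
import Mathlib.RingTheory.Artinian.Ring
import Mathlib.RingTheory.IntegralClosure.IntegrallyClosed
import Mathlib.RingTheory.Localization.FractionRing
import Mathlib.RingTheory.Localization.AtPrime.Basic
import Mathlib.RingTheory.Spectrum.Maximal.Defs
import Mathlib.RingTheory.KrullDimension.Zero
import Mathlib.RingTheory.LocalProperties.Reduced
import Mathlib.Algebra.BigOperators.Fin
import Mathlib.RingTheory.Ideal.BigOperators
import Mathlib.RingTheory.Ideal.MinimalPrime.Noetherian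

/-!
# Integral closure of a reduced ring with finitely many minimal primes in its total ring of fractions
-/

namespace Groth.Agent.Branch14

universe u

variable (A : Type u) [CommRing A] [IsReduced A]

/-- Primes of the total ring of fractions contract to minimal primes. -/
theorem comap_mem_minimalPrimes (hfin : (minimalPrimes A).Finite) (Q : Ideal (FractionRing A))
    [hQ : Q.IsPrime] : Q.comap (algebraMap A (FractionRing A)) ∈ minimalPrimes A := by
  have hd : Disjoint ((Q.comap (algebraMap A (FractionRing A)) : Ideal A) : Set A)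
      (nonZeroDivisors A : Set A) := by
    rw [Set.disjoint_left]
    intro a ha hs
    exact hQ.ne_top (Ideal.eq_top_of_isUnit_mem _ ha
      (IsLocalization.map_units (FractionRing A) ⟨a, hs⟩))
  have hsub : ((Q.comap (algebraMap A (FractionRing A)) : Ideal A) : Set A) ⊆
      ⋃ p ∈ minimalPrimes A, (p : Set A) := by
    intro a ha
    by_contra hn
    apply Set.disjoint_left.1 hd ha
    rw [SetLike.mem_coe, mem_nonZeroDivisors_iff_right]
    intro x hx
    have : ∀ p ∈ minimalPrimes A, x ∈ p := fun p hp =>
      (hp.1.1.mem_or_mem (show x * a ∈ p by rw [hx]; exact zero_mem _)).resolve_right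
        fun h => hn (Set.mem_biUnion hp h)
    have hnil : x ∈ nilradical A := by
      rw [nilradical, Ideal.zero_eq_bot, ← Ideal.sInf_minimalPrimes, Ideal.mem_sInf]
      exact fun {p} hp => this p hp
    rwa [nilradical_eq_zero] at hnil
  obtain ⟨p, hp, hle⟩ := (Ideal.subset_union_prime_finite hfin ⊥ ⊥ (fun p hp _ _ => hp.1.1)).1 hsub
  have hprime : (Q.comap (algebraMap A (FractionRing A))).IsPrime := inferInstance
  exact (le_antisymm hle (hp.2 ⟨hprime, bot_le⟩ hle)) ▸ hp

/-- The total ring of fractions is a finite product of fields. -/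
theorem isArtinianRing_fractionRing (hfin : (minimalPrimes A).Finite) :
    IsArtinianRing (FractionRing A) := by
  have hinj : Function.Injective (fun Q : PrimeSpectrum (FractionRing A) =>
      Q.asIdeal.comap (algebraMap A (FractionRing A))) := fun Q Q' h => PrimeSpectrum.ext (by
    rw [← IsLocalization.map_comap (nonZeroDivisors A) (FractionRing A) Q.asIdeal,
      ← IsLocalization.map_comap (nonZeroDivisors A) (FractionRing A) Q'.asIdeal]
    exact congrArg _ h)
  have hmax : ∀ P : Ideal (FractionRing A), P.IsPrime → P.IsMaximal := fun P hP => by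
    obtain ⟨M, hM, hPM⟩ := P.exists_le_maximal hP.ne_top
    have h : (⟨P, hP⟩ : PrimeSpectrum (FractionRing A)) = ⟨M, hM.isPrime⟩ := hinj
      (le_antisymm (Ideal.comap_mono hPM)
        ((comap_mem_minimalPrimes A hfin M).2 ⟨inferInstance, bot_le⟩ (Ideal.comap_mono hPM)))
    rw [show P = M from congrArg PrimeSpectrum.asIdeal h]
    exact hM
  have : IsReduced (FractionRing A) := inferInstance
  have : Finite (minimalPrimes A) := hfin.to_subtype
  have : Finite (PrimeSpectrum (FractionRing A)) := Finite.of_injective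
    (fun Q => (⟨_, comap_mem_minimalPrimes A hfin Q.asIdeal⟩ : minimalPrimes A))
    fun Q Q' h => hinj (congrArg Subtype.val h)
  have hcop : Pairwise fun Q Q' : PrimeSpectrum (FractionRing A) =>
      IsCoprime Q.asIdeal Q'.asIdeal := fun Q Q' h => by
    have := hmax _ Q.isPrime
    have := hmax _ Q'.isPrime
    exact Ideal.isCoprime_iff_sup_eq.2
      (Ideal.IsMaximal.coprime_of_ne ‹_› ‹_› fun e => h (PrimeSpectrum.ext e))
  let f : FractionRing A →+* ∀ Q : PrimeSpectrum (FractionRing A), FractionRing A ⧸ Q.asIdeal :=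
    RingHom.pi fun Q => Ideal.Quotient.mk Q.asIdeal
  have hbij : Function.Bijective f := by
    refine ⟨(injective_iff_map_eq_zero f).2 fun x hx => ?_, fun c => ?_⟩
    · have hn : x ∈ nilradical (FractionRing A) := by
        rw [nilradical_eq_sInf, Ideal.mem_sInf]
        exact fun {P} hP => Ideal.Quotient.eq_zero_iff_mem.1 (congrFun hx ⟨P, hP⟩)
      rwa [nilradical_eq_zero] at hn
    · obtain ⟨r, hr⟩ := Ideal.pi_quotient_surjective hcop c
      exact ⟨r, funext hr⟩
  have : ∀ Q : PrimeSpectrum (FractionRing A), IsArtinianRing (FractionRing A ⧸ Q.asIdeal) :=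
    fun Q => by
      have := hmax _ Q.isPrime
      let _ := Ideal.Quotient.field Q.asIdeal
      infer_instance
  exact (RingEquiv.ofBijective f hbij).symm.surjective.isArtinianRing
    (f := (RingEquiv.ofBijective f hbij).symm.toRingHom)

variable [IsArtinianRing (FractionRing A)]

variable (P : MaximalSpectrum (FractionRing A))

/-- the minimal prime below a factor of the total ring of fractions -/
noncomputable def factorPrime : Ideal A :=
  RingHom.ker (algebraMap A (FractionRing A ⧸ P.asIdeal))

noncomputable instance factorField : Field (FractionRing A ⧸ P.asIdeal) :=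
  Ideal.Quotient.field P.asIdeal

instance factorPrime_isPrime : (factorPrime A P).IsPrime := RingHom.ker_isPrime _

/-- projection of the integral closure to a factor -/
noncomputable def proj : integralClosure A (FractionRing A) →ₐ[A] integralClosure A (FractionRing A ⧸ P.asIdeal) :=
  ((IsScalarTower.toAlgHom A (FractionRing A) (FractionRing A ⧸ P.asIdeal)).comp (Subalgebra.val _)).codRestrict _
    fun b => b.2.map (IsScalarTower.toAlgHom A (FractionRing A) (FractionRing A ⧸ P.asIdeal))

lemma coe_proj (b : integralClosure A (FractionRing A)) :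
    (proj A P b : FractionRing A ⧸ P.asIdeal) = Ideal.Quotient.mk P.asIdeal (b : FractionRing A) := rfl

lemma exists_idem : ∃ e : FractionRing A, e * e = e ∧ e - 1 ∈ P.asIdeal ∧
    ∀ Q : MaximalSpectrum (FractionRing A), Q ≠ P → e ∈ Q.asIdeal := by
  classical
  let E := IsArtinianRing.equivPi (FractionRing A)
  have hE : ∀ (x : FractionRing A) (Q : MaximalSpectrum (FractionRing A)), E x Q = Ideal.Quotient.mk Q.asIdeal x :=
    fun x Q => IsArtinianRing.equivPi_apply _ x Q
  refine ⟨E.symm (Pi.single P 1), E.injective ?_, ?_, fun Q hQ => ?_⟩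
  · rw [map_mul, E.apply_symm_apply]
    funext Q
    rcases eq_or_ne Q P with rfl | h <;> simp [*]
  · rw [← Ideal.Quotient.eq_zero_iff_mem, map_sub, ← hE, E.apply_symm_apply, map_one]
    simp
  · rw [← Ideal.Quotient.eq_zero_iff_mem, ← hE, E.apply_symm_apply]
    simp [hQ]

lemma eq_of_mk_eq {x y : FractionRing A}
    (h : ∀ Q : MaximalSpectrum (FractionRing A), Ideal.Quotient.mk Q.asIdeal x = Ideal.Quotient.mk Q.asIdeal y) :
    x = y := by
  apply (IsArtinianRing.equivPi (FractionRing A)).injective
  funext Q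
  simpa [IsArtinianRing.equivPi_apply] using h Q

lemma mul_idem_eq_zero {e x : FractionRing A} (he : ∀ Q : MaximalSpectrum (FractionRing A), Q ≠ P → e ∈ Q.asIdeal)
    (hx : Ideal.Quotient.mk P.asIdeal x = 0) : x * e = 0 := by
  refine eq_of_mk_eq A fun Q => ?_
  rw [map_mul, map_zero]
  rcases eq_or_ne Q P with rfl | h
  · rw [hx, zero_mul]
  · rw [Ideal.Quotient.eq_zero_iff_mem.2 (he Q h), mul_zero]

lemma proj_surjective : Function.Surjective (proj A P) := by
  rintro ⟨c, hc⟩
  obtain ⟨x, rfl⟩ := Ideal.Quotient.mk_surjective c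
  obtain ⟨e, hee, heP, heQ⟩ := exists_idem A P
  obtain ⟨f, hf, hfx⟩ := hc
  refine ⟨⟨x * e, f * Polynomial.X, hf.mul Polynomial.monic_X, ?_⟩, Subtype.ext ?_⟩
  · rw [← Polynomial.aeval_def, map_mul, Polynomial.aeval_X]
    have h0 : Ideal.Quotient.mk P.asIdeal (Polynomial.aeval (x * e) f) = 0 := by
      rw [← Ideal.Quotient.mkₐ_eq_mk A, ← Polynomial.aeval_algHom_apply, map_mul,
        Ideal.Quotient.mkₐ_eq_mk, show Ideal.Quotient.mk P.asIdeal e = 1 from by
          rw [← map_one (Ideal.Quotient.mk P.asIdeal)]; exact Ideal.Quotient.eq.2 heP, mul_one]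
      exact hfx
    rw [mul_left_comm, mul_idem_eq_zero A P heQ h0, mul_zero]
  · rw [coe_proj]
    show Ideal.Quotient.mk P.asIdeal (x * e) = Ideal.Quotient.mk P.asIdeal x
    rw [map_mul, show Ideal.Quotient.mk P.asIdeal e = 1 from by
      rw [← map_one (Ideal.Quotient.mk P.asIdeal)]; exact Ideal.Quotient.eq.2 heP, mul_one]

/-- the factor as an algebra over the quotient by its minimal prime -/
noncomputable instance factorAlgebra : Algebra (A ⧸ factorPrime A P) (FractionRing A ⧸ P.asIdeal) :=
  (RingHom.kerLift (algebraMap A (FractionRing A ⧸ P.asIdeal))).toAlgebra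

instance factorTower : IsScalarTower A (A ⧸ factorPrime A P) (FractionRing A ⧸ P.asIdeal) :=
  IsScalarTower.of_algebraMap_eq fun _ => rfl

theorem isFractionRing_factor : IsFractionRing (A ⧸ factorPrime A P) (FractionRing A ⧸ P.asIdeal) := by
  haveI : FaithfulSMul (A ⧸ factorPrime A P) (FractionRing A ⧸ P.asIdeal) :=
    (faithfulSMul_iff_algebraMap_injective _ _).2 (RingHom.kerLift_injective _)
  refine IsFractionRing.of_field _ _ fun z => ?_
  obtain ⟨z, rfl⟩ := Ideal.Quotient.mk_surjective z
  obtain ⟨⟨a, b, hb⟩, h⟩ := IsLocalization.surj (nonZeroDivisors A) z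
  refine ⟨Ideal.Quotient.mk _ a, Ideal.Quotient.mk _ b, ?_⟩
  have hu : Ideal.Quotient.mk P.asIdeal (algebraMap A (FractionRing A) b) ≠ 0 := by
    intro h0
    exact P.isMaximal.ne_top (Ideal.eq_top_of_isUnit_mem _ (Ideal.Quotient.eq_zero_iff_mem.1 h0)
      (IsLocalization.map_units (FractionRing A) ⟨b, hb⟩))
  show Ideal.Quotient.mk P.asIdeal z = Ideal.Quotient.mk P.asIdeal (algebraMap A (FractionRing A) a) /
    Ideal.Quotient.mk P.asIdeal (algebraMap A (FractionRing A) b)
  rw [eq_div_iff hu, ← map_mul]
  exact congrArg _ h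

lemma mem_integralClosure_factor {c : FractionRing A ⧸ P.asIdeal} :
    c ∈ integralClosure A (FractionRing A ⧸ P.asIdeal) ↔ IsIntegral (A ⧸ factorPrime A P) c :=
  ⟨fun h => IsIntegral.tower_top h, fun h => by
    haveI : Algebra.IsIntegral A (A ⧸ factorPrime A P) := ⟨fun x => by
      obtain ⟨a, rfl⟩ := Ideal.Quotient.mk_surjective x
      exact isIntegral_algebraMap⟩
    exact isIntegral_trans _ h⟩

theorem isIntegrallyClosed_factor :
    IsIntegrallyClosed (integralClosure A (FractionRing A ⧸ P.asIdeal)) := by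
  haveI := isFractionRing_factor A P
  haveI : IsFractionRing (integralClosure A (FractionRing A ⧸ P.asIdeal)) (FractionRing A ⧸ P.asIdeal) := by
    refine IsFractionRing.of_field _ _ fun z => ?_
    obtain ⟨a, b, hb, rfl⟩ := IsFractionRing.div_surjective (A ⧸ factorPrime A P) z
    obtain ⟨a, rfl⟩ := Ideal.Quotient.mk_surjective a
    obtain ⟨b, rfl⟩ := Ideal.Quotient.mk_surjective b
    exact ⟨algebraMap A _ a, algebraMap A _ b, rfl⟩
  refine (isIntegrallyClosed_iff (FractionRing A ⧸ P.asIdeal)).2 fun {x} hx => ?_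
  exact ⟨⟨x, isIntegral_trans x hx⟩, rfl⟩

/-- the local rings of the integral closure are integrally closed domains -/
theorem localization_normal (q : Ideal (integralClosure A (FractionRing A))) [q.IsPrime] :
    IsDomain (Localization.AtPrime q) ∧ IsIntegrallyClosed (Localization.AtPrime q) := by
  classical
  have hmem : ∀ e : FractionRing A, e * e = e → e ∈ integralClosure A (FractionRing A) := fun e he =>
    ⟨Polynomial.X ^ 2 - Polynomial.X, Polynomial.monic_X_pow_sub (Polynomial.degree_X_le.trans_lt (by decide)), by simp [pow_two, he]⟩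
  haveI : Fintype (MaximalSpectrum (FractionRing A)) := Fintype.ofFinite _
  choose e hee heP heQ using fun Q => exists_idem A Q
  have hsum : (∑ Q, e Q) = 1 := eq_of_mk_eq A fun Q => by
    rw [map_sum, map_one, Finset.sum_eq_single Q (fun R _ hR => Ideal.Quotient.eq_zero_iff_mem.2 (heQ R Q hR.symm))
      (fun h => absurd (Finset.mem_univ Q) h), ← map_one (Ideal.Quotient.mk Q.asIdeal)]
    exact Ideal.Quotient.eq.2 (heP Q)
  obtain ⟨P, hP⟩ : ∃ P, (⟨e P, hmem _ (hee P)⟩ : integralClosure A (FractionRing A)) ∉ q := by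
    by_contra h
    push Not at h
    apply (inferInstance : q.IsPrime).ne_top
    rw [Ideal.eq_top_iff_one]
    have : (1 : integralClosure A (FractionRing A)) = ∑ Q, ⟨e Q, hmem _ (hee Q)⟩ := Subtype.ext (by push_cast; exact hsum.symm)
    rw [this]
    exact Ideal.sum_mem _ fun Q _ => h Q
  set E : integralClosure A (FractionRing A) := ⟨e P, hmem _ (hee P)⟩
  let C := integralClosure A (FractionRing A ⧸ P.asIdeal)
  let π : integralClosure A (FractionRing A) →+* C := (proj A P).toRingHom
  have hπ : Function.Surjective π := proj_surjective A P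
  have hker : ∀ x, π x = 0 → E * x = 0 := fun x hx => Subtype.ext (by
    show e P * (x : FractionRing A) = 0
    rw [mul_comm]
    exact mul_idem_eq_zero A P (heQ P) (congrArg Subtype.val hx))
  have hker' : RingHom.ker π ≤ q := fun x hx =>
    ((inferInstance : q.IsPrime).mem_or_mem (show E * x ∈ q by rw [hker x hx]; exact zero_mem _)).resolve_left hP
  haveI : (q.map π).IsPrime := Ideal.map_isPrime_of_surjective hπ hker'
  have hmap : ∀ x, π x ∈ q.map π ↔ x ∈ q := fun x => by
    rw [← Ideal.mem_comap, Ideal.comap_map_of_surjective' _ hπ, sup_eq_left.2 hker']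
  letI : Algebra (integralClosure A (FractionRing A)) (Localization.AtPrime (q.map π)) :=
    ((algebraMap C (Localization.AtPrime (q.map π))).comp π).toAlgebra
  haveI : IsLocalization.AtPrime (Localization.AtPrime (q.map π)) q := by
    refine (isLocalization_iff _ _).2 ⟨fun y => ?_, fun z => ?_, fun {x y} hxy => ?_⟩
    · exact IsLocalization.map_units (Localization.AtPrime (q.map π)) (⟨π y, fun h => y.2 ((hmap _).1 h)⟩ : (q.map π).primeCompl)
    · obtain ⟨⟨a, b, hb⟩, h⟩ := IsLocalization.surj (q.map π).primeCompl z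
      obtain ⟨a, rfl⟩ := hπ a
      obtain ⟨b, rfl⟩ := hπ b
      exact ⟨(a, ⟨b, fun h' => hb ((hmap _).2 h')⟩), h⟩
    · obtain ⟨⟨c, hc⟩, h⟩ := (IsLocalization.eq_iff_exists (q.map π).primeCompl _).1 hxy
      obtain ⟨c, rfl⟩ := hπ c
      refine ⟨⟨c * E, fun h' => ((inferInstance : q.IsPrime).mem_or_mem h').elim (fun h'' => hc ((hmap _).2 h'')) hP⟩, ?_⟩
      have h0 : π (c * x - c * y) = 0 := by rw [map_sub, map_mul, map_mul]; exact sub_eq_zero.2 h
      show c * E * x = c * E * y
      linear_combination hker _ h0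
  let ε : Localization.AtPrime q ≃+* Localization.AtPrime (q.map π) :=
    (IsLocalization.algEquiv q.primeCompl (Localization.AtPrime q) (Localization.AtPrime (q.map π))).toRingEquiv
  haveI := isIntegrallyClosed_factor A P
  haveI : IsDomain (Localization.AtPrime (q.map π)) :=
    IsLocalization.isDomain_of_local_atPrime ‹_›
  haveI : IsIntegrallyClosed (Localization.AtPrime (q.map π)) :=
    isIntegrallyClosed_of_isLocalization _ (q.map π).primeCompl (Ideal.primeCompl_le_nonZeroDivisors _)
  exact ⟨ε.toMulEquiv.isDomain, IsIntegrallyClosed.of_equiv ε.symm⟩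

end Groth.Agent.Branch14
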