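import Groth.Agent.Lib.Branch14.Elementary
import Groth.Agent.Lib.Branch14.BirScheme
import Groth.Agent.Lib.Hens.Noetherian
import Mathlib.RingTheory.Ideal.KrullsHeightTheorem

/-!
# Geometrically unibranch rings and connectedness of punctured spectra of strict henselizations
-/

set_option backward.isDefEq.respectTransparency.types false
set_option maxSynthPendingDepth 3

universe u

open IsLocalRing

namespace Groth.Agent.Branch14

open Groth.Agent.Hens Groth.Agent.StalkHens14

variable {R : Type u} [CommRing R]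

theorem algebraMap_algebraicClosure_eq_zero (P : Ideal R) [P.IsPrime] (r : R) :
    algebraMap R (AlgebraicClosure P.ResidueField) r = 0 ↔ r ∈ P := by
  rw [IsScalarTower.algebraMap_apply R P.ResidueField, map_eq_zero_iff _ (RingHom.injective _),
    Ideal.algebraMap_residueField_eq_zero]

theorem comap_maximalIdeal_hs (P : Ideal R) [P.IsPrime] :
    (maximalIdeal (Hs R (AlgebraicClosure P.ResidueField))).comap (algebraMap R _) = P := by
  ext r
  rw [Ideal.mem_comap, ← Hs.res_eq_zero_iff, AlgHom.commutes, algebraMap_algebraicClosure_eq_zero]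

theorem isConnected_punctured_of_unique {S : Type u} [CommRing S] [IsLocalRing S]
    (h : CAlgX.HasUniqueMinimalPrime S) (hm : maximalIdeal S ∉ minimalPrimes S) :
    IsConnected ({closedPoint S}ᶜ : Set (PrimeSpectrum S)) := by
  obtain ⟨p, hp, hu⟩ := h
  let η : PrimeSpectrum S := ⟨p, hp.1.1⟩
  have hη : η ∈ ({closedPoint S}ᶜ : Set (PrimeSpectrum S)) := fun he =>
    hm (show (closedPoint S).asIdeal ∈ minimalPrimes S from congrArg PrimeSpectrum.asIdeal he ▸ hp)
  refine ⟨⟨η, hη⟩, isPreconnected_singleton.subset_closure (Set.singleton_subset_iff.2 hη) ?_⟩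
  intro q _
  obtain ⟨p', hp', hle⟩ := Ideal.exists_minimalPrimes_le (I := ⊥) (J := q.asIdeal) bot_le
  obtain rfl := hu p' hp'
  exact ((PrimeSpectrum.le_iff_specializes η q).1 hle).mem_closure

theorem comap_mem_minimalPrimes_nbhd {K : Type u} [Field K] [Algebra R K] (i : Nbhd R K)
    (𝔭 : Ideal (Hs R K)) (h𝔭 : 𝔭 ∈ minimalPrimes (Hs R K)) :
    𝔭.comap ((Hs.of i).toRingHom.comp (algebraMap i.S i.G)) ∈ minimalPrimes i.S := by
  have := h𝔭.1.1
  set φ := (Hs.of i).toRingHom.comp (algebraMap i.S i.G) with hφ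
  have hφR : φ.comp (algebraMap R i.S) = algebraMap R (Hs R K) := RingHom.ext fun r => by
    show Hs.of i (algebraMap i.S i.G (algebraMap R i.S r)) = _
    rw [← IsScalarTower.algebraMap_apply, AlgHom.commutes]
  have hmin := comap_mem_minimalPrimes_of_flat (R := R) 𝔭 h𝔭
  refine ⟨⟨inferInstance, bot_le⟩, fun Q hQ hle => ?_⟩
  have := hQ.1
  have h1 : Q.comap (algebraMap R i.S) ≤ 𝔭.comap (algebraMap R (Hs R K)) := by
    rw [← hφR, ← Ideal.comap_comap]
    exact Ideal.comap_mono hle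
  have h2 : Q.comap (algebraMap R i.S) = (𝔭.comap φ).comap (algebraMap R i.S) := by
    rw [Ideal.comap_comap, hφR]
    exact le_antisymm h1 (hmin.2 ⟨inferInstance, bot_le⟩ h1)
  exact (@Algebra.QuasiFinite.eq_of_le_of_under_eq R i.S _ _ _ inferInstance Q (𝔭.comap φ) _ _ hle h2).ge

theorem mem_minimalPrimes_localization {S : Type u} [CommRing S] (r : Ideal S) [r.IsPrime]
    (p : Ideal S) (hp : p ∈ minimalPrimes S) (hle : p ≤ r) :
    p.map (algebraMap S (Localization.AtPrime r)) ∈ minimalPrimes (Localization.AtPrime r) ∧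
      (p.map (algebraMap S (Localization.AtPrime r))).comap (algebraMap S _) = p := by
  have := hp.1.1
  have hdisj : Disjoint (r.primeCompl : Set S) p :=
    Set.disjoint_left.2 fun x hx hxp => hx (hle hxp)
  have hP := IsLocalization.isPrime_of_isPrime_disjoint r.primeCompl (Localization.AtPrime r) p ‹_› hdisj
  have hc := IsLocalization.comap_map_of_isPrime_disjoint r.primeCompl (Localization.AtPrime r) ‹_› hdisj
  refine ⟨⟨⟨hP, bot_le⟩, fun Q hQ hQle => ?_⟩, hc⟩
  have := hQ.1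
  have h1 : Q.comap (algebraMap S _) ≤ p := (Ideal.comap_mono hQle).trans hc.le
  exact Ideal.map_le_iff_le_comap.2 (hp.2 ⟨inferInstance, bot_le⟩ h1)

theorem exists_point_lift {S : Type u} [CommRing S] [Algebra R S] [Algebra.Etale R S] (P : Ideal R)
    [P.IsPrime] (r : Ideal S) [r.IsPrime] (h : r.comap (algebraMap R S) = P) :
    ∃ σ : S →ₐ[R] AlgebraicClosure P.ResidueField, RingHom.ker σ = r := by
  have : r.LiesOver P := ⟨h.symm⟩
  let _ := Localization.AtPrime.algebraOfLiesOver P r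
  have : Algebra.IsSeparable P.ResidueField r.ResidueField := inferInstance
  let τ : r.ResidueField →ₐ[P.ResidueField] AlgebraicClosure P.ResidueField := IsSepClosed.lift
  refine ⟨(τ.restrictScalars R).comp (IsScalarTower.toAlgHom R S r.ResidueField), ?_⟩
  ext x
  show τ (algebraMap S r.ResidueField x) = 0 ↔ _
  rw [map_eq_zero, Ideal.algebraMap_residueField_eq_zero]

theorem isNoetherianRing_hs [IsNoetherianRing R] (P : Ideal R) [P.IsPrime] :
    IsNoetherianRing (Hs R (AlgebraicClosure P.ResidueField)) := by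
  obtain ⟨_, _, _, _⟩ := HensPt14.exists_isStrictHenselization (K := AlgebraicClosure P.ResidueField)
    P (algebraMap_algebraicClosure_eq_zero P) (Localization.AtPrime P)
  have : IsNoetherianRing (Localization.AtPrime P) := IsLocalization.isNoetherianRing P.primeCompl _ ‹_›
  exact Hens.strictHenselization_isNoetherianRing (Localization.AtPrime P) _

/-- Connected punctured spectra at all nonminimal primes force a single geometric branch. -/
theorem subsingleton_minimalPrimes_hs [IsNoetherianRing R]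
    (hconn : ∀ (P : Ideal R) [P.IsPrime], P ∉ minimalPrimes R →
      IsConnected ({closedPoint (Hs R (AlgebraicClosure P.ResidueField))}ᶜ :
        Set (PrimeSpectrum (Hs R (AlgebraicClosure P.ResidueField)))))
    (P : Ideal R) [P.IsPrime] :
    (minimalPrimes (Hs R (AlgebraicClosure P.ResidueField))).Subsingleton := by
  suffices ∀ (h : ℕ∞) (P : Ideal R) [P.IsPrime], P.height = h →
      (minimalPrimes (Hs R (AlgebraicClosure P.ResidueField))).Subsingleton from this _ P rfl
  intro h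
  induction h using WellFoundedLT.induction with
  | _ h ih =>
    intro P _ hP
    intro 𝔭₁ h₁ 𝔭₂ h₂
    by_contra hne
    let K := AlgebraicClosure P.ResidueField
    have := h₁.1.1
    have := h₂.1.1
    have hmax : ∀ 𝔭 : Ideal (Hs R K), 𝔭.IsPrime → 𝔭.comap (algebraMap R (Hs R K)) = P →
        𝔭 = maximalIdeal (Hs R K) := fun 𝔭 h𝔭 he =>
      @Hens.Hs.eq_of_le_of_under_eq R _ K _ _ 𝔭 _ h𝔭 inferInstance (le_maximalIdeal h𝔭.ne_top)
        (he.trans (comap_maximalIdeal_hs P).symm)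
    have hnot : P ∉ minimalPrimes R := fun hmin => by
      have key : ∀ 𝔭 ∈ minimalPrimes (Hs R K), 𝔭 = maximalIdeal (Hs R K) := fun 𝔭 h𝔭 => by
        have := h𝔭.1.1
        have hle : 𝔭.comap (algebraMap R (Hs R K)) ≤ P :=
          (Ideal.comap_mono (le_maximalIdeal this.ne_top)).trans (comap_maximalIdeal_hs P).le
        exact hmax 𝔭 this (le_antisymm hle (hmin.2 ⟨inferInstance, bot_le⟩ hle))
      exact hne ((key _ h₁).trans (key _ h₂).symm)
    have hmne : ∀ 𝔭 ∈ minimalPrimes (Hs R K), 𝔭 ≠ maximalIdeal (Hs R K) := fun 𝔭 h𝔭 he => by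
      have := comap_mem_minimalPrimes_of_flat (R := R) 𝔭 h𝔭
      rw [he, comap_maximalIdeal_hs] at this
      exact hnot this
    have := isNoetherianRing_hs P
    let rest : Set (PrimeSpectrum (Hs R K)) :=
      ⋃ 𝔭 ∈ minimalPrimes (Hs R K) \ {𝔭₁}, PrimeSpectrum.zeroLocus (𝔭 : Set (Hs R K))
    have hrest : IsClosed rest :=
      ((Ideal.finite_minimalPrimes_of_isNoetherianRing (Hs R K) ⊥).subset Set.sdiff_subset).isClosed_biUnion
        fun _ _ => PrimeSpectrum.isClosed_zeroLocus _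
    have hmemU : ∀ (𝔭 : Ideal (Hs R K)) (h : 𝔭 ∈ minimalPrimes (Hs R K)),
        (⟨𝔭, h.1.1⟩ : PrimeSpectrum (Hs R K)) ∈ ({closedPoint _}ᶜ : Set (PrimeSpectrum (Hs R K))) :=
      fun 𝔭 h he => hmne 𝔭 h (congrArg PrimeSpectrum.asIdeal he)
    have hcover : ({closedPoint _}ᶜ : Set (PrimeSpectrum (Hs R K))) ⊆
        PrimeSpectrum.zeroLocus (𝔭₁ : Set (Hs R K)) ∪ rest := fun q _ => by
      obtain ⟨p, hp, hle⟩ := Ideal.exists_minimalPrimes_le (I := ⊥) (J := q.asIdeal) bot_le
      by_cases hp1 : p = 𝔭₁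
      · exact Or.inl (hp1 ▸ hle)
      · exact Or.inr (Set.mem_biUnion (x := p) ⟨hp, hp1⟩ hle)
    obtain ⟨Q', hQ'U, hQ'1, hQ'r⟩ := isPreconnected_closed_iff.1 (hconn P hnot).isPreconnected _ _
      (PrimeSpectrum.isClosed_zeroLocus (𝔭₁ : Set (Hs R K))) hrest hcover
      ⟨⟨𝔭₁, h₁.1.1⟩, hmemU _ h₁, le_refl 𝔭₁⟩
      ⟨⟨𝔭₂, h₂.1.1⟩, hmemU _ h₂, Set.mem_biUnion (x := 𝔭₂) ⟨h₂, Ne.symm hne⟩ (le_refl 𝔭₂)⟩
    simp only [rest, Set.mem_iUnion] at hQ'r
    obtain ⟨𝔭₃, ⟨h₃, h31⟩, hQ'3⟩ := hQ'r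
    have := h₃.1.1
    let P' : Ideal R := Q'.asIdeal.comap (algebraMap R (Hs R K))
    have hP'le : P' ≤ P :=
      (Ideal.comap_mono (le_maximalIdeal Q'.2.ne_top)).trans (comap_maximalIdeal_hs P).le
    have hP'lt : P' < P := lt_of_le_of_ne hP'le fun he =>
      hQ'U (PrimeSpectrum.ext (hmax Q'.asIdeal Q'.2 he))
    obtain ⟨x, hx3, hx1⟩ : ∃ x ∈ 𝔭₃, x ∉ 𝔭₁ := by
      by_contra hall
      push Not at hall
      exact h31 (le_antisymm hall (h₁.2 ⟨h₃.1.1, bot_le⟩ hall))
    obtain ⟨i, y, rfl⟩ := Hs.exists_of x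
    obtain ⟨⟨a, s⟩, has⟩ := IsLocalization.surj i.q.primeCompl y
    let φ : i.S →+* Hs R K := (Hs.of i).toRingHom.comp (algebraMap i.S i.G)
    have hsu : IsUnit (φ s) := (IsLocalization.map_units i.G s).map (Hs.of i)
    have hφa : Hs.of i y * φ s = φ a := by
      show _ * Hs.of i _ = Hs.of i _
      rw [← map_mul, has]
    have ha3 : φ a ∈ 𝔭₃ := hφa ▸ 𝔭₃.mul_mem_right _ hx3
    have ha1 : φ a ∉ 𝔭₁ := fun h => by
      rw [← hφa, mul_comm, Ideal.unit_mul_mem_iff_mem _ hsu] at h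
      exact hx1 h
    let r : Ideal i.S := Q'.asIdeal.comap φ
    have hr : r.comap (algebraMap R i.S) = P' := by
      rw [Ideal.comap_comap]
      congr 1
      refine RingHom.ext fun z => ?_
      show Hs.of i (algebraMap i.S i.G (algebraMap R i.S z)) = _
      rw [← IsScalarTower.algebraMap_apply, AlgHom.commutes]
    obtain ⟨σ', hσ'⟩ := exists_point_lift P' r hr
    let i' : Nbhd R (AlgebraicClosure P'.ResidueField) := ⟨i.n, i.J, i.etale, σ'⟩
    have hq' : i'.q = r := hσ'
    have m1 := mem_minimalPrimes_localization i'.q (𝔭₁.comap φ) (comap_mem_minimalPrimes_nbhd i 𝔭₁ h₁)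
      (hq'.symm ▸ Ideal.comap_mono hQ'1)
    have m3 := mem_minimalPrimes_localization i'.q (𝔭₃.comap φ) (comap_mem_minimalPrimes_nbhd i 𝔭₃ h₃)
      (hq'.symm ▸ Ideal.comap_mono hQ'3)
    have hsub := ih _ (hP ▸ Ideal.height_strict_mono_of_isPrime_of_isPrime hP'lt) P' rfl
    have heq := Set.encard_le_one_iff.1
      ((encard_nbhd_le i').trans (Set.encard_le_one_iff_subsingleton.2 hsub)) _ _ m1.1 m3.1
    have : 𝔭₁.comap φ = 𝔭₃.comap φ := m1.2.symm.trans ((congrArg _ heq).trans m3.2)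
    exact ha1 (this.ge ha3)

end Groth.Agent.Branch14
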