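import Groth.Agent.Lib.Branch14.UnrEtaleGlobal
import Groth.Agent.Lib.Branch14.Corollaries
import Groth.Agent.Lib.Branch14.FibreRing
import Mathlib.AlgebraicGeometry.Morphisms.FlatMono
import Mathlib.AlgebraicGeometry.Morphisms.Separated

/-!
# Sections of unramified separated morphisms over geometrically unibranch points (EGA IV 18.10.16)
-/

universe u

set_option backward.isDefEq.respectTransparency.types false
set_option maxSynthPendingDepth 3
set_option linter.style.haveILetI false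

open AlgebraicGeometry CategoryTheory CategoryTheory.Limits IsLocalRing TopologicalSpace

namespace Groth.Agent.Branch14

variable {X Y : Scheme.{u}}

theorem exists_min_point (x : X) (h : (nilradical (X.presheaf.stalk x)).IsPrime) :
    ∃ ξ : X, ξ ⤳ x ∧ ∀ t : X, t ⤳ x → ξ ⤳ t := by
  let p₀ : Spec (X.presheaf.stalk x) := ⟨nilradical (X.presheaf.stalk x), h⟩
  have hr : ∀ t : X, t ∈ Set.range (X.fromSpecStalk x) ↔ t ⤳ x := fun t => by
    rw [Scheme.range_fromSpecStalk]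
    rfl
  refine ⟨X.fromSpecStalk x p₀, (hr _).1 ⟨_, rfl⟩, fun t ht => ?_⟩
  obtain ⟨P, rfl⟩ := (hr t).2 ht
  exact ((PrimeSpectrum.le_iff_specializes p₀ P).1 (nilradical_le_prime _ (H := P.2))).map
    (X.fromSpecStalk x).continuous

theorem eq_of_specializes_of_fibre (g : X ⟶ Y) [LocallyQuasiFinite g] {a b : X} (hab : a ⤳ b)
    (h : g a = g b) : a = b := by
  haveI := (g.isDiscrete_preimage_singleton (g b)).to_subtype
  let a' : ↥(g ⁻¹' {g b}) := ⟨a, h⟩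
  let b' : ↥(g ⁻¹' {g b}) := ⟨b, rfl⟩
  have h' : a' ⤳ b' := (subtype_specializes_iff a' b').2 hab
  exact congrArg Subtype.val h'.eq

/-- Around a unibranch point of a reduced scheme with locally finite components there is an
irreducible open neighbourhood. -/
theorem exists_irreducible_nhd
    (hcomp : LocallyFinite (fun Z : ↥(irreducibleComponents ↥Y) => (Z : Set ↥Y)))
    (y : Y) (hy : (nilradical (Y.presheaf.stalk y)).IsPrime) :
    ∃ W : Y.Opens, y ∈ W ∧ IsIrreducible (W : Set Y) := by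
  obtain ⟨ξ, hξy, hξ⟩ := exists_min_point y hy
  have hmem : y ∈ closure ({ξ} : Set Y) := hξy.mem_closure
  let S := {Z : ↥(irreducibleComponents ↥Y) | y ∉ (Z : Set Y)}
  have hcl : IsClosed (⋃ Z : S, ((Z : ↥(irreducibleComponents ↥Y)) : Set Y)) :=
    (hcomp.comp_injective (g := ((↑) : S → ↥(irreducibleComponents ↥Y))) Subtype.val_injective).isClosed_iUnion
      fun Z => isClosed_of_mem_irreducibleComponents _ Z.1.2
  let W : Y.Opens := ⟨_, hcl.isOpen_compl⟩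
  have hyW : y ∈ W := by
    simp only [W, Opens.mem_mk, Set.mem_compl_iff, Set.mem_iUnion, not_exists]
    exact fun Z => Z.2
  refine ⟨W, hyW, ⟨y, hyW⟩, ?_⟩
  refine (isIrreducible_singleton (x := ξ)).closure.isPreirreducible.open_subset W.2 fun w hw => ?_
  obtain ⟨Z, hZ, hwZ⟩ := exists_mem_irreducibleComponents_subset_of_isIrreducible {w} isIrreducible_singleton
  have hyZ : y ∈ Z := by
    by_contra h
    exact hw (Set.mem_iUnion.2 ⟨⟨⟨Z, hZ⟩, h⟩, hwZ rfl⟩)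
  have hη := genericPoints.isGenericPoint_ofComponent ⟨Z, hZ⟩
  have h1 : ξ ⤳ (genericPoints.ofComponent ⟨Z, hZ⟩).1 := hξ _ (hη.specializes hyZ)
  exact (h1.trans (hη.specializes (hwZ rfl))).mem_closure

theorem mono_of_generic (g : X ⟶ Y) [Etale g] [IsSeparated g] (η : Y) (hη : ∀ z : X, η ⤳ g z)
    (O : X.Opens) (hO : ∀ z : X, g z = η → z ∈ O) [Mono (O.ι ≫ g)] : Mono g := by
  haveI : IsOpenImmersion (pullback.diagonal g) := inferInstance
  have hsurj : Function.Surjective (pullback.diagonal g) := by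
    intro z
    haveI : Etale (pullback.fst g g) := inferInstance
    haveI : Flat (pullback.fst g g ≫ g) := inferInstance
    obtain ⟨w, hw, hwη⟩ := Flat.generalizingMap (pullback.fst g g ≫ g)
      (show η ⤳ (pullback.fst g g ≫ g) z from hη _)
    -- the part of the product over `O`
    let P : (pullback g g).Opens := pullback.fst g g ⁻¹ᵁ O ⊓ pullback.snd g g ⁻¹ᵁ O
    have h1 : pullback.fst g g w ∈ O := hO _ hwη
    have h2 : pullback.snd g g w ∈ O := by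
      refine hO _ ?_
      rw [← Scheme.Hom.comp_apply, ← pullback.condition]
      exact hwη
    let a : (P : Scheme.{u}) ⟶ (O : Scheme.{u}) :=
      IsOpenImmersion.lift O.ι (P.ι ≫ pullback.fst g g) (by
        rw [Scheme.Opens.range_ι]
        rintro _ ⟨p, rfl⟩
        exact p.2.1)
    let b : (P : Scheme.{u}) ⟶ (O : Scheme.{u}) :=
      IsOpenImmersion.lift O.ι (P.ι ≫ pullback.snd g g) (by
        rw [Scheme.Opens.range_ι]
        rintro _ ⟨p, rfl⟩
        exact p.2.2)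
    have ha : a ≫ O.ι = P.ι ≫ pullback.fst g g := IsOpenImmersion.lift_fac _ _ _
    have hb : b ≫ O.ι = P.ι ≫ pullback.snd g g := IsOpenImmersion.lift_fac _ _ _
    have hab : a = b := by
      rw [← cancel_mono (O.ι ≫ g), reassoc_of% ha, reassoc_of% hb, pullback.condition]
    have hP : P.ι = (P.ι ≫ pullback.fst g g) ≫ pullback.diagonal g := by
      apply pullback.hom_ext
      · rw [Category.assoc, pullback.diagonal, pullback.lift_fst, Category.comp_id]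
      · rw [Category.assoc, pullback.diagonal, pullback.lift_snd, Category.comp_id, ← hb, ← ha, hab]
    have hwd : w ∈ Set.range (pullback.diagonal g) :=
      ⟨pullback.fst g g w, (congr($(hP) ⟨w, ⟨h1, h2⟩⟩)).symm⟩
    have hclosed : IsClosed (Set.range (pullback.diagonal g)) :=
      (pullback.diagonal g).isClosedEmbedding.isClosed_range
    exact hw.mem_closed hclosed hwd
  haveI : Surjective (pullback.diagonal g) := ⟨hsurj⟩
  haveI : IsIso (pullback.diagonal g) := IsOpenImmersion.isIso _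
  exact (pullback.isIso_diagonal_iff g).1 inferInstance

variable (f : X ⟶ Y) [IsSeparated f] [LocallyOfFiniteType f] [FormallyUnramified f]

theorem isOpenImmersion_section {U : Y.Opens} (u : (U : Scheme.{u}) ⟶ X) (hu : u ≫ f = U.ι) :
    IsOpenImmersion u := by
  haveI : Etale (u ≫ f) := hu ▸ inferInstance
  haveI : Etale u := Etale.of_comp u f
  haveI : Mono (u ≫ f) := hu ▸ inferInstance
  haveI : Mono u := mono_of_mono u f
  exact IsOpenImmersion.of_flat_of_mono u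

/-- EGA IV 18.10.16 at one point -/
theorem exists_section_nhd [IsReduced Y]
    (hcomp : LocallyFinite (fun Z : ↥(irreducibleComponents ↥Y) => (Z : Set ↥Y)))
    (U : Y.Opens) (hU : Dense (U : Set ↥Y)) (u : (U : Scheme.{u}) ⟶ X) (hu : u ≫ f = U.ι)
    (y : Y) (hy : CAlg2.IsGeomUnibranch (Y.presheaf.stalk y))
    (hZ : (closure (Set.range u) ∩ f ⁻¹' {y}).Nonempty) :
    ∃ (V : Y.Opens) (v : (V : Scheme.{u}) ⟶ X), y ∈ V ∧ v ≫ f = V.ι ∧
      Y.homOfLE (inf_le_left : U ⊓ V ≤ U) ≫ u = Y.homOfLE (inf_le_right : U ⊓ V ≤ V) ≫ v := by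
  obtain ⟨x, hxc, (hxy : f x = y)⟩ := hZ
  subst hxy
  have hnil : (nilradical (Y.presheaf.stalk (f x))).IsPrime :=
    (Ideal.Quotient.isDomain_iff_prime _).1 hy.1.1
  haveI hdom : IsDomain (Y.presheaf.stalk (f x)) := by
    rw [nilradical_eq_zero, Ideal.zero_eq_bot] at hnil
    exact IsDomain.of_bot_isPrime _
  obtain ⟨W, hxW, hWirr⟩ := exists_irreducible_nhd hcomp (f x) hnil
  haveI : PreirreducibleSpace (W : Scheme.{u}) := Subtype.preirreducibleSpace hWirr.isPreirreducible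
  haveI : Nonempty (W : Scheme.{u}) := ⟨⟨f x, hxW⟩⟩
  haveI : IrreducibleSpace (W : Scheme.{u}) := ⟨inferInstance⟩
  haveI : IsIntegral (W : Scheme.{u}) := isIntegral_of_irreducibleSpace_of_isReduced _
  let η := genericPoint (W : Scheme.{u})
  have hη : ∀ w : (W : Scheme.{u}), (η.1 : Y) ⤳ w.1 := fun w =>
    (genericPoint_specializes (w : (W : Scheme.{u}))).map continuous_subtype_val
  have hηW : (η.1 : Y) ∈ W := η.2
  have hηU : (η.1 : Y) ∈ U := by
    obtain ⟨z, hzW, hzU⟩ := hU.inter_open_nonempty W W.2 ⟨_, hxW⟩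
    exact (hη ⟨z, hzW⟩).mem_open U.2 hzU
  let t₀ : X := u ⟨η.1, hηU⟩
  have hsec : ∀ a : U, f (u a) = a.1 := fun a => congr($hu a)
  have ht₀ : f t₀ = η.1 := hsec _
  have ht₀x : t₀ ⤳ x := by
    rw [specializes_iff_mem_closure, mem_closure_iff]
    intro O hO hxO
    obtain ⟨z, ⟨hzO, hzW⟩, a, rfl⟩ := mem_closure_iff.1 hxc (O ∩ (f ⁻¹ᵁ W : Set X))
      (hO.inter (f ⁻¹ᵁ W).2) ⟨hxO, hxW⟩
    have h' : (⟨η.1, hηU⟩ : U) ⤳ a :=
      (subtype_specializes_iff _ _).2 (hη ⟨a.1, hsec a ▸ hzW⟩)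
    exact ⟨t₀, (h'.map u.continuous).mem_open hO hzO, rfl⟩
  -- étale neighbourhood
  have ht₀W : t₀ ∈ f ⁻¹ᵁ W := show f t₀ ∈ W from ht₀ ▸ hηW
  let x' : (f ⁻¹ᵁ W : X.Opens) := ⟨x, hxW⟩
  let t' : (f ⁻¹ᵁ W : X.Opens) := ⟨t₀, ht₀W⟩
  have hx' : (f ∣_ W) x' = ⟨f x, hxW⟩ := Subtype.ext (congr($(morphismRestrict_ι f W) x'))
  have ht' : (f ∣_ W) t' = η := Subtype.ext ((congr($(morphismRestrict_ι f W) t')).trans ht₀)
  have hWGU : CAlg2.IsGeomUnibranch ((W : Scheme.{u}).presheaf.stalk ((f ∣_ W) x')) := by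
    rw [hx', ← numGeomBranches_eq_one_iff,
      numGeomBranches_of_ringEquiv (W.stalkIso ⟨f x, hxW⟩).commRingCatIsoToRingEquiv,
      numGeomBranches_eq_one_iff]
    exact hy
  haveI : FormallyUnramified (f ∣_ W) := IsZariskiLocalAtTarget.restrict ‹_› W
  obtain ⟨U₁, hxU₁, hU₁⟩ := exists_etale_nhd (f ∣_ W) x' inferInstance hWGU
    (injective_stalkMap_of_specializes (f ∣_ W) (x' := t')
      ((subtype_specializes_iff t' x').2 ht₀x) ht') (Or.inr inferInstance)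
    ⟨⊤, trivial, IsZariskiLocalAtSource.comp (P := @FormallyUnramified) inferInstance _⟩
  obtain ⟨W₀, hW₀, hxW₀, hW₀W⟩ := exists_isAffineOpen_mem_and_subset (x := f x) (U := W) hxW
  obtain ⟨X₁, hX₁, hxX₁, hX₁'⟩ := exists_isAffineOpen_mem_and_subset (x := x)
    (U := (f ⁻¹ᵁ W).ι ''ᵁ U₁ ⊓ f ⁻¹ᵁ W₀) ⟨⟨x', hxU₁, rfl⟩, hxW₀⟩
  have hX₁U : X₁ ≤ (f ⁻¹ᵁ W).ι ''ᵁ U₁ := fun z hz => (hX₁' hz).1
  haveI : Etale (((f ⁻¹ᵁ W).ι ''ᵁ U₁).ι ≫ f) := by
    rw [show ((f ⁻¹ᵁ W).ι ''ᵁ U₁).ι ≫ f =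
        ((f ⁻¹ᵁ W).ι.isoImage U₁).inv ≫ (U₁.ι ≫ f ∣_ W) ≫ W.ι by
      rw [Category.assoc, morphismRestrict_ι, Scheme.Hom.isoImage_inv_ι_assoc]]
    infer_instance
  let g : (X₁ : Scheme.{u}) ⟶ Y := X₁.ι ≫ f
  haveI : Etale g := by
    rw [show g = X.homOfLE hX₁U ≫ ((f ⁻¹ᵁ W).ι ''ᵁ U₁).ι ≫ f by simp [g]]
    infer_instance
  haveI : LocallyQuasiFinite g := locallyQuasiFinite_of_formallyUnramified g
  have hgW : ∀ z : X₁, g z ∈ W := fun z => by
    obtain ⟨z', -, hz'⟩ := hX₁U z.2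
    show f z.1 ∈ W
    rw [← hz']
    exact z'.2
  haveI : IsAffine (X₁ : Scheme.{u}) := hX₁
  -- only finitely many points over `η`
  have hfin : (g ⁻¹' {η.1}).Finite := by
    haveI : IsAffine (W₀ : Scheme.{u}) := hW₀
    have hηW₀ : η.1 ∈ W₀ := (hη ⟨f x, hxW⟩).mem_open W₀.2 hxW₀
    haveI : LocallyQuasiFinite f := locallyQuasiFinite_of_formallyUnramified f
    have hle : X₁ ≤ f ⁻¹ᵁ W₀ := fun z hz => (hX₁' hz).2
    refine ((f.resLE W₀ X₁ hle).finite_preimage_singleton ⟨η.1, hηW₀⟩).subset fun z hz => ?_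
    exact Subtype.ext ((Scheme.Hom.coe_resLE_apply ..).trans hz)
  let x₁ : X₁ := ⟨x, hxX₁⟩
  let t₁ : X₁ := ⟨t₀, ht₀x.mem_open X₁.2 hxX₁⟩
  have ht₁ : g t₁ = η.1 := ht₀
  have hd₁ : IsDomain ((X₁ : Scheme.{u}).presheaf.stalk x₁) :=
    (isDomain_and_isGeomUnibranch_of_etale g x₁ hdom hy).1
  obtain ⟨ξ, hξx, hξ⟩ := exists_min_point (X := (X₁ : Scheme.{u})) x₁ (by
    haveI := hd₁
    rw [nilradical_eq_zero]; exact Ideal.isPrime_bot)
  have huniq : ∀ t : X₁, g t = η.1 → t ⤳ x₁ → t = t₁ := by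
    have key : ∀ t : X₁, g t = η.1 → t ⤳ x₁ → ξ = t := by
      intro t ht htx
      refine eq_of_specializes_of_fibre g (hξ t htx) (Specializes.antisymm ((hξ t htx).map g.continuous) ?_).eq
      rw [ht]
      exact hη ⟨g ξ, hgW ξ⟩
    intro t ht htx
    rw [← key t ht htx, ← key t₁ ht₁ ((subtype_specializes_iff t₁ x₁).2 ht₀x)]
  let C : Set X₁ := ⋃ t ∈ (g ⁻¹' {η.1}) \ {t₁}, closure {t}
  have hC : IsClosed C := hfin.sdiff.isClosed_biUnion fun t _ => isClosed_closure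
  let X₂ : (X₁ : Scheme.{u}).Opens := ⟨Cᶜ, hC.isOpen_compl⟩
  have hxX₂ : x₁ ∈ X₂ := by
    intro hxC
    obtain ⟨t, ⟨ht, htne⟩, htx⟩ := Set.mem_iUnion₂.1 hxC
    exact htne (huniq t ht (specializes_iff_mem_closure.2 htx))
  have hX₂η : ∀ z : X₂, g z.1 = η.1 → z.1 = t₁ := by
    intro z hz
    by_contra hne
    exact z.2 (Set.mem_biUnion (x := z.1) ⟨hz, hne⟩ (subset_closure rfl))
  let j : (X₂ : Scheme.{u}) ⟶ X := X₂.ι ≫ X₁.ι
  let g₂ : (X₂ : Scheme.{u}) ⟶ Y := j ≫ f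
  haveI : Etale g₂ := by rw [show g₂ = X₂.ι ≫ g from Category.assoc _ _ _]; infer_instance
  haveI := isOpenImmersion_section f u hu
  -- the open part of `X₂` lying in the section
  let O : (X₂ : Scheme.{u}).Opens := j ⁻¹ᵁ u.opensRange
  haveI : Mono (O.ι ≫ g₂) := by
    let k : (O : Scheme.{u}) ⟶ (U : Scheme.{u}) := IsOpenImmersion.lift u (O.ι ≫ j) (by
      rintro _ ⟨p, rfl⟩
      exact p.2)
    have hk : k ≫ u = O.ι ≫ j := IsOpenImmersion.lift_fac _ _ _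
    haveI : Mono (k ≫ u) := by rw [hk]; infer_instance
    haveI : Mono k := mono_of_mono k u
    rw [show O.ι ≫ g₂ = k ≫ U.ι by rw [← hu, reassoc_of% hk]]
    infer_instance
  haveI : Mono g₂ := mono_of_generic g₂ η.1 (fun z => hη ⟨_, hgW z.1⟩) O fun z hz => by
    refine ⟨⟨η.1, hηU⟩, ?_⟩
    show t₀ = (z.1 : X₁).1
    rw [hX₂η z hz]
  haveI : IsOpenImmersion g₂ := IsOpenImmersion.of_flat_of_mono g₂
  let v : (g₂.opensRange : Scheme.{u}) ⟶ X := g₂.isoOpensRange.inv ≫ j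
  have hv : v ≫ f = g₂.opensRange.ι := by
    rw [← cancel_epi g₂.isoOpensRange.hom]
    simp [v, g₂, Scheme.Hom.isoOpensRange]
  refine ⟨g₂.opensRange, v, ⟨⟨x₁, hxX₂⟩, rfl⟩, hv, ?_⟩
  -- agreement
  let a := Y.homOfLE (inf_le_left : U ⊓ g₂.opensRange ≤ U) ≫ u
  let b := Y.homOfLE (inf_le_right : U ⊓ g₂.opensRange ≤ g₂.opensRange) ≫ v
  have hab : a ≫ f = b ≫ f := by simp [a, b, hu, hv]
  haveI : IsReduced (U ⊓ g₂.opensRange : Y.Opens).toScheme := isReduced_of_isOpenImmersion (U ⊓ g₂.opensRange).ι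
  let Q : (U ⊓ g₂.opensRange : Y.Opens).toScheme.Opens := a ⁻¹ᵁ j.opensRange
  haveI : IsOpenImmersion j := inferInstance
  let a' : (Q : Scheme.{u}) ⟶ (X₂ : Scheme.{u}) := IsOpenImmersion.lift j (Q.ι ≫ a) (by
    rintro _ ⟨p, rfl⟩
    exact p.2)
  have ha' : a' ≫ j = Q.ι ≫ a := IsOpenImmersion.lift_fac _ _ _
  let b' : (Q : Scheme.{u}) ⟶ (X₂ : Scheme.{u}) :=
    Q.ι ≫ Y.homOfLE (inf_le_right : U ⊓ g₂.opensRange ≤ g₂.opensRange) ≫ g₂.isoOpensRange.inv
  have hb' : b' ≫ j = Q.ι ≫ b := by simp [b', b, v]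
  have heq : a' = b' := by
    rw [← cancel_mono g₂]
    show a' ≫ j ≫ f = b' ≫ j ≫ f
    rw [reassoc_of% ha', reassoc_of% hb', hab]
  haveI : IsDominant Q.ι := by
    refine ⟨?_⟩
    rw [DenseRange, Scheme.Opens.range_ι]
    intro z
    have hzW : (z.1 : Y) ∈ W := by
      obtain ⟨w, hw⟩ := z.2.2
      rw [← hw]
      exact hgW w.1
    have hηV : (η.1 : Y) ∈ g₂.opensRange := (hη ⟨z.1, hzW⟩).mem_open g₂.opensRange.2 z.2.2
    have hηQ : (⟨η.1, hηU, hηV⟩ : (U ⊓ g₂.opensRange : Y.Opens)) ∈ Q := by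
      refine ⟨⟨t₁, ?_⟩, congrArg u (Subtype.ext ?_)⟩
      rotate_left
      · exact (Y.homOfLE_apply (inf_le_left : U ⊓ g₂.opensRange ≤ U) ⟨η.1, hηU, hηV⟩).symm
      intro hC'
      obtain ⟨t, ⟨ht, htne⟩, htt⟩ := Set.mem_iUnion₂.1 hC'
      exact htne (eq_of_specializes_of_fibre g (specializes_iff_mem_closure.2 htt) (ht.trans ht₁.symm))
    exact closure_mono (Set.singleton_subset_iff.2 hηQ)
      ((subtype_specializes_iff (⟨η.1, hηU, hηV⟩ : (U ⊓ g₂.opensRange : Y.Opens)) z).2 (hη ⟨z.1, hzW⟩)).mem_closure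
  refine ext_of_isDominant_of_isSeparated f hab Q.ι ?_
  rw [← ha', ← hb', heq]

end Groth.Agent.Branch14
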