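import Groth.Agent.Lib.Branch14.Corollaries
import Mathlib.RingTheory.Unramified.LocalStructure

/-!
# Unramified over a geometrically unibranch point implies etale
-/

universe u

set_option backward.isDefEq.respectTransparency.types false
set_option maxSynthPendingDepth 3
set_option synthInstance.maxHeartbeats 200000

open IsLocalRing

namespace Groth.Agent.Branch14

open Groth.Agent.Hens

variable {A : Type u} [CommRing A] (p : Ideal A) [p.IsPrime]

theorem isDomain_atPrime_of_etale {C : Type u} [CommRing C] [Algebra A C] [Algebra.Etale A C]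
    (q : Ideal C) [q.IsPrime] [q.LiesOver p] (hd : IsDomain (Localization.AtPrime p))
    (hA : CAlg2.IsGeomUnibranch (Localization.AtPrime p)) :
    IsDomain (Localization.AtPrime q) := by
  let K := SeparableClosure p.ResidueField
  have hK : ∀ r, algebraMap A K r = 0 ↔ r ∈ p := fun r => by
    rw [IsScalarTower.algebraMap_apply A p.ResidueField K,
      map_eq_zero_iff _ (algebraMap p.ResidueField K).injective, Ideal.algebraMap_residueField_eq_zero]
  obtain ⟨_, _, _, _⟩ := HensPt14.exists_isStrictHenselization (K := K) p hK (Localization.AtPrime p)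
  have hH : IsDomain (Hs A K) :=
    (isReduced_and_isGeomUnibranch_iff (Localization.AtPrime p) (Hs A K)).1 ⟨inferInstance, hA⟩
  let _ := Localization.AtPrime.algebraOfLiesOver p q
  let τ : q.ResidueField →ₐ[p.ResidueField] K := IsSepClosed.lift
  let σ : C →ₐ[A] K :=
    (τ.restrictScalars A).comp (IsScalarTower.toAlgHom A C q.ResidueField)
  obtain ⟨i, e, he⟩ := Nbhd.exists_of C σ
  have key : ∀ a, e a ∈ i.q ↔ a ∈ q := fun a => by
    show i.σ (e a) = 0 ↔ _
    rw [he]
    show τ (algebraMap C q.ResidueField a) = 0 ↔ _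
    rw [_root_.map_eq_zero, Ideal.algebraMap_residueField_eq_zero]
  have hmap : q.primeCompl.map e.toRingEquiv.toMonoidHom = i.q.primeCompl := by
    ext z
    simp only [Submonoid.mem_map, Ideal.mem_primeCompl_iff]
    constructor
    · rintro ⟨a, ha, rfl⟩
      exact fun hh => ha ((key a).1 hh)
    · intro hz
      exact ⟨e.symm z, fun hh => hz (by simpa using (key (e.symm z)).2 hh), e.apply_symm_apply z⟩
  let _ : Algebra i.G (Hs A K) := (Hs.of i).toRingHom.toAlgebra
  have : IsScalarTower A i.G (Hs A K) :=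
    IsScalarTower.of_algebraMap_eq fun r => ((Hs.of i).commutes r).symm
  have : Module.Flat i.G (Hs A K) := Algebra.FormallyUnramified.flat_of_restrictScalars A i.G _
  have : IsLocalHom (algebraMap i.G (Hs A K)) := ⟨fun y hy => by
    rw [Hs.isUnit_iff] at hy
    by_contra hn
    exact hy ((Hs.res_of i y).trans ((i.res_eq_zero_iff y).2 hn))⟩
  have := Module.FaithfullyFlat.of_flat_of_isLocalHom (A := i.G) (B := Hs A K)
  let e' : Localization.AtPrime q ≃+* i.G :=
    IsLocalization.ringEquivOfRingEquiv (Localization.AtPrime q) i.G e.toRingEquiv hmap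
  exact ((FaithfulSMul.algebraMap_injective i.G (Hs A K)).comp e'.injective).isDomain
    ((algebraMap i.G (Hs A K)).comp e'.toRingHom)

/-- An unramified algebra over a geometrically unibranch point, dominant there, is etale. -/
theorem exists_etale_localization {B : Type u} [CommRing B] [Algebra A B] [Algebra.FiniteType A B]
    (q : Ideal B) [q.IsPrime] [q.LiesOver p] [Algebra.IsUnramifiedAt A q]
    (hd : IsDomain (Localization.AtPrime p)) (hA : CAlg2.IsGeomUnibranch (Localization.AtPrime p))
    (hinj : Function.Injective (Localization.localRingHom p q (algebraMap A B) (q.over_def p)))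
    (hfin : Algebra.FinitePresentation A B ∨ IsDomain A) :
    ∃ g : B, g ∉ q ∧ Algebra.Etale A (Localization.Away g) := by
  classical
  obtain ⟨r, hrq, P, φ, hφ⟩ :=
    Algebra.IsUnramifiedAt.exists_hasStandardEtaleSurjectionOn (R := A) q
  let Br := Localization.Away r
  have hdis : Disjoint (Submonoid.powers r : Set B) (q : Set B) :=
    (Ideal.disjoint_powers_iff_notMem_of_isPrime _).mpr hrq
  have hqr : (q.map (algebraMap B Br)).IsPrime :=
    IsLocalization.isPrime_of_isPrime_disjoint (.powers r) _ _ ‹_› hdis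
  have hqc : (q.map (algebraMap B Br)).comap (algebraMap B Br) = q :=
    IsLocalization.comap_map_of_isPrime_disjoint (.powers r) Br ‹_› hdis
  let qC : Ideal P.Ring := (q.map (algebraMap B Br)).comap φ.toRingHom
  have : qC.IsPrime := Ideal.comap_isPrime _ _
  have : qC.LiesOver p := ⟨by
    show p = ((q.map (algebraMap B Br)).comap φ.toRingHom).comap (algebraMap A P.Ring)
    rw [Ideal.comap_comap, show φ.toRingHom.comp (algebraMap A P.Ring) = algebraMap A Br from φ.comp_algebraMap,
      IsScalarTower.algebraMap_eq A B Br, ← Ideal.comap_comap, hqc]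
    exact q.over_def p⟩
  let D := Localization.AtPrime qC
  have hD : IsDomain D := isDomain_atPrime_of_etale p qC hd hA
  have hAD : ∀ a : A, algebraMap A D a = 0 → algebraMap A (Localization.AtPrime p) a = 0 := by
    let _ := Localization.AtPrime.algebraOfLiesOver p qC
    intro a ha
    have : Module.FaithfullyFlat (Localization.AtPrime p) D :=
      Module.FaithfullyFlat.of_flat_of_isLocalHom
    apply FaithfulSMul.algebraMap_injective (Localization.AtPrime p) D
    rw [← IsScalarTower.algebraMap_apply, ha, map_zero]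
  have hBA : ∀ (a : A) (s : B), s ∉ q → algebraMap B Br (s * algebraMap A B a) = 0 →
      algebraMap A (Localization.AtPrime p) a = 0 := by
    intro a s hs h
    obtain ⟨⟨_, n, rfl⟩, hn⟩ := (IsLocalization.map_eq_zero_iff (.powers r) Br _).1 h
    apply hinj
    rw [map_zero, Localization.localRingHom_to_map,
      IsLocalization.map_eq_zero_iff q.primeCompl]
    refine ⟨⟨r ^ n * s, fun hh => ?_⟩, by rw [← hn]; ring⟩
    rcases ‹q.IsPrime›.mem_or_mem hh with h | h
    · exact hrq (‹q.IsPrime›.mem_of_pow_mem n h)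
    · exact hs h
  -- step 1: the kernel vanishes at `qC`
  have hker : ∀ x : P.Ring, φ x = 0 → algebraMap P.Ring D x = 0 := by
    intro x hx
    let L : Ideal D := (RingHom.ker φ.toRingHom).map (algebraMap P.Ring D)
    suffices hL : L = ⊥ by
      have := Ideal.mem_map_of_mem (algebraMap P.Ring D) (show x ∈ RingHom.ker φ.toRingHom from hx)
      exact Ideal.mem_bot.1 (hL ▸ this)
    by_contra hL
    let p₀ : Ideal A := RingHom.ker (algebraMap A D)
    have hp₀ : p₀.IsPrime := RingHom.ker_isPrime _
    have hdisj : Disjoint (L : Set D) (Algebra.algebraMapSubmonoid D p₀.primeCompl : Set D) := by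
      rw [Set.disjoint_left]
      rintro _ hz ⟨a, ha, rfl⟩
      obtain ⟨⟨⟨k, hk⟩, ⟨u, hu⟩⟩, he⟩ :=
        (IsLocalization.mem_map_algebraMap_iff qC.primeCompl D).1 hz
      have h1 : algebraMap P.Ring D (algebraMap A P.Ring a * u) = algebraMap P.Ring D k := by
        rw [map_mul, ← IsScalarTower.algebraMap_apply]
        exact he
      obtain ⟨⟨t, ht⟩, ht'⟩ := (IsLocalization.eq_iff_exists qC.primeCompl D).1 h1
      have h2 : φ (t * u) * algebraMap A Br a = 0 := by
        have h3 := congrArg φ ht'
        rw [map_mul, map_mul, map_mul, show φ k = 0 from hk, mul_zero, φ.commutes] at h3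
        rw [map_mul]
        linear_combination h3
      obtain ⟨⟨b, ⟨_, n, rfl⟩⟩, hb⟩ := IsLocalization.surj (.powers r) (φ (t * u))
      have hbq : b ∉ q := by
        intro hb'
        have : φ (t * u) * algebraMap B Br (r ^ n) ∈ q.map (algebraMap B Br) :=
          hb ▸ Ideal.mem_map_of_mem _ hb'
        rcases hqr.mem_or_mem this with h | h
        · exact (qC.primeCompl.mul_mem ht hu : t * u ∈ qC.primeCompl) h
        · exact hrq (‹q.IsPrime›.mem_of_pow_mem n (hqc.le h))
      refine ha (RingHom.mem_ker.2 ?_)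
      have h4 := hBA a b hbq (by
        rw [map_mul, ← IsScalarTower.algebraMap_apply, ← hb,
          show φ (t * u) * algebraMap B Br (r ^ n) * algebraMap A Br a =
            φ (t * u) * algebraMap A Br a * algebraMap B Br (r ^ n) by ring, h2, zero_mul])
      let _ := Localization.AtPrime.algebraOfLiesOver p qC
      rw [IsScalarTower.algebraMap_apply A (Localization.AtPrime p) D, h4, map_zero]
    obtain ⟨Q, hQ, hLQ, hQd⟩ := Ideal.exists_le_prime_disjoint L _ hdisj
    have hle : Q.comap (algebraMap A D) ≤ p₀ := fun a ha => by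
      by_contra hn
      exact Set.disjoint_left.1 hQd ha ⟨a, hn, rfl⟩
    have heq := Algebra.QuasiFinite.eq_of_le_of_under_eq (R := A) (⊥ : Ideal D) Q bot_le
      (le_antisymm (Ideal.comap_mono bot_le) hle)
    exact hL (eq_bot_iff.2 (hLQ.trans heq.ge))
  -- step 2: one element kills the kernel
  obtain ⟨h, hh, hhk⟩ : ∃ h : P.Ring, h ∉ qC ∧ ∀ x, φ x = 0 → h * x = 0 := by
    rcases hfin with hFP | hdom
    · have : Algebra.FinitePresentation B Br :=
        IsLocalization.Away.finitePresentation r
      have : Algebra.FinitePresentation A Br := Algebra.FinitePresentation.trans A B Br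
      obtain ⟨G, hG⟩ := Algebra.FinitePresentation.ker_fG_of_surjective φ hφ
      have hG' : ∀ x ∈ G, ∃ h : qC.primeCompl, (h : P.Ring) * x = 0 := fun x hx =>
        (IsLocalization.map_eq_zero_iff qC.primeCompl D x).1
          (hker x (show x ∈ RingHom.ker φ.toRingHom from hG ▸ Ideal.subset_span hx))
      choose hs hhs using hG'
      refine ⟨∏ x ∈ G.attach, (hs x.1 x.2 : P.Ring), fun hmem => ?_, fun x hx => ?_⟩
      · obtain ⟨x, -, hx⟩ := (‹qC.IsPrime›.prod_mem_iff).1 hmem
        exact (hs x.1 x.2).2 hx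
      · have hx' : x ∈ RingHom.ker φ.toRingHom := hx
        rw [← hG] at hx'
        refine Submodule.span_induction (fun y hy => ?_) (mul_zero _)
          (fun a b _ _ ha hb => by rw [mul_add, ha, hb, add_zero])
          (fun c a _ ha => by rw [smul_eq_mul, mul_left_comm, ha, mul_zero]) hx'
        obtain ⟨c, hc⟩ := Finset.dvd_prod_of_mem (fun x : G => (hs x.1 x.2 : P.Ring))
          (Finset.mem_attach G ⟨y, hy⟩)
        rw [hc, mul_comm _ c, mul_assoc, hhs y hy, mul_zero]
    · have : _root_.IsReduced P.Ring := Hens.isReduced_of_etale A P.Ring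
      have hfinmin : (minimalPrimes P.Ring).Finite := by
        refine (Algebra.QuasiFinite.finite_primesOver (R := A) (S := P.Ring) ⊥).subset fun Q hQ => ?_
        exact ⟨hQ.1.1, ⟨(eq_bot_iff.2 ((comap_mem_minimalPrimes_of_flat (R := A) (T := P.Ring) Q hQ).2
          ⟨Ideal.isPrime_bot, le_rfl⟩ bot_le)).symm⟩⟩
      let bad := hfinmin.toFinset.filter fun Q => ¬ Q ≤ qC
      have hbad : ∀ Q ∈ bad, ∃ y ∈ Q, y ∉ qC := fun Q hQ =>
        SetLike.not_le_iff_exists.1 (Finset.mem_filter.1 hQ).2
      choose y hyQ hyq using hbad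
      refine ⟨∏ Q ∈ bad.attach, y Q.1 Q.2, fun hmem => ?_, fun x hx => ?_⟩
      · obtain ⟨Q, -, hQ⟩ := (‹qC.IsPrime›.prod_mem_iff).1 hmem
        exact hyq Q.1 Q.2 hQ
      · have : (∏ Q ∈ bad.attach, y Q.1 Q.2) * x ∈ nilradical P.Ring := by
          rw [nilradical, Ideal.zero_eq_bot, ← Ideal.sInf_minimalPrimes, Ideal.mem_sInf]
          intro Q hQ
          have := hQ.1.1
          by_cases hQq : Q ≤ qC
          · refine Ideal.mul_mem_left _ _ ?_
            obtain ⟨s, hs⟩ := (IsLocalization.map_eq_zero_iff qC.primeCompl D x).1 (hker x hx)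
            exact (‹Q.IsPrime›.mem_or_mem (hs ▸ Q.zero_mem : (s : P.Ring) * x ∈ Q)).resolve_left
              fun hsQ => s.2 (hQq hsQ)
          · refine Ideal.mul_mem_right _ _ ?_
            have hQb : Q ∈ bad := Finset.mem_filter.2 ⟨hfinmin.mem_toFinset.2 hQ, hQq⟩
            obtain ⟨c, hc⟩ := Finset.dvd_prod_of_mem (fun Q : bad => y Q.1 Q.2)
              (Finset.mem_attach bad ⟨Q, hQb⟩)
            rw [hc]
            exact Ideal.mul_mem_right _ _ (hyQ Q hQb)
        rwa [nilradical_eq_zero, Ideal.zero_eq_bot, Ideal.mem_bot] at this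
  -- step 3: the localization
  obtain ⟨⟨b, ⟨_, n, rfl⟩⟩, hb⟩ := IsLocalization.surj (.powers r) (φ h)
  obtain ⟨u, hu⟩ := hφ (algebraMap B Br (r ^ n))
  have hb' : φ (h * u) = algebraMap B Br b := by rw [map_mul, hu, hb]
  have hbq : b ∉ q := by
    intro hbq
    have : φ h * algebraMap B Br (r ^ n) ∈ q.map (algebraMap B Br) := hb ▸ Ideal.mem_map_of_mem _ hbq
    rcases hqr.mem_or_mem this with h' | h'
    · exact hh h'
    · exact hrq (‹q.IsPrime›.mem_of_pow_mem n (hqc.le h'))
  refine ⟨b * r, fun hmem => (‹q.IsPrime›.mem_or_mem hmem).elim hbq hrq, ?_⟩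
  let T := Localization.Away (algebraMap B Br b)
  have hinjφ : Function.Injective (Localization.awayMapₐ φ (h * u)) := by
    refine (injective_iff_map_eq_zero _).2 fun z hz => ?_
    obtain ⟨x, ⟨_, m, rfl⟩, rfl⟩ := IsLocalization.exists_mk'_eq (.powers (h * u)) z
    rw [IsLocalization.mk'_eq_zero_iff]
    have hz' : IsLocalization.Away.map (Localization.Away (h * u)) (Localization.Away (φ (h * u)))
        φ.toRingHom (h * u) (IsLocalization.mk' _ x (⟨(h * u) ^ m, m, rfl⟩ : Submonoid.powers (h * u))) = 0 := hz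
    rw [IsLocalization.Away.map, IsLocalization.map_mk', IsLocalization.mk'_eq_zero_iff] at hz'
    obtain ⟨⟨_, k, rfl⟩, hk⟩ := hz'
    have hk' : φ ((h * u) ^ k * x) = 0 := by rw [map_mul, map_pow]; exact hk
    refine ⟨⟨(h * u) ^ (k + 1), k + 1, rfl⟩, ?_⟩
    show (h * u) ^ (k + 1) * x = 0
    rw [pow_succ', mul_assoc, mul_assoc, mul_left_comm, hhk _ hk', mul_zero]
  have hsurj : Function.Surjective (Localization.awayMapₐ φ (h * u)) := fun z => by
    obtain ⟨y, ⟨_, m, rfl⟩, rfl⟩ := IsLocalization.exists_mk'_eq (.powers (φ (h * u))) z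
    obtain ⟨x, rfl⟩ := hφ y
    refine ⟨IsLocalization.mk' _ x (⟨(h * u) ^ m, m, rfl⟩ : Submonoid.powers (h * u)), ?_⟩
    show IsLocalization.Away.map (Localization.Away (h * u)) (Localization.Away (φ (h * u)))
        φ.toRingHom (h * u) _ = _
    rw [IsLocalization.Away.map, IsLocalization.map_mk']
    exact congrArg (IsLocalization.mk' _ _) (Subtype.ext (map_pow φ (h * u) m))
  have : Algebra.Etale A (Localization.Away (h * u)) := Algebra.Etale.comp A P.Ring _
  have hE : Algebra.Etale A (Localization.Away (φ (h * u))) :=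
    Algebra.Etale.of_equiv (AlgEquiv.ofBijective _ ⟨hinjφ, hsurj⟩)
  rw [hb'] at hE
  have : IsLocalization.Away (b * r) T := IsLocalization.Away.mul (S := Br) T r b
  exact Algebra.Etale.of_equiv
    ((IsLocalization.algEquiv (.powers (b * r)) T (Localization.Away (b * r))).restrictScalars A)

end Groth.Agent.Branch14
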