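import Groth.Agent.Lib.Branch14.UnrEtaleScheme
import Groth.Agent.Lib.AlgSpDescent.SchemeSource
import Mathlib.AlgebraicGeometry.Morphisms.QuasiFinite

/-!
# Unramified morphisms over a geometrically unibranch base
-/

universe u

set_option backward.isDefEq.respectTransparency.types false
set_option maxSynthPendingDepth 3

open AlgebraicGeometry CategoryTheory IsLocalRing TopologicalSpace

namespace Groth.Agent.Branch14

variable {X Y : Scheme.{u}}

theorem locallyQuasiFinite_of_formallyUnramified (f : X ⟶ Y) [LocallyOfFiniteType f]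
    [FormallyUnramified f] : LocallyQuasiFinite f := by
  rw [HasRingHomProperty.iff_appLE (P := @LocallyQuasiFinite)]
  intro U V e
  have hun := f.formallyUnramified_appLE U.2 V.2 e
  have hft : (f.appLE U.1 V.1 e).hom.FiniteType :=
    HasRingHomProperty.appLE @LocallyOfFiniteType f inferInstance U V e
  algebraize [(f.appLE U.1 V.1 e).hom]
  show Algebra.QuasiFinite Γ(Y, U.1) Γ(X, V.1)
  infer_instance

/-- Over a geometrically unibranch integral base every point of a connected unramified scheme with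
a point over the generic point is a specialization of such a point. -/
theorem forall_exists_generization (f : X ⟶ Y) [IsIntegral Y]
    (hY : ∀ y : Y, CAlg2.IsGeomUnibranch (Y.presheaf.stalk y)) [ConnectedSpace X]
    [FormallyUnramified f] [LocallyOfFiniteType f] (hη : ∃ x : X, f x = genericPoint Y) :
    ∀ x : X, ∃ x' : X, x' ⤳ x ∧ f x' = genericPoint Y := by
  have := locallyQuasiFinite_of_formallyUnramified f
  let T : Set X := {x | ∃ x' : X, x' ⤳ x ∧ f x' = genericPoint Y}
  suffices h : IsClopen T by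
    obtain ⟨x₀, hx₀⟩ := hη
    rcases isClopen_iff.1 h with h | h
    · exact absurd (show x₀ ∈ T from ⟨x₀, specializes_rfl, hx₀⟩) (by rw [h]; exact Set.notMem_empty _)
    · exact fun x => (h ▸ Set.mem_univ x : x ∈ T)
  refine ⟨?_, isOpen_iff_forall_mem_open.2 fun x ⟨x', hx', hfx'⟩ => ?_⟩
  · refine isOpen_compl_iff.1 (isOpen_iff_forall_mem_open.2 fun x hx => ?_)
    obtain ⟨W, hW, hxW, -⟩ := exists_isAffineOpen_mem_and_subset (x := f x) (U := ⊤) trivial
    obtain ⟨V, hV, hxV, hVW⟩ := exists_isAffineOpen_mem_and_subset (x := x) (U := f ⁻¹ᵁ W) hxW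
    have hηW : genericPoint Y ∈ W := (genericPoint_specializes (f x)).mem_open W.2 hxW
    have : IsAffine (V : Scheme.{u}) := hV
    have : IsAffine (W : Scheme.{u}) := hW
    have hfin := (f.resLE W V hVW).finite_preimage_singleton ⟨genericPoint Y, hηW⟩
    let C : Set X := ⋃ w ∈ f.resLE W V hVW ⁻¹' {⟨genericPoint Y, hηW⟩}, closure {(w.1 : X)}
    refine ⟨(V : Set X) \ C, fun y hy hyT => ?_,
      V.2.sdiff (hfin.isClosed_biUnion fun w _ => isClosed_closure), hxV, ?_⟩
    · obtain ⟨y', hy', hfy'⟩ := hyT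
      have hyV : y' ∈ V := hy'.mem_open V.2 hy.1
      exact hy.2 (Set.mem_biUnion (x := (⟨y', hyV⟩ : V))
        (Subtype.ext ((Scheme.Hom.coe_resLE_apply ..).trans hfy')) hy'.mem_closure)
    · intro hxC
      obtain ⟨w, hw, hxw⟩ := Set.mem_iUnion₂.1 hxC
      exact hx ⟨w.1, specializes_iff_mem_closure.2 hxw,
        (Scheme.Hom.coe_resLE_apply ..).symm.trans (congrArg Subtype.val hw)⟩
  · obtain ⟨U, hxU, hU⟩ := exists_etale_nhd f x inferInstance (hY (f x))
      (injective_stalkMap_of_specializes f hx' hfx') (Or.inr inferInstance) ⟨⊤, trivial, IsZariskiLocalAtSource.comp (P := @FormallyUnramified) ‹FormallyUnramified f› _⟩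
    refine ⟨U, fun y hy => ?_, U.2, hxU⟩
    obtain ⟨w, hw, hwf⟩ := Flat.generalizingMap (U.ι ≫ f) (genericPoint_specializes ((U.ι ≫ f) ⟨y, hy⟩))
    exact ⟨U.ι w, hw.map U.ι.continuous, hwf⟩

theorem etale_of_unramified_dominant (f : X ⟶ Y) [IsIntegral Y]
    (hY : ∀ y : Y, CAlg2.IsGeomUnibranch (Y.presheaf.stalk y)) [ConnectedSpace X]
    [FormallyUnramified f] [LocallyOfFiniteType f] (hη : ∃ x : X, f x = genericPoint Y) :
    Etale f := by
  have h := forall_exists_generization f hY hη
  have h2 : ∀ x, ∃ U : X.Opens, x ∈ U ∧ Etale (U.ι ≫ f) := fun x => by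
    obtain ⟨x', hx', hfx'⟩ := h x
    exact exists_etale_nhd f x inferInstance (hY (f x))
      (injective_stalkMap_of_specializes f hx' hfx') (Or.inr inferInstance) ⟨⊤, trivial, IsZariskiLocalAtSource.comp (P := @FormallyUnramified) ‹FormallyUnramified f› _⟩
  choose U hxU hU using h2
  rw [IsZariskiLocalAtSource.iff_of_iSup_eq_top (P := @Etale) U
    (eq_top_iff.2 fun x _ => Opens.mem_iSup.2 ⟨x, hxU x⟩)]
  exact hU

end Groth.Agent.Branch14
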