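import Groth.Agent.Lib.Branch14.UnrEtale
import Mathlib.AlgebraicGeometry.FunctionField

/-!
# Unramified morphisms over geometrically unibranch points
-/

universe u

set_option backward.isDefEq.respectTransparency.types false
set_option maxSynthPendingDepth 3
set_option linter.style.haveILetI false

open AlgebraicGeometry CategoryTheory IsLocalRing

namespace Groth.Agent.Branch14

variable {X Y : Scheme.{u}}

theorem exists_etale_nhd_aux (f : X ⟶ Y) [LocallyOfFiniteType f] [FormallyUnramified f] (x : X)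
    (hY : IsDomain (Y.presheaf.stalk (f x))) (hY' : CAlg2.IsGeomUnibranch (Y.presheaf.stalk (f x)))
    (hinj : Function.Injective (f.stalkMap x))
    (hfin : LocallyOfFinitePresentation f ∨ IsIntegral Y) :
    ∃ U : X.Opens, x ∈ U ∧ Etale (U.ι ≫ f) := by
  obtain ⟨W, hW, hxW, -⟩ := exists_isAffineOpen_mem_and_subset (x := f x) (U := ⊤) trivial
  obtain ⟨V, hV, hxV, hVW⟩ := exists_isAffineOpen_mem_and_subset (x := x) (U := f ⁻¹ᵁ W) hxW
  have hun := f.formallyUnramified_appLE hW hV hVW
  have hft : (f.appLE W V hVW).hom.FiniteType :=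
    HasRingHomProperty.appLE @LocallyOfFiniteType f inferInstance ⟨W, hW⟩ ⟨V, hV⟩ hVW
  algebraize [(f.appLE W V hVW).hom]
  let p := (hW.primeIdealOf ⟨f x, hxW⟩).asIdeal
  let q := (hV.primeIdealOf ⟨x, hxV⟩).asIdeal
  let _ := TopCat.Presheaf.algebra_section_stalk Y.presheaf (⟨f x, hxW⟩ : W)
  let _ := TopCat.Presheaf.algebra_section_stalk X.presheaf (⟨x, hxV⟩ : V)
  have := hW.isLocalization_stalk ⟨f x, hxW⟩
  have := hV.isLocalization_stalk ⟨x, hxV⟩
  have hnat : ∀ a : Γ(Y, W), f.stalkMap x (algebraMap Γ(Y, W) (Y.presheaf.stalk (f x)) a) =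
      algebraMap Γ(X, V) (X.presheaf.stalk x) (algebraMap Γ(Y, W) Γ(X, V) a) := fun a => by
    show f.stalkMap x (Y.presheaf.germ W (f x) hxW a) =
      X.presheaf.germ V x hxV ((f.app W ≫ X.presheaf.map (homOfLE hVW).op) a)
    rw [Scheme.Hom.germ_stalkMap_apply, CommRingCat.comp_apply]; exact (TopCat.Presheaf.germ_res_apply X.presheaf (homOfLE hVW) x hxV _).symm
  have hlie : q.LiesOver p := ⟨by
    ext a
    rw [Ideal.mem_comap, ← IsLocalization.AtPrime.to_map_mem_maximal_iff (Y.presheaf.stalk (f x)) p a,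
      ← IsLocalization.AtPrime.to_map_mem_maximal_iff (X.presheaf.stalk x) q, ← hnat]
    exact ((local_hom_TFAE (f.stalkMap x).hom).out 0 4 rfl rfl).mp inferInstance |>.symm ▸ Iff.rfl⟩
  let eY : Y.presheaf.stalk (f x) ≃+* Localization.AtPrime p :=
    (IsLocalization.algEquiv p.primeCompl (Y.presheaf.stalk (f x)) (Localization.AtPrime p)).toRingEquiv
  have hd : IsDomain (Localization.AtPrime p) := eY.symm.injective.isDomain eY.symm.toRingHom
  have hA : CAlg2.IsGeomUnibranch (Localization.AtPrime p) := by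
    rw [← numGeomBranches_eq_one_iff] at hY' ⊢
    rwa [← numGeomBranches_of_ringEquiv eY]
  have hinj' : Function.Injective
      (Localization.localRingHom p q (algebraMap Γ(Y, W) Γ(X, V)) (q.over_def p)) := by
    refine (injective_iff_map_eq_zero _).2 fun z hz => ?_
    obtain ⟨a, s, rfl⟩ := IsLocalization.exists_mk'_eq p.primeCompl z
    rw [Localization.localRingHom_mk', IsLocalization.mk'_eq_zero_iff] at hz
    obtain ⟨t, ht⟩ := hz
    rw [IsLocalization.mk'_eq_zero_iff]
    have h0 : f.stalkMap x (algebraMap Γ(Y, W) (Y.presheaf.stalk (f x)) a) = 0 := by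
      rw [hnat]
      exact (IsLocalization.map_eq_zero_iff q.primeCompl _ _).2 ⟨t, ht⟩
    rw [← map_zero (f.stalkMap x).hom] at h0
    exact (IsLocalization.map_eq_zero_iff p.primeCompl (Y.presheaf.stalk (f x)) a).1 (hinj h0)
  have hfin' : Algebra.FinitePresentation Γ(Y, W) Γ(X, V) ∨ IsDomain Γ(Y, W) := by
    rcases hfin with h | h
    · exact Or.inl (RingHom.finitePresentation_algebraMap.1
        (HasRingHomProperty.appLE @LocallyOfFinitePresentation f h ⟨W, hW⟩ ⟨V, hV⟩ hVW))
    · haveI : Nonempty W := ⟨⟨f x, hxW⟩⟩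
      exact Or.inr inferInstance
  obtain ⟨g, hg, hE⟩ := exists_etale_localization p q hd hA hinj' hfin'
  have := hV.isLocalization_basicOpen g
  let e : Localization.Away g ≃ₐ[Γ(X, V)] Γ(X, X.basicOpen g) :=
    IsLocalization.algEquiv (.powers g) _ _
  have hV' : IsAffineOpen (X.basicOpen g) := hV.basicOpen g
  refine ⟨X.basicOpen g, ?_, ?_⟩
  · have h0 : hV.primeIdealOf ⟨x, hxV⟩ ∈ hV.fromSpec ⁻¹ᵁ X.basicOpen g := by
      rw [hV.fromSpec_preimage_basicOpen]
      exact hg
    have h1 := hV.fromSpec_primeIdealOf ⟨x, hxV⟩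
    replace h0 : hV.fromSpec (hV.primeIdealOf ⟨x, hxV⟩) ∈ X.basicOpen g := h0
    rw [h1] at h0
    exact h0
  · let ψ : Γ(Y, W) ⟶ Γ(X, X.basicOpen g) := f.appLE W (X.basicOpen g) ((X.basicOpen_le g).trans hVW)
    have hψ : ψ.hom = (e.toAlgHom.toRingHom).comp (algebraMap Γ(Y, W) (Localization.Away g)) := by
      ext a
      show ψ a = e (algebraMap Γ(Y, W) (Localization.Away g) a)
      rw [IsScalarTower.algebraMap_apply Γ(Y, W) Γ(X, V) (Localization.Away g), AlgEquiv.commutes]
      show f.appLE W (X.basicOpen g) _ a = _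
      rw [← Scheme.Hom.appLE_map f hVW (homOfLE (X.basicOpen_le g)).op]
      rfl
    have : Etale (Spec.map ψ) := by
      rw [HasRingHomProperty.Spec_iff (P := @Etale), hψ]
      exact RingHom.Etale.stableUnderComposition _ _ (RingHom.etale_algebraMap.2 hE)
        (RingHom.Etale.of_bijective e.bijective)
    rw [show (X.basicOpen g).ι ≫ f = hV'.isoSpec.hom ≫ Spec.map ψ ≫ hW.fromSpec by
      rw [IsAffineOpen.SpecMap_appLE_fromSpec f hW hV' ((X.basicOpen_le g).trans hVW),
        IsAffineOpen.isoSpec_hom_fromSpec_assoc]]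
    infer_instance

theorem exists_etale_nhd (f : X ⟶ Y) [LocallyOfFiniteType f] (x : X)
    (hY : IsDomain (Y.presheaf.stalk (f x))) (hY' : CAlg2.IsGeomUnibranch (Y.presheaf.stalk (f x)))
    (hinj : Function.Injective (f.stalkMap x))
    (hfin : LocallyOfFinitePresentation f ∨ IsIntegral Y)
    (hunr : ∃ U : X.Opens, x ∈ U ∧ FormallyUnramified (U.ι ≫ f)) :
    ∃ U : X.Opens, x ∈ U ∧ Etale (U.ι ≫ f) := by
  obtain ⟨U, hxU, hU⟩ := hunr
  have hinj' : Function.Injective ((U.ι ≫ f).stalkMap ⟨x, hxU⟩) := by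
    rw [Scheme.Hom.stalkMap_comp]
    exact (CategoryTheory.asIso (U.ι.stalkMap ⟨x, hxU⟩)).commRingCatIsoToRingEquiv.injective.comp hinj
  have hfin' : LocallyOfFinitePresentation (U.ι ≫ f) ∨ IsIntegral Y := by
    rcases hfin with h | h
    · exact Or.inl inferInstance
    · exact Or.inr h
  obtain ⟨V, hxV, hV⟩ := exists_etale_nhd_aux (U.ι ≫ f) ⟨x, hxU⟩ hY hY' hinj' hfin'
  refine ⟨U.ι ''ᵁ V, ⟨⟨x, hxU⟩, hxV, rfl⟩, ?_⟩
  rw [show (U.ι ''ᵁ V).ι ≫ f = (U.ι.isoImage V).inv ≫ V.ι ≫ U.ι ≫ f by
    rw [Scheme.Hom.isoImage_inv_ι_assoc]]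
  infer_instance

theorem injective_stalkMap_of_specializes [IsIntegral Y] (f : X ⟶ Y) {x x' : X} (h : x' ⤳ x)
    (hx' : f x' = genericPoint Y) : Function.Injective (f.stalkMap x) := by
  have hs : f x' ⤳ f x := f.base.hom.map_specializes h
  have hF : IsField (Y.presheaf.stalk (f x')) := by
    rw [hx']
    exact Field.toIsField Y.functionField
  let _ : Field (Y.presheaf.stalk (f x')) := hF.toField
  have h1 : Function.Injective (Y.presheaf.stalkSpecializes hs) := by
    have h2 : Function.Injective (algebraMap (Y.presheaf.stalk (f x)) Y.functionField) :=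
      IsFractionRing.injective _ _
    intro a b hab
    apply h2
    show Y.presheaf.stalkSpecializes (genericPoint_specializes (f x)) a =
      Y.presheaf.stalkSpecializes (genericPoint_specializes (f x)) b
    rw [← TopCat.Presheaf.stalkSpecializes_comp_apply Y.presheaf
      (specializes_of_eq hx'.symm) hs, ← TopCat.Presheaf.stalkSpecializes_comp_apply Y.presheaf
      (specializes_of_eq hx'.symm) hs]
    exact congrArg (Y.presheaf.stalkSpecializes _) hab
  intro a b hab
  apply h1
  apply (f.stalkMap x').hom.injective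
  show f.stalkMap x' (Y.presheaf.stalkSpecializes hs a) = f.stalkMap x' (Y.presheaf.stalkSpecializes hs b)
  rw [Scheme.Hom.stalkSpecializes_stalkMap_apply f x' x h, Scheme.Hom.stalkSpecializes_stalkMap_apply f x' x h, hab]

end Groth.Agent.Branch14
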